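import Cfsg.Agent.Cod.Gen

/-! A Sylow 2-subgroup of `L₃(4)` and its extensions. -/

set_option autoImplicit false
set_option maxRecDepth 1000000
set_option maxHeartbeats 0
set_option Elab.async false

namespace CF.Gb

open CF.Comp CF.Cod

noncomputable def RU : List (List Nat) := [[(nat_lit 1), (nat_lit 1)],
  [(nat_lit 3), (nat_lit 3)],
  [(nat_lit 5), (nat_lit 5)],
  [(nat_lit 7), (nat_lit 7)],
  [(nat_lit 1), (nat_lit 3), (nat_lit 1), (nat_lit 3)],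
  [(nat_lit 5), (nat_lit 7), (nat_lit 5), (nat_lit 7)],
  [(nat_lit 1), (nat_lit 5), (nat_lit 1), (nat_lit 5), (nat_lit 1), (nat_lit 5), (nat_lit 1), (nat_lit 5)],
  [(nat_lit 3), (nat_lit 7), (nat_lit 3), (nat_lit 7), (nat_lit 3), (nat_lit 7), (nat_lit 3), (nat_lit 7)],
  [(nat_lit 1), (nat_lit 7), (nat_lit 1), (nat_lit 7), (nat_lit 3), (nat_lit 5), (nat_lit 3), (nat_lit 5)],
  [(nat_lit 1), (nat_lit 7), (nat_lit 1), (nat_lit 7), (nat_lit 1), (nat_lit 5), (nat_lit 1), (nat_lit 5), (nat_lit 3), (nat_lit 7), (nat_lit 3), (nat_lit 7)],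
  [(nat_lit 3), (nat_lit 1), (nat_lit 5), (nat_lit 1), (nat_lit 5), (nat_lit 3), (nat_lit 1), (nat_lit 5), (nat_lit 1), (nat_lit 5)],
  [(nat_lit 7), (nat_lit 1), (nat_lit 5), (nat_lit 1), (nat_lit 5), (nat_lit 7), (nat_lit 1), (nat_lit 5), (nat_lit 1), (nat_lit 5)],
  [(nat_lit 1), (nat_lit 3), (nat_lit 7), (nat_lit 3), (nat_lit 7), (nat_lit 1), (nat_lit 3), (nat_lit 7), (nat_lit 3), (nat_lit 7)],
  [(nat_lit 5), (nat_lit 3), (nat_lit 7), (nat_lit 3), (nat_lit 7), (nat_lit 5), (nat_lit 3), (nat_lit 7), (nat_lit 3), (nat_lit 7)]]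
noncomputable def Rsg4 : List (List Nat) := [[(nat_lit 9), (nat_lit 1), (nat_lit 10), (nat_lit 2)],
  [(nat_lit 9), (nat_lit 3), (nat_lit 10), (nat_lit 4), (nat_lit 2)],
  [(nat_lit 9), (nat_lit 5), (nat_lit 10), (nat_lit 6)],
  [(nat_lit 9), (nat_lit 7), (nat_lit 10), (nat_lit 8), (nat_lit 6)]]
noncomputable def Rta4 : List (List Nat) := [[(nat_lit 9), (nat_lit 1), (nat_lit 10), (nat_lit 6)],
  [(nat_lit 9), (nat_lit 3), (nat_lit 10), (nat_lit 8)],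
  [(nat_lit 9), (nat_lit 5), (nat_lit 10), (nat_lit 2)],
  [(nat_lit 9), (nat_lit 7), (nat_lit 10), (nat_lit 4)]]
noncomputable def Rst4 : List (List Nat) := [[(nat_lit 9), (nat_lit 1), (nat_lit 10), (nat_lit 6)],
  [(nat_lit 9), (nat_lit 3), (nat_lit 10), (nat_lit 8), (nat_lit 6)],
  [(nat_lit 9), (nat_lit 5), (nat_lit 10), (nat_lit 2)],
  [(nat_lit 9), (nat_lit 7), (nat_lit 10), (nat_lit 4), (nat_lit 2)]]
noncomputable def Rta5 : List (List Nat) := [[(nat_lit 11), (nat_lit 1), (nat_lit 12), (nat_lit 6)],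
  [(nat_lit 11), (nat_lit 3), (nat_lit 12), (nat_lit 8)],
  [(nat_lit 11), (nat_lit 5), (nat_lit 12), (nat_lit 2)],
  [(nat_lit 11), (nat_lit 7), (nat_lit 12), (nat_lit 4)]]
noncomputable def Sk : List (List Nat) := [[(nat_lit 9), (nat_lit 9)]]
noncomputable def Skr : List (List Nat) := [[(nat_lit 9), (nat_lit 9)],
  [(nat_lit 11), (nat_lit 11)],
  [(nat_lit 9), (nat_lit 11), (nat_lit 9), (nat_lit 11)]]
noncomputable def TU_c0 : BT (Bx Nat) := (BT.leaf (Bx.mk (nat_lit 0xffef7ceebe68df2d74ab6c69beeb67eb3c38b267e475061395e8dc3da5615d26548164626c91cc20638b34a1440c2040)))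
noncomputable def TU_c1 : BT (Bx Nat) := (BT.leaf (Bx.mk (nat_lit 0xeebe68fdaf5799891d55f4e17a3712f9097c3f7a75b8ec0ccafd2d2fa276e08cc7c6c1aa9e21206c365651108d285001)))
noncomputable def TU_c3 : BT (Bx Nat) := (BT.leaf (Bx.mk (nat_lit 0xdeab67999716fe37a55137e0918f5143e74ff3bd2fd8d330c75a79289eae2381f3c86b2ba048a10db69755204e2c0142)))
noncomputable def TU_c5 : BT (Bx Nat) := (BT.leaf (Bx.mk (nat_lit 0xe2e9fbf1d5bf6d55d48626994be46681f424f6c3a8372ceba8be8adf1c09d79db41efb691658c479c6024c13cc008183)))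
noncomputable def TU_c7 : BT (Bx Nat) := (BT.leaf (Bx.mk (nat_lit 0xaedcf169c8a055b517f56f12651fa5fde3e384eb0da399f82ea2badbbbc8d32df51b0b85a669037dd0980534003091c4)))
noncomputable def TU_w : BT (Bx Nat) := (BT.leaf (Bx.mk (nat_lit 0x73731317315153131531073730317305153031530737105371071710517103171037510175107351053510715105151031510373101731075310353101531007370053700717005170031700375001750073500535007150051500315003730017300753003530015300371001710075100351001510073100531000370001700075000350001500073000530007100051000310000700005000030000100000)))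
noncomputable def TU_cols : List (BT (Bx Nat)) := [TU_c0, TU_c1, TU_c1, TU_c3, TU_c3, TU_c5, TU_c5, TU_c7, TU_c7]
noncomputable def TU_ch (x j : Nat) : Bx Nat := chk TU_cols x j
noncomputable def TU_wc (_ j : Nat) : Bx Nat := TU_w.get j
noncomputable def TU : CT := ⟨(nat_lit 64), (nat_lit 6), (nat_lit 63), TU_ch, (nat_lit 20), (nat_lit 1048575), TU_wc, (nat_lit 510)⟩
theorem TU_ok : TU.ok = true := by decide +kernel
theorem TU_rel : lall TU.relOK RU = true := by decide +kernel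
noncomputable def eU_c0 : BT (Bx Nat) := (BT.leaf (Bx.mk (nat_lit 0x0)))
noncomputable def eU_c1 : BT (Bx Nat) := (BT.leaf (Bx.mk (nat_lit 0x1693cc216508eb08534240c20dd94fb08312227210cb8895c43d84164110688510444c21f7112614770827623fd1088889ac47ba210a21c110aa186d0bafc207a90c7441aa4337218432d6c45d840cb11de8828c86f6239d104d88d34411c0b2b116e881f8157c0a8b111e88178143621cd1027026b812fc095e0496100f811dc08bb1036880781040000)))
noncomputable def eU_c2 : BT (Bx Nat) := (BT.leaf (Bx.mk (nat_lit 0x187b8d155c0abb455187a7d14d4a277452f62c0c3126167f0d4da295d14a33a819c438725430cca0fb4525a291e05f9967b4521c0bdb15e58ad6c56162b7d14768a354562a2b2b15b10aaa0575a28bd145702ecc55fa289e05ce8a238169c0b3d143f02b78159c0a9d142f028f8145a284e04e7026f8131c096e049e8a0b811fc08cd140f021b81060000)))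
noncomputable def eU_c3 : BT (Bx Nat) := (BT.leaf (Bx.mk (nat_lit 0xcfb957d7e8ca19a78a33d418f68c5d4680831cd18b30c63462b2b229551a0c6d4935a313419fe8c48864e8321525061245864bc0be3556e8c3dd553a30e8199c0cd14958832bd1862b4ef4616aab8525920cc70914eb36e05d702df816b8488e058702bac655a306e05370293090bc09fe04ed8c6746076314d18170242c61ba301e044f021f81080000)))
noncomputable def eU_c4 : BT (Bx Nat) := (BT.leaf (Bx.mk (nat_lit 0x1a3ac31d7336d21365a39b480ea8e8dc743a396480e68e558730a3be41cbb8ef74726a39ad1c9240fca04dc0c051cfe8e41874883a2d1c788eb7471ce9a9679d2c0a21473a38c64d5e8e2cc77663b7e05e328c34712ea355819f02e3816da387e058f02bf470dc0aae053f02974709c0a0e04f68e0f8133a382e04a702474703c08de04570223810a0000)))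
noncomputable def eU_p : BT (Bx Nat) := (BT.leaf (Bx.mk (nat_lit 0xab04aac2aa03aa0286c4868285c385c2858485838544854385428502850184c484c38484848384828442844184048402840163c463c3638463836382634263416304630362c462c362c2628262816244624262416202620161c461c261c1618461834142414141044102410140c440c3408440834082204420432042204100000000)))
noncomputable def eU_e : BT Nat := BT.leaf (nat_lit 0)
noncomputable def eU_cols : List (BT (Bx Nat)) := [eU_c0, eU_c1, eU_c2, eU_c3, eU_c4]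
noncomputable def eU_ch (x j : Nat) : Bx Nat := chunkG eU_cols (nat_lit 1) x j
noncomputable def eU_L (x : Nat) : Bx (Nat → Nat) := lookG eU_ch (nat_lit 8) (nat_lit 255) (nat_lit 17) (nat_lit 131071) x
noncomputable def eU_pc (_ j : Nat) : Bx Nat := eU_p.get j
noncomputable def eU_pb : Bx (Nat → Nat) := lookG eU_pc (nat_lit 8) (nat_lit 255) (nat_lit 16) (nat_lit 65535) (nat_lit 0)
noncomputable def eU_rots : BT CW := (BT.node (nat_lit 16) (BT.node (nat_lit 8) (BT.node (nat_lit 4) (BT.node (nat_lit 2) (BT.node (nat_lit 1) (BT.leaf ⟨[], (nat_lit 1000000), (nat_lit 0), (nat_lit 0), (nat_lit 0)⟩) (BT.leaf ⟨[], (nat_lit 1000000), (nat_lit 0), (nat_lit 0), (nat_lit 1)⟩)) (BT.node (nat_lit 3) (BT.leaf ⟨[], (nat_lit 1000000), (nat_lit 0), (nat_lit 0), (nat_lit 2)⟩) (BT.leaf ⟨[(nat_lit 1), (nat_lit 1)], (nat_lit 0), (nat_lit 0), (nat_lit 0), (nat_lit 3)⟩))) (BT.node (nat_lit 6) (BT.node (nat_lit 5)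 (BT.leaf ⟨[(nat_lit 2), (nat_lit 2)], (nat_lit 1), (nat_lit 0), (nat_lit 0), (nat_lit 3)⟩) (BT.leaf ⟨[(nat_lit 3), (nat_lit 3)], (nat_lit 2), (nat_lit 0), (nat_lit 0), (nat_lit 3)⟩)) (BT.node (nat_lit 7) (BT.leaf ⟨[(nat_lit 4), (nat_lit 4)], (nat_lit 3), (nat_lit 0), (nat_lit 0), (nat_lit 3)⟩) (BT.leaf ⟨[(nat_lit 1), (nat_lit 2), (nat_lit 1), (nat_lit 2)], (nat_lit 4), (nat_lit 0), (nat_lit 0), (nat_lit 3)⟩)))) (BT.node (nat_lit 12) (BT.node (nat_lit 10) (BT.node (nat_lit 9) (BT.leaf ⟨[(nat_lit 3), (nat_lit 4), (nat_lit 3), (nat_lit 4)], (nat_lit 5), (nat_lit 0), (nat_lit 0), (nat_lit 3)⟩) (BT.leaf ⟨[(nat_lit 1), (nat_lit 3), (nat_lit 1), (nat_lit 3), (nat_lit 1), (nat_lit 3), (nat_lit 1), (nat_lit 3)], (nat_lit 6), (nat_lit 0), (nat_lit 0), (nat_lit 3)⟩)) (BT.node (nat_lit 11) (BT.leaf ⟨[(nat_lit 2), (nat_lit 3), (nat_lit 2), (nat_lit 3), (nat_lit 1), (nat_lit 4), (nat_lit 1), (nat_lit 4)],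 (nat_lit 8), (nat_lit 4), (nat_lit 0), (nat_lit 3)⟩) (BT.leaf ⟨[(nat_lit 2), (nat_lit 3), (nat_lit 1), (nat_lit 4), (nat_lit 1), (nat_lit 4), (nat_lit 2), (nat_lit 3)], (nat_lit 8), (nat_lit 6), (nat_lit 0), (nat_lit 3)⟩))) (BT.node (nat_lit 14) (BT.node (nat_lit 13) (BT.leaf ⟨[(nat_lit 2), (nat_lit 3), (nat_lit 2), (nat_lit 4), (nat_lit 1), (nat_lit 4), (nat_lit 1), (nat_lit 3)], (nat_lit 26), (nat_lit 1), (nat_lit 0), (nat_lit 3)⟩) (BT.leaf ⟨[(nat_lit 2), (nat_lit 4), (nat_lit 1), (nat_lit 4), (nat_lit 1), (nat_lit 3), (nat_lit 2), (nat_lit 3)], (nat_lit 26), (nat_lit 3), (nat_lit 0), (nat_lit 3)⟩)) (BT.node (nat_lit 15) (BT.leaf ⟨[(nat_lit 2), (nat_lit 4), (nat_lit 2), (nat_lit 4), (nat_lit 2), (nat_lit 4), (nat_lit 2), (nat_lit 4)], (nat_lit 7), (nat_lit 0), (nat_lit 0), (nat_lit 3)⟩) (BT.leaf ⟨[(nat_lit 2), (nat_lit 1), (nat_lit 3), (nat_lit 1), (nat_lit 3), (nat_lit 2), (nat_lit 1),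 (nat_lit 3), (nat_lit 1), (nat_lit 3)], (nat_lit 10), (nat_lit 0), (nat_lit 0), (nat_lit 3)⟩))))) (BT.node (nat_lit 24) (BT.node (nat_lit 20) (BT.node (nat_lit 18) (BT.node (nat_lit 17) (BT.leaf ⟨[(nat_lit 2), (nat_lit 3), (nat_lit 1), (nat_lit 3), (nat_lit 1), (nat_lit 2), (nat_lit 3), (nat_lit 1), (nat_lit 3), (nat_lit 1)], (nat_lit 28), (nat_lit 4), (nat_lit 0), (nat_lit 3)⟩) (BT.leaf ⟨[(nat_lit 1), (nat_lit 2), (nat_lit 4), (nat_lit 2), (nat_lit 4), (nat_lit 1), (nat_lit 2), (nat_lit 4), (nat_lit 2), (nat_lit 4)], (nat_lit 12), (nat_lit 0), (nat_lit 0), (nat_lit 3)⟩)) (BT.node (nat_lit 19) (BT.leaf ⟨[(nat_lit 4), (nat_lit 1), (nat_lit 4), (nat_lit 1), (nat_lit 3), (nat_lit 2), (nat_lit 3), (nat_lit 2)], (nat_lit 26), (nat_lit 4), (nat_lit 0), (nat_lit 3)⟩) (BT.leaf ⟨[(nat_lit 4), (nat_lit 2), (nat_lit 3), (nat_lit 2), (nat_lit 3), (nat_lit 1), (nat_lit 4), (nat_lit 1)], (nat_lit 8), (nat_lit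 3), (nat_lit 0), (nat_lit 3)⟩))) (BT.node (nat_lit 22) (BT.node (nat_lit 21) (BT.leaf ⟨[(nat_lit 3), (nat_lit 1), (nat_lit 4), (nat_lit 1), (nat_lit 4), (nat_lit 2), (nat_lit 3), (nat_lit 2)], (nat_lit 8), (nat_lit 7), (nat_lit 0), (nat_lit 3)⟩) (BT.leaf ⟨[(nat_lit 3), (nat_lit 2), (nat_lit 3), (nat_lit 2), (nat_lit 4), (nat_lit 1), (nat_lit 4), (nat_lit 1)], (nat_lit 26), (nat_lit 0), (nat_lit 0), (nat_lit 3)⟩)) (BT.node (nat_lit 23) (BT.leaf ⟨[(nat_lit 1), (nat_lit 4), (nat_lit 1), (nat_lit 4), (nat_lit 2), (nat_lit 3), (nat_lit 2), (nat_lit 3)], (nat_lit 8), (nat_lit 0), (nat_lit 0), (nat_lit 3)⟩) (BT.leaf ⟨[(nat_lit 1), (nat_lit 4), (nat_lit 1), (nat_lit 3), (nat_lit 2), (nat_lit 3), (nat_lit 2), (nat_lit 4)], (nat_lit 26), (nat_lit 5), (nat_lit 0), (nat_lit 3)⟩)))) (BT.node (nat_lit 28) (BT.node (nat_lit 26) (BT.node (nat_lit 25) (BT.leaf ⟨[(nat_lit 1), (nat_lit 3), (nat_lit 2), (nat_lit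 3), (nat_lit 2), (nat_lit 4), (nat_lit 1), (nat_lit 4)], (nat_lit 26), (nat_lit 7), (nat_lit 0), (nat_lit 3)⟩) (BT.leaf ⟨[(nat_lit 3), (nat_lit 2), (nat_lit 4), (nat_lit 2), (nat_lit 4), (nat_lit 1), (nat_lit 4), (nat_lit 1), (nat_lit 4), (nat_lit 1), (nat_lit 3), (nat_lit 1)], (nat_lit 9), (nat_lit 7), (nat_lit 0), (nat_lit 3)⟩)) (BT.node (nat_lit 27) (BT.leaf ⟨[(nat_lit 4), (nat_lit 2), (nat_lit 4), (nat_lit 1), (nat_lit 4), (nat_lit 1), (nat_lit 4), (nat_lit 1), (nat_lit 3), (nat_lit 1), (nat_lit 3), (nat_lit 2)], (nat_lit 9), (nat_lit 9), (nat_lit 0), (nat_lit 3)⟩) (BT.leaf ⟨[(nat_lit 2), (nat_lit 4), (nat_lit 1), (nat_lit 4), (nat_lit 1), (nat_lit 4), (nat_lit 1), (nat_lit 3), (nat_lit 1), (nat_lit 3), (nat_lit 2), (nat_lit 4)], (nat_lit 9), (nat_lit 10), (nat_lit 0), (nat_lit 3)⟩))) (BT.node (nat_lit 30) (BT.node (nat_lit 29) (BT.leaf ⟨[(nat_lit 2), (nat_lit 4), (nat_lit 2), (nat_lit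 3), (nat_lit 1), (nat_lit 3), (nat_lit 1), (nat_lit 4), (nat_lit 1), (nat_lit 4), (nat_lit 1), (nat_lit 4)], (nat_lit 27), (nat_lit 1), (nat_lit 0), (nat_lit 3)⟩) (BT.leaf ⟨[(nat_lit 4), (nat_lit 2), (nat_lit 3), (nat_lit 1), (nat_lit 3), (nat_lit 1), (nat_lit 4), (nat_lit 1), (nat_lit 4), (nat_lit 1), (nat_lit 4), (nat_lit 2)], (nat_lit 27), (nat_lit 2), (nat_lit 0), (nat_lit 3)⟩)) (BT.node (nat_lit 31) (BT.leaf ⟨[(nat_lit 3), (nat_lit 1), (nat_lit 3), (nat_lit 1), (nat_lit 4), (nat_lit 1), (nat_lit 4), (nat_lit 1), (nat_lit 4), (nat_lit 2), (nat_lit 4), (nat_lit 2)], (nat_lit 27), (nat_lit 4), (nat_lit 0), (nat_lit 3)⟩) (BT.leaf ⟨[(nat_lit 4), (nat_lit 3), (nat_lit 4), (nat_lit 3)], (nat_lit 5), (nat_lit 1), (nat_lit 0), (nat_lit 3)⟩))))))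
noncomputable def eU_hcs : List CW := []
noncomputable def eU_H (x j : Nat) : Bx (Nat → Nat → Nat) := mkH eU_L eU_pb.1 eU_e.get (lmap CW.w eU_hcs) (nat_lit 64) (nat_lit 65) (nat_lit 5) (nat_lit 128) (nat_lit 8192) (nat_lit 8191) x (eU_rots.get j)
noncomputable def eU_F (x b : Nat) : Bool := blkOK eU_H eU_ch (nat_lit 65) (nat_lit 128) (nat_lit 64) (nat_lit 8) (nat_lit 255) (nat_lit 17) (nat_lit 131071) x b

theorem eU_k0_0 : allFrom (eU_F (nat_lit 0)) (nat_lit 0) (nat_lit 4) = true := by decide +kernel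
theorem eU_k1_0 : allFrom (eU_F (nat_lit 1)) (nat_lit 0) (nat_lit 4) = true := by decide +kernel
theorem eU_k2_0 : allFrom (eU_F (nat_lit 2)) (nat_lit 0) (nat_lit 4) = true := by decide +kernel
theorem eU_k3_0 : allFrom (eU_F (nat_lit 3)) (nat_lit 0) (nat_lit 4) = true := by decide +kernel
theorem eU_k4_0 : allFrom (eU_F (nat_lit 4)) (nat_lit 0) (nat_lit 4) = true := by decide +kernel

theorem eU_all : Cov eU_F 4 5 0 := by
  have h := Cov.zero eU_F 4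
  have h := h.blk (b := 4) eU_k0_0 rfl
  have h := h.next (y := 1) rfl rfl
  have h := h.blk (b := 4) eU_k1_0 rfl
  have h := h.next (y := 2) rfl rfl
  have h := h.blk (b := 4) eU_k2_0 rfl
  have h := h.next (y := 3) rfl rfl
  have h := h.blk (b := 4) eU_k3_0 rfl
  have h := h.next (y := 4) rfl rfl
  have h := h.blk (b := 4) eU_k4_0 rfl
  have h := h.next (y := 5) rfl rfl
  exact h

theorem eU : Enum RU [] (gensW 4) 64 :=
  ⟨eU_cols, eU_ch, eU_L, eU_H, eU_pb.1, eU_e.get, [(nat_lit 0), (nat_lit 1), (nat_lit 3), (nat_lit 5), (nat_lit 7)], (nat_lit 15), (nat_lit 4), eU_rots, eU_hcs,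
    (nat_lit 65), (nat_lit 5), (nat_lit 128), (nat_lit 64), (nat_lit 8192), (nat_lit 8191), (nat_lit 8), (nat_lit 255), (nat_lit 17), (nat_lit 131071), (nat_lit 1), (nat_lit 4),
    fun _ _ => rfl, fun _ => rfl, fun _ _ => rfl, by decide +kernel, eU_all.1⟩

theorem pU : TU.Pres RU (gensW 4) := ⟨CT.ok_spec TU_ok, lall_iff.1 TU_rel, by decide +kernel,
  by decide +kernel, by decide +kernel, eU.bound (ug_rels _) (bound_nil _)⟩

instance instTU : TU.Grp := pU.grp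

noncomputable def RUs : List (List Nat) := lapp RU (lapp Rsg4 Sk)
noncomputable def TUs_c0 : BT (Bx Nat) := (BT.node (nat_lit 1) (BT.leaf (Bx.mk (nat_lit 0x7ef9ebc76adca86ec9ab454d98a95eb96a774cd8385898fa43a40c134a7919c1e68aa12e48c9440588a2362438c101870b1a282840608080))) (BT.leaf (Bx.mk (nat_lit 0xc9bbcd7eb8fef8bdcfddaedaaa49cdfb6d6bbca768a5beafff562847b3df5dc91d2fe2f9b32f19b9e8e197a69c49f1b85bc12a14c87160c0))))
noncomputable def TUs_c1 : BT (Bx Nat) := (BT.node (nat_lit 1) (BT.leaf (Bx.mk (nat_lit 0x76adca87e69e974c6121d2a7c9a13c8ce127c412bc1edd4b55c3980c64bda2d16e84b6702198762b032a4e88220360cc96284410d1414001))) (BT.leaf (Bx.mk (nat_lit 0xf7afce8ff6bed7cd6325dab7e9e1bd8ee52fd432fc9fdf4f5dd3b84ce5bfa6d97ea4f6f1239c7e3b236acf8a260b70ecd6a94614d9516041))))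
noncomputable def TUs_c3 : BT (Bx Nat) := (BT.node (nat_lit 1) (BT.leaf (Bx.mk (nat_lit 0x6ea96a74c64e167e8cf25284cfa04861e9120f8e8f78eda2f6c3463062d54b91425d2e10e03b3641962b5011121066cd172a4808e1600282))) (BT.leaf (Bx.mk (nat_lit 0xcd42e4fef276c8f7bb7e98fc794cebdbcc6d5afa67d1feedeb113061a7932fd8766d63ad5ea55bf4697ef936770952fd78e7b2062b706145))))
noncomputable def TUs_c5 : BT (Bx Nat) := (BT.node (nat_lit 1) (BT.leaf (Bx.mk (nat_lit 0x70b93bb7874b3f3654b944288d1924f88a6407c8247ab07281ac99ab542dd0a6ec58096ae5b340ebd6a90a951843c70c02260478c0020303))) (BT.leaf (Bx.mk (nat_lit 0xf1bb3fbf976b7fb756bd4c38ad59a5fa8e6c17e864fbb27689bcb9ebd52fd4aefc7849ebe7b748fbf6e98b971c4bd72c42a7067cc8122343))))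
noncomputable def TUs_c7 : BT (Bx Nat) := (BT.node (nat_lit 1) (BT.leaf (Bx.mk (nat_lit 0x56b59b134711202a6ca177a59e123245f257e787a3423960d50e53b816a853a6ced78868c9bb50cc170552992033e74118024c8001824384))) (BT.leaf (Bx.mk (nat_lit 0xc1470dae32b96beddfa75cfe7defe1b774ef12e2cde797363c95beffbd7ee5dabf2942a98add78367f4fa1b3440d5ea4498d1f4c389629cc))))
noncomputable def TUs_c9 : BT (Bx Nat) := (BT.node (nat_lit 1) (BT.leaf (Bx.mk (nat_lit 0xfffbefcf7ebcf8efdbaf4e7cb8f0dfbb6ecd7ab4e8cf9b2e4c78b0e0bf7aedcb76acd8af5aad4a74a8d09f3a6cc972a4c88f1a2c4870a0c0))) (BT.leaf (Bx.mk (nat_lit 0x7ef9ebc76e9cb86ed9ab466c98b05eb96ac56a94a84e992a446890a03e78e9c3668c982e58a9426488901e3868c16284880e182840608080))))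
noncomputable def TUs_w : BT (Bx Nat) := (BT.node (nat_lit 1) (BT.leaf (Bx.mk (nat_lit 0x73731031731051531031531007373003173005153003153007371005371007171005171003171003751001751007351005351007151005151003151003731001731007531003531001531000737000537000717000517000317000375000175000735000535000715000515000315000373000173000753000353000153000371000171000751000351000151000731000531000037000017000075000035000015000073000053000071000051000031000007000005000003000001000000))) (BT.leaf (Bx.mk (nat_lit 0x973731931731951531931531097373093173095153093153097371095371097171095171093171093751091751097351095351097151095151093151093731091731097531093531091531009737009537009717009517009317009375009175009735009535009715009515009315009373009173009753009353009153009371009171009751009351009151009731009531000937000917000975000935000915000973000953000971000951000931000097000095000093000091000009))))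
noncomputable def TUs_cols : List (BT (Bx Nat)) := [TUs_c0, TUs_c1, TUs_c1, TUs_c3, TUs_c3, TUs_c5, TUs_c5, TUs_c7, TUs_c7, TUs_c9, TUs_c9]
noncomputable def TUs_ch (x j : Nat) : Bx Nat := chk TUs_cols x j
noncomputable def TUs_wc (_ j : Nat) : Bx Nat := TUs_w.get j
noncomputable def TUs : CT := ⟨(nat_lit 128), (nat_lit 7), (nat_lit 127), TUs_ch, (nat_lit 24), (nat_lit 16777215), TUs_wc, (nat_lit 2046)⟩
theorem TUs_ok : TUs.ok = true := by decide +kernel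
theorem TUs_rel : lall TUs.relOK RUs = true := by decide +kernel
noncomputable def eUs_c0 : BT (Bx Nat) := (BT.leaf (Bx.mk (nat_lit 0x0)))
noncomputable def eUs_c1 : BT (Bx Nat) := (BT.leaf (Bx.mk (nat_lit 0x41e7f78900e11d162358c964988ca611ce8e3054943988b552500e233be87e394f441199a2365843b788b0711a8a21e38971628fa895ba249f38444414ea525ca853d8847cb08512118664b14c479a944f5249a422e4c95da9449451dea4914256fb08412115664ab48438288475287d651ac042ba923d2112ce2175841b9929cc10c54496d4a1c80869550aaa48d3e668a08f161060c21bd0476b082f011a6c20b18a6db82e1210e6649d4c95439283528514228c6a47a9227210bda4a55841099264825352224d4a118d0a14111aa487dc163a08bf4117ac2065045b314a741166c205dc157a08a54113ec204d0448b829941116c2045c142b827f704f64206d0436a08676101682165c130a085361012648adc125b82435281ae08edc119a92074102ae0895c10ea080f61006e08100000)))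
noncomputable def eUs_c2 : BT (Bx Nat) := (BT.leaf (Bx.mk (nat_lit 0x5856589af7355a8c2ba8c56380aff61512acaa5854288a8d614fcf93ea336e28ad1614f2c29dbd86c78aae715d215b33857050acf215fa229e9b2735d2d6f15b6e0c05852821af96149e82afd5938a9ac361496c2925055ba9ab926caac290d852081adf6147e82a950579aac6953556aa96d5737b0a3b61472c28da6f2ea0a90eb8c2ac1ad4d4b2e447269dec28cdc17ab0a31705e10a95d8517b82ed6145a46b4dc172b82e361452829b50560a0aa1534e682a4d0553b0a2561446c2883454aa0a588153282a8d4d2f38a831156ac2875c164b82c561432e0af5c15d20a8f6142ee0acdc158b82ad61426e0a7dc14eb829b61422e0a2dc143b8281704fac2835c13ab0a0b704cee0995c131b0a09704a682855c126b824553436e08f5c11ab0a0570456e089dc10fb0a037041ee08180000)))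
noncomputable def eUs_c3 : BT (Bx Nat) := (BT.leaf (Bx.mk (nat_lit 0x40c70a98b7081c5c32e28c7aa9890919f158acaf147b0c7eab1812325bc65db0c7a21949e33f3c680b0c746193aa61cd066baa6d9618ca262b18c58a985ec198aa6161063630caad3198e32ba467650c7cd18ae09ba3e07da0cff61885233c94668418c3019a4e9b19cc29b0c3c331c9c3115861d94862731ba5199a0626516eae1896c30d5067b50cf161864e31c44b3c40c60d4cbaa58c2c635b82eeb317ee0b9c0644b0c2b705be8336a2345b0c265319186205861288c9b705aa2327a4b43a0ccec190ac307d0665758bd61838c32a486279965092d31e9a554c0da9618f4d46e0ad4861f996417054ee0a854c0aa961370526e0a350641b0c0f21852e09dccb16b826f704d2a60354b05b825b704aa831250623b0c0741872830dd8602b822f41846830858601b821770422e08200000)))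
noncomputable def eUs_c4 : BT (Bx Nat) := (BT.leaf (Bx.mk (nat_lit 0x207694c4df61d5c23b95077baa2f899d22c3a1a474655a9f17d32c39f5873d78eba29df4c3b0a075640eff41db6a8b75873618ec8e1d8d28c05872f20eb141d96a8b31276b7c2d4b1cb0f3b8d872678e96d9caa1139bc7524a27491cce039816767b82fc989c0f1195871e28e5308572c38eb872248eee51ce50390c077683ebf61c69c392a077ab0e32a9de0f39bc473bb82f2d88b6c38bae73440e63705d6e0ba587159228881d6cd3a75871330e8b705b2c38928740560b461d55339fc6159b82d161c3d83a132762b0e1cc1d78d3a9d870da0e4970581f124d5127b0e16f894133a6d870aa0e3970552e0a8d511fb0e117052ae0a3d8707b828361c1ae09e50711b8271704d6a88a58704b825d704aee09458703b824770482c3815c11bb82317045ac380dc110b821970426e08280000)))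
noncomputable def eUs_c5 : BT (Bx Nat) := (BT.leaf (Bx.mk (nat_lit 0x40877b10b482182c428d8847b108d421e1043a54e7a8bb01339c527a4a4f793908644142443b4883f89e9b620e2c41bb0840b106a87552c418b9042b105b620aec41518e34310a74217ac41324f7eb104b5398a842cd8822b1043705fea72e9d02ea20994213ec40f1c86a3e8c762076e0be8c872a9cad421160437cc857b1034c40f9043ad8819b82f9705eea7275881841ee6d21a2691e3506c9a0e0b212a881848841a1e2f420cec409dc16eb82db6204ae0b594864a9c75420a6e0b4cc83db101e62162e0b3d880eb82cd70596a71950823b101970586e0afd880baa45170572e0add081bb101370556e0a958808aa4417052ee0a45c14499077420428403d8805b8273704dac40255216b825f704b2c401dc127b82496200ae08fdc11ca9c2b62006e08a5c111b821b7042ae08300000)))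
noncomputable def eUs_p : BT (Bx Nat) := (BT.leaf (Bx.mk (nat_lit 0x15942ab42d5712a88b51c5a8c2d440aa1895082a7e1d3f0a1f090f4487a1c3c0a1d850ec18741c38161b8b0d8486a2c320e188b0bc485a2c2b16150b0a028500c270a130b098484a2c250a120508858422c210e108508028400c1f0a0f0b078483c1c1d160e89074383a141c0a0d8506c18342c1a120d07064583224190e0c8506058301418060b8905c282e0b16098b02c54462a1b1409898ac4c46261b12158908c4836241311098804c40161e2b0f118786c38561c230e0d8704c3446182b0c098602c2c5616230b098582c2846122b09098482c2056102308098402c1c460e1a06110304814540a120505020a8104408120405018a80c44061a0215010880834041101148088404320211010400000000)))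
noncomputable def eUs_e : BT Nat := BT.leaf (nat_lit 0)
noncomputable def eUs_cols : List (BT (Bx Nat)) := [eUs_c0, eUs_c1, eUs_c2, eUs_c3, eUs_c4, eUs_c5]
noncomputable def eUs_ch (x j : Nat) : Bx Nat := chunkG eUs_cols (nat_lit 1) x j
noncomputable def eUs_L (x : Nat) : Bx (Nat → Nat) := lookG eUs_ch (nat_lit 8) (nat_lit 255) (nat_lit 19) (nat_lit 524287) x
noncomputable def eUs_pc (_ j : Nat) : Bx Nat := eUs_p.get j
noncomputable def eUs_pb : Bx (Nat → Nat) := lookG eUs_pc (nat_lit 8) (nat_lit 255) (nat_lit 17) (nat_lit 131071) (nat_lit 0)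
noncomputable def eUs_rots : BT CW := (BT.node (nat_lit 26) (BT.node (nat_lit 13) (BT.node (nat_lit 6) (BT.node (nat_lit 3) (BT.node (nat_lit 1) (BT.leaf ⟨[], (nat_lit 1000000), (nat_lit 0), (nat_lit 0), (nat_lit 0)⟩) (BT.node (nat_lit 2) (BT.leaf ⟨[], (nat_lit 1000000), (nat_lit 0), (nat_lit 0), (nat_lit 1)⟩) (BT.leaf ⟨[], (nat_lit 1000000), (nat_lit 0), (nat_lit 0), (nat_lit 2)⟩))) (BT.node (nat_lit 4) (BT.leaf ⟨[(nat_lit 1), (nat_lit 1)], (nat_lit 0), (nat_lit 0), (nat_lit 0), (nat_lit 3)⟩) (BT.node (nat_lit 5) (BT.leaf ⟨[(nat_lit 2), (nat_lit 2)], (nat_lit 1), (nat_lit 0), (nat_lit 0), (nat_lit 3)⟩) (BT.leaf ⟨[(nat_lit 3), (nat_lit 3)], (nat_lit 2), (nat_lit 0), (nat_lit 0), (nat_lit 3)⟩)))) (BT.node (nat_lit 9) (BT.node (nat_lit 7) (BT.leaf ⟨[(nat_lit 4), (nat_lit 4)], (nat_lit 3), (nat_lit 0), (nat_lit 0), (nat_lit 3)⟩) (BT.node (nat_lit 8) (BT.leaf ⟨[(nat_lit 5), (nat_lit 5)], (nat_lit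 18), (nat_lit 0), (nat_lit 0), (nat_lit 3)⟩) (BT.leaf ⟨[(nat_lit 1), (nat_lit 2), (nat_lit 1), (nat_lit 2)], (nat_lit 4), (nat_lit 0), (nat_lit 0), (nat_lit 3)⟩))) (BT.node (nat_lit 11) (BT.node (nat_lit 10) (BT.leaf ⟨[(nat_lit 1), (nat_lit 5), (nat_lit 1), (nat_lit 5)], (nat_lit 14), (nat_lit 1), (nat_lit 0), (nat_lit 3)⟩) (BT.leaf ⟨[(nat_lit 3), (nat_lit 4), (nat_lit 3), (nat_lit 4)], (nat_lit 5), (nat_lit 0), (nat_lit 0), (nat_lit 3)⟩)) (BT.node (nat_lit 12) (BT.leaf ⟨[(nat_lit 3), (nat_lit 5), (nat_lit 3), (nat_lit 5)], (nat_lit 16), (nat_lit 1), (nat_lit 0), (nat_lit 3)⟩) (BT.leaf ⟨[(nat_lit 2), (nat_lit 5), (nat_lit 2), (nat_lit 1), (nat_lit 5)], (nat_lit 15), (nat_lit 1), (nat_lit 0), (nat_lit 3)⟩))))) (BT.node (nat_lit 19) (BT.node (nat_lit 16) (BT.node (nat_lit 14) (BT.leaf ⟨[(nat_lit 5), (nat_lit 2), (nat_lit 5), (nat_lit 1), (nat_lit 2)], (nat_lit 39), (nat_lit 2), (nat_lit 0),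 (nat_lit 3)⟩) (BT.node (nat_lit 15) (BT.leaf ⟨[(nat_lit 5), (nat_lit 3), (nat_lit 5), (nat_lit 3)], (nat_lit 16), (nat_lit 0), (nat_lit 0), (nat_lit 3)⟩) (BT.leaf ⟨[(nat_lit 5), (nat_lit 1), (nat_lit 5), (nat_lit 1)], (nat_lit 14), (nat_lit 0), (nat_lit 0), (nat_lit 3)⟩))) (BT.node (nat_lit 17) (BT.leaf ⟨[(nat_lit 4), (nat_lit 5), (nat_lit 4), (nat_lit 3), (nat_lit 5)], (nat_lit 17), (nat_lit 1), (nat_lit 0), (nat_lit 3)⟩) (BT.node (nat_lit 18) (BT.leaf ⟨[(nat_lit 5), (nat_lit 4), (nat_lit 5), (nat_lit 3), (nat_lit 4)], (nat_lit 41), (nat_lit 2), (nat_lit 0), (nat_lit 3)⟩) (BT.leaf ⟨[(nat_lit 3), (nat_lit 4), (nat_lit 5), (nat_lit 4), (nat_lit 5)], (nat_lit 41), (nat_lit 0), (nat_lit 0), (nat_lit 3)⟩)))) (BT.node (nat_lit 22) (BT.node (nat_lit 20) (BT.leaf ⟨[(nat_lit 1), (nat_lit 3), (nat_lit 1), (nat_lit 3), (nat_lit 1), (nat_lit 3), (nat_lit 1), (nat_lit 3)], (nat_lit 6), (nat_lit 0), (nat_lit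 0), (nat_lit 3)⟩) (BT.node (nat_lit 21) (BT.leaf ⟨[(nat_lit 2), (nat_lit 3), (nat_lit 2), (nat_lit 3), (nat_lit 1), (nat_lit 4), (nat_lit 1), (nat_lit 4)], (nat_lit 8), (nat_lit 4), (nat_lit 0), (nat_lit 3)⟩) (BT.leaf ⟨[(nat_lit 2), (nat_lit 3), (nat_lit 1), (nat_lit 4), (nat_lit 1), (nat_lit 4), (nat_lit 2), (nat_lit 3)], (nat_lit 8), (nat_lit 6), (nat_lit 0), (nat_lit 3)⟩))) (BT.node (nat_lit 24) (BT.node (nat_lit 23) (BT.leaf ⟨[(nat_lit 2), (nat_lit 3), (nat_lit 2), (nat_lit 4), (nat_lit 1), (nat_lit 4), (nat_lit 1), (nat_lit 3)], (nat_lit 32), (nat_lit 1), (nat_lit 0), (nat_lit 3)⟩) (BT.leaf ⟨[(nat_lit 2), (nat_lit 4), (nat_lit 1), (nat_lit 4), (nat_lit 1), (nat_lit 3), (nat_lit 2), (nat_lit 3)], (nat_lit 32), (nat_lit 3), (nat_lit 0), (nat_lit 3)⟩)) (BT.node (nat_lit 25) (BT.leaf ⟨[(nat_lit 2), (nat_lit 4), (nat_lit 2), (nat_lit 4), (nat_lit 2), (nat_lit 4), (nat_lit 2), (nat_lit 4)],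 (nat_lit 7), (nat_lit 0), (nat_lit 0), (nat_lit 3)⟩) (BT.leaf ⟨[(nat_lit 2), (nat_lit 1), (nat_lit 3), (nat_lit 1), (nat_lit 3), (nat_lit 2), (nat_lit 1), (nat_lit 3), (nat_lit 1), (nat_lit 3)], (nat_lit 10), (nat_lit 0), (nat_lit 0), (nat_lit 3)⟩)))))) (BT.node (nat_lit 39) (BT.node (nat_lit 32) (BT.node (nat_lit 29) (BT.node (nat_lit 27) (BT.leaf ⟨[(nat_lit 2), (nat_lit 3), (nat_lit 1), (nat_lit 3), (nat_lit 1), (nat_lit 2), (nat_lit 3), (nat_lit 1), (nat_lit 3), (nat_lit 1)], (nat_lit 34), (nat_lit 4), (nat_lit 0), (nat_lit 3)⟩) (BT.node (nat_lit 28) (BT.leaf ⟨[(nat_lit 1), (nat_lit 2), (nat_lit 4), (nat_lit 2), (nat_lit 4), (nat_lit 1), (nat_lit 2), (nat_lit 4), (nat_lit 2), (nat_lit 4)], (nat_lit 12), (nat_lit 0), (nat_lit 0), (nat_lit 3)⟩) (BT.leaf ⟨[(nat_lit 5), (nat_lit 2), (nat_lit 1), (nat_lit 5), (nat_lit 2)], (nat_lit 15), (nat_lit 2), (nat_lit 0), (nat_lit 3)⟩))) (BT.node (nat_lit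 30) (BT.leaf ⟨[(nat_lit 1), (nat_lit 2), (nat_lit 5), (nat_lit 2), (nat_lit 5)], (nat_lit 39), (nat_lit 0), (nat_lit 0), (nat_lit 3)⟩) (BT.node (nat_lit 31) (BT.leaf ⟨[(nat_lit 4), (nat_lit 1), (nat_lit 4), (nat_lit 1), (nat_lit 3), (nat_lit 2), (nat_lit 3), (nat_lit 2)], (nat_lit 32), (nat_lit 4), (nat_lit 0), (nat_lit 3)⟩) (BT.leaf ⟨[(nat_lit 3), (nat_lit 5), (nat_lit 4), (nat_lit 5), (nat_lit 4)], (nat_lit 17), (nat_lit 4), (nat_lit 0), (nat_lit 3)⟩)))) (BT.node (nat_lit 35) (BT.node (nat_lit 33) (BT.leaf ⟨[(nat_lit 4), (nat_lit 2), (nat_lit 3), (nat_lit 2), (nat_lit 3), (nat_lit 1), (nat_lit 4), (nat_lit 1)], (nat_lit 8), (nat_lit 3), (nat_lit 0), (nat_lit 3)⟩) (BT.node (nat_lit 34) (BT.leaf ⟨[(nat_lit 4), (nat_lit 3), (nat_lit 5), (nat_lit 4), (nat_lit 5)], (nat_lit 17), (nat_lit 3), (nat_lit 0), (nat_lit 3)⟩) (BT.leaf ⟨[(nat_lit 3), (nat_lit 1), (nat_lit 4), (nat_lit 1), (nat_lit 4),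 (nat_lit 2), (nat_lit 3), (nat_lit 2)], (nat_lit 8), (nat_lit 7), (nat_lit 0), (nat_lit 3)⟩))) (BT.node (nat_lit 37) (BT.node (nat_lit 36) (BT.leaf ⟨[(nat_lit 3), (nat_lit 2), (nat_lit 3), (nat_lit 2), (nat_lit 4), (nat_lit 1), (nat_lit 4), (nat_lit 1)], (nat_lit 32), (nat_lit 0), (nat_lit 0), (nat_lit 3)⟩) (BT.leaf ⟨[(nat_lit 1), (nat_lit 5), (nat_lit 2), (nat_lit 5), (nat_lit 2)], (nat_lit 15), (nat_lit 4), (nat_lit 0), (nat_lit 3)⟩)) (BT.node (nat_lit 38) (BT.leaf ⟨[(nat_lit 1), (nat_lit 4), (nat_lit 2), (nat_lit 3), (nat_lit 2), (nat_lit 3), (nat_lit 1), (nat_lit 4)], (nat_lit 8), (nat_lit 2), (nat_lit 0), (nat_lit 3)⟩) (BT.leaf ⟨[(nat_lit 4), (nat_lit 3), (nat_lit 4), (nat_lit 3)], (nat_lit 5), (nat_lit 1), (nat_lit 0), (nat_lit 3)⟩))))) (BT.node (nat_lit 45) (BT.node (nat_lit 42) (BT.node (nat_lit 40) (BT.leaf ⟨[(nat_lit 1), (nat_lit 3), (nat_lit 2), (nat_lit 3), (nat_lit 2), (nat_lit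 4), (nat_lit 1), (nat_lit 4)], (nat_lit 32), (nat_lit 7), (nat_lit 0), (nat_lit 3)⟩) (BT.node (nat_lit 41) (BT.leaf ⟨[(nat_lit 2), (nat_lit 1), (nat_lit 5), (nat_lit 2), (nat_lit 5)], (nat_lit 15), (nat_lit 3), (nat_lit 0), (nat_lit 3)⟩) (BT.leaf ⟨[(nat_lit 1), (nat_lit 4), (nat_lit 1), (nat_lit 4), (nat_lit 2), (nat_lit 3), (nat_lit 2), (nat_lit 3)], (nat_lit 8), (nat_lit 0), (nat_lit 0), (nat_lit 3)⟩))) (BT.node (nat_lit 43) (BT.leaf ⟨[(nat_lit 2), (nat_lit 5), (nat_lit 1), (nat_lit 2), (nat_lit 5)], (nat_lit 39), (nat_lit 3), (nat_lit 0), (nat_lit 3)⟩) (BT.node (nat_lit 44) (BT.leaf ⟨[(nat_lit 3), (nat_lit 2), (nat_lit 4), (nat_lit 2), (nat_lit 4), (nat_lit 1), (nat_lit 4), (nat_lit 1), (nat_lit 4), (nat_lit 1), (nat_lit 3), (nat_lit 1)], (nat_lit 9), (nat_lit 7), (nat_lit 0), (nat_lit 3)⟩) (BT.leaf ⟨[(nat_lit 4), (nat_lit 2), (nat_lit 4), (nat_lit 1), (nat_lit 4), (nat_lit 1), (nat_lit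 4), (nat_lit 1), (nat_lit 3), (nat_lit 1), (nat_lit 3), (nat_lit 2)], (nat_lit 9), (nat_lit 9), (nat_lit 0), (nat_lit 3)⟩)))) (BT.node (nat_lit 48) (BT.node (nat_lit 46) (BT.leaf ⟨[(nat_lit 2), (nat_lit 4), (nat_lit 1), (nat_lit 4), (nat_lit 1), (nat_lit 4), (nat_lit 1), (nat_lit 3), (nat_lit 1), (nat_lit 3), (nat_lit 2), (nat_lit 4)], (nat_lit 9), (nat_lit 10), (nat_lit 0), (nat_lit 3)⟩) (BT.node (nat_lit 47) (BT.leaf ⟨[(nat_lit 2), (nat_lit 4), (nat_lit 2), (nat_lit 3), (nat_lit 1), (nat_lit 3), (nat_lit 1), (nat_lit 4), (nat_lit 1), (nat_lit 4), (nat_lit 1), (nat_lit 4)], (nat_lit 33), (nat_lit 1), (nat_lit 0), (nat_lit 3)⟩) (BT.leaf ⟨[(nat_lit 4), (nat_lit 2), (nat_lit 3), (nat_lit 1), (nat_lit 3), (nat_lit 1), (nat_lit 4), (nat_lit 1), (nat_lit 4), (nat_lit 1), (nat_lit 4), (nat_lit 2)], (nat_lit 33), (nat_lit 2), (nat_lit 0), (nat_lit 3)⟩))) (BT.node (nat_lit 50) (BT.node (nat_lit 49)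 (BT.leaf ⟨[(nat_lit 3), (nat_lit 1), (nat_lit 3), (nat_lit 1), (nat_lit 4), (nat_lit 1), (nat_lit 4), (nat_lit 1), (nat_lit 4), (nat_lit 2), (nat_lit 4), (nat_lit 2)], (nat_lit 33), (nat_lit 4), (nat_lit 0), (nat_lit 3)⟩) (BT.leaf ⟨[(nat_lit 2), (nat_lit 1), (nat_lit 2), (nat_lit 1)], (nat_lit 4), (nat_lit 1), (nat_lit 0), (nat_lit 3)⟩)) (BT.node (nat_lit 51) (BT.leaf ⟨[(nat_lit 2), (nat_lit 5), (nat_lit 2), (nat_lit 5), (nat_lit 1)], (nat_lit 39), (nat_lit 1), (nat_lit 0), (nat_lit 3)⟩) (BT.leaf ⟨[(nat_lit 5), (nat_lit 4), (nat_lit 5), (nat_lit 4), (nat_lit 3)], (nat_lit 17), (nat_lit 0), (nat_lit 0), (nat_lit 3)⟩)))))))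
noncomputable def eUs_hcs : List CW := []
noncomputable def eUs_H (x j : Nat) : Bx (Nat → Nat → Nat) := mkH eUs_L eUs_pb.1 eUs_e.get (lmap CW.w eUs_hcs) (nat_lit 128) (nat_lit 129) (nat_lit 6) (nat_lit 256) (nat_lit 16384) (nat_lit 16383) x (eUs_rots.get j)
noncomputable def eUs_F (x b : Nat) : Bool := blkOK eUs_H eUs_ch (nat_lit 129) (nat_lit 256) (nat_lit 64) (nat_lit 8) (nat_lit 255) (nat_lit 19) (nat_lit 524287) x b

theorem eUs_k0_0 : allFrom (eUs_F (nat_lit 0)) (nat_lit 0) (nat_lit 4) = true := by decide +kernel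
theorem eUs_k1_0 : allFrom (eUs_F (nat_lit 1)) (nat_lit 0) (nat_lit 4) = true := by decide +kernel
theorem eUs_k2_0 : allFrom (eUs_F (nat_lit 2)) (nat_lit 0) (nat_lit 4) = true := by decide +kernel
theorem eUs_k3_0 : allFrom (eUs_F (nat_lit 3)) (nat_lit 0) (nat_lit 4) = true := by decide +kernel
theorem eUs_k4_0 : allFrom (eUs_F (nat_lit 4)) (nat_lit 0) (nat_lit 4) = true := by decide +kernel
theorem eUs_k5_0 : allFrom (eUs_F (nat_lit 5)) (nat_lit 0) (nat_lit 4) = true := by decide +kernel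

theorem eUs_all : Cov eUs_F 4 6 0 := by
  have h := Cov.zero eUs_F 4
  have h := h.blk (b := 4) eUs_k0_0 rfl
  have h := h.next (y := 1) rfl rfl
  have h := h.blk (b := 4) eUs_k1_0 rfl
  have h := h.next (y := 2) rfl rfl
  have h := h.blk (b := 4) eUs_k2_0 rfl
  have h := h.next (y := 3) rfl rfl
  have h := h.blk (b := 4) eUs_k3_0 rfl
  have h := h.next (y := 4) rfl rfl
  have h := h.blk (b := 4) eUs_k4_0 rfl
  have h := h.next (y := 5) rfl rfl
  have h := h.blk (b := 4) eUs_k5_0 rfl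
  have h := h.next (y := 6) rfl rfl
  exact h

theorem eUs : Enum RUs [] (gensW 5) 128 :=
  ⟨eUs_cols, eUs_ch, eUs_L, eUs_H, eUs_pb.1, eUs_e.get, [(nat_lit 0), (nat_lit 1), (nat_lit 3), (nat_lit 5), (nat_lit 7), (nat_lit 9)], (nat_lit 31), (nat_lit 5), eUs_rots, eUs_hcs,
    (nat_lit 129), (nat_lit 6), (nat_lit 256), (nat_lit 64), (nat_lit 16384), (nat_lit 16383), (nat_lit 8), (nat_lit 255), (nat_lit 19), (nat_lit 524287), (nat_lit 1), (nat_lit 4),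
    fun _ _ => rfl, fun _ => rfl, fun _ _ => rfl, by decide +kernel, eUs_all.1⟩

theorem pUs : TUs.Pres RUs (gensW 5) := ⟨CT.ok_spec TUs_ok, lall_iff.1 TUs_rel, by decide +kernel,
  by decide +kernel, by decide +kernel, eUs.bound (ug_rels _) (bound_nil _)⟩

instance instTUs : TUs.Grp := pUs.grp

noncomputable def RUt : List (List Nat) := lapp RU (lapp Rta4 Sk)
noncomputable def TUt_c0 : BT (Bx Nat) := (BT.node (nat_lit 1) (BT.leaf (Bx.mk (nat_lit 0x7ef9ebc76adca86ec9ab454d98a95eb96a774cd8385898fa43a40c134a7919c1e68aa12e48c9440588a2362438c101870b1a282840608080))) (BT.leaf (Bx.mk (nat_lit 0xf9f7f7ff79f778e3dbaefe7cbbf0e9e76ebd9ab4e8f56aad7a58715bb352b51c19afd0c9772de9f8ee58a73a5c59b2a4c7911a64283121c0))))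
noncomputable def TUt_c1 : BT (Bx Nat) := (BT.node (nat_lit 1) (BT.leaf (Bx.mk (nat_lit 0x76adca87e69e974c6121d2a7c9a13c8ce127c412bc1edd4b55c3980c64bda2d16e84b6702198762b032a4e88220360cc96284410d1414001))) (BT.leaf (Bx.mk (nat_lit 0xf1bb3fbf976b7fb756bd4c38ad59a5fa8e6c17e864fbb27689bcb9ebd52fd4aefc7849ebe7b748fbf6e98b971c4bd72c42a7067cc8122343))))
noncomputable def TUt_c3 : BT (Bx Nat) := (BT.node (nat_lit 1) (BT.leaf (Bx.mk (nat_lit 0x6ea96a74c64e167e8cf25284cfa04861e9120f8e8f78eda2f6c3463062d54b91425d2e10e03b3641962b5011121066cd172a4808e1600282))) (BT.leaf (Bx.mk (nat_lit 0xd7b79f1b573160ab6ea57fb5be52b347f65ff7a7e3c33b64dd1e73f897aa57aedef7c8e9cbbf58dc3745d39b243bf76158834e84099263c4))))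
noncomputable def TUt_c5 : BT (Bx Nat) := (BT.node (nat_lit 1) (BT.leaf (Bx.mk (nat_lit 0x70b93bb7874b3f3654b944288d1924f88a6407c8247ab07281ac99ab542dd0a6ec58096ae5b340ebd6a90a951843c70c02260478c0020303))) (BT.leaf (Bx.mk (nat_lit 0xf7afce8ff6bed7cd6325dab7e9e1bd8ee52fd432fc9fdf4f5dd3b84ce5bfa6d97ea4f6f1239c7e3b236acf8a260b70ecd6a94614d9516041))))
noncomputable def TUt_c7 : BT (Bx Nat) := (BT.node (nat_lit 1) (BT.leaf (Bx.mk (nat_lit 0x56b59b134711202a6ca177a59e123245f257e787a3423960d50e53b816a853a6ced78868c9bb50cc170552992033e74118024c8001824384))) (BT.leaf (Bx.mk (nat_lit 0xefab6e7cd66e56ff8ef65a94efe0c963ed1a1faecff9efa6fed36670e3d74f99527d6e91e23f3e51b66bd113161876ed57ab4a0ce97022c2))))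
noncomputable def TUt_c9 : BT (Bx Nat) := (BT.node (nat_lit 1) (BT.leaf (Bx.mk (nat_lit 0xfffbefcf7ebcf8efdbaf4e7cb8f0dfbb6ecd7ab4e8cf9b2e4c78b0e0bf7aedcb76acd8af5aad4a74a8d09f3a6cc972a4c88f1a2c4870a0c0))) (BT.leaf (Bx.mk (nat_lit 0x7ef9ebc76e9cb86ed9ab466c98b05eb96ac56a94a84e992a446890a03e78e9c3668c982e58a9426488901e3868c16284880e182840608080))))
noncomputable def TUt_w : BT (Bx Nat) := (BT.node (nat_lit 1) (BT.leaf (Bx.mk (nat_lit 0x73731031731051531031531007373003173005153003153007371005371007171005171003171003751001751007351005351007151005151003151003731001731007531003531001531000737000537000717000517000317000375000175000735000535000715000515000315000373000173000753000353000153000371000171000751000351000151000731000531000037000017000075000035000015000073000053000071000051000031000007000005000003000001000000))) (BT.leaf (Bx.mk (nat_lit 0x973731931731951531931531097373093173095153093153097371095371097171095171093171093751091751097351095351097151095151093151093731091731097531093531091531009737009537009717009517009317009375009175009735009535009715009515009315009373009173009753009353009153009371009171009751009351009151009731009531000937000917000975000935000915000973000953000971000951000931000097000095000093000091000009))))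
noncomputable def TUt_cols : List (BT (Bx Nat)) := [TUt_c0, TUt_c1, TUt_c1, TUt_c3, TUt_c3, TUt_c5, TUt_c5, TUt_c7, TUt_c7, TUt_c9, TUt_c9]
noncomputable def TUt_ch (x j : Nat) : Bx Nat := chk TUt_cols x j
noncomputable def TUt_wc (_ j : Nat) : Bx Nat := TUt_w.get j
noncomputable def TUt : CT := ⟨(nat_lit 128), (nat_lit 7), (nat_lit 127), TUt_ch, (nat_lit 24), (nat_lit 16777215), TUt_wc, (nat_lit 2046)⟩
theorem TUt_ok : TUt.ok = true := by decide +kernel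
theorem TUt_rel : lall TUt.relOK RUt = true := by decide +kernel
noncomputable def eUt_c0 : BT (Bx Nat) := (BT.leaf (Bx.mk (nat_lit 0x0)))
noncomputable def eUt_c1 : BT (Bx Nat) := (BT.leaf (Bx.mk (nat_lit 0x14479411bf4d66511f18d7d5356b4d51636014d58d3539cd52d352e045e8117d4d57411574d44535ff4d413358d4d5dc5d59045cd24f2c43d73587047eb11434938211b74d366119f4d33935ce4d74411b14d6ad34b1047bd34a50478411cac46b535c74924b10958476c11eb0f65d24830477a10d4c421c11d60432810a3491db1079442be106b0470510b9c42ac11ba0431d3c9f4919c35a30469e105b4d17210d30464e10570462b2534c939c11825d4a971034913b10518943e1043045b6251a0942c11665e49c10ff490fc354f0454e10334d0d42533044fe102f0d47c11238409d342bc145c10fb8408c10ebc13bf04df0d2fc10c38405d341bc12dc109b8404c108bc123f047f041bf0473c118d240f0411f044bc10ec101f8401f04080000)))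
noncomputable def eUt_c2 : BT (Bx Nat) := (BT.leaf (Bx.mk (nat_lit 0x34e6c439b94574715cb4e57315658e5f839774e4e315634e4b739498e7e539460e7dd39118e55d3904c57f1158b0580d51358e5be14ef4e3a739814e5e914ff8537d38d88e6dd38cd8567515e90566715e74e2c515ab4e29439ed0e77c15f35435515c38523d38898575415ce9627e147f0578c15af5131c15db502ad48d3851cd386f851a788af0571784b75332c15bd5121a55978518d385f8516f05a70568440a38515f05930563c155b0549c15870542c15338512d384785106150f055c61517054ac1568c53991543850ed3837850cf0553055341503850bf053f4e0ae1427c148c151fc146e1423c13ec14f7c13cf04e34e06e1417c130c14bfc12ee1413c126c1497c124f0483051ef0477c119e140b0514f044fc10fe1407c107f040c0000)))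
noncomputable def eUt_c3 : BT (Bx Nat) := (BT.leaf (Bx.mk (nat_lit 0x2867cb19b2ca7ab199eca80b195e867eb194a8a633294e0a618296ac64e529734a4752979ca5b82982c659b19130a7f7913f4a3d691008a62c29f74a3ae18dddf56919e04668719d9c66fb18d90671d28bd0673619c1c675c29bac62cc29ed8664d28954628219df0a79d288b861f619af0a745189b861dd2879c620e18729b2ec19ca9a30518930a6d6308f8619d286d4669e1860c635c19a9462d630af0666d3059c632f05970a5f468fb8613d28521a38e184a4646c19764648630f30a58518ef860fd28459f54e18399a4dc19558c455190f0651d30321b4af0543064bf0533c149c19074c09f050bc13fb18370639e181f0633f04d3c131c18a74c05f04abc127c285f0621e180f4a06c186b8602f0457060ac18438601f042fc108f04100000)))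
noncomputable def eUt_c4 : BT (Bx Nat) := (BT.leaf (Bx.mk (nat_lit 0x2c778d2daa4b6ed2d9ac763d2d560759d2d470b80b1d82c75bb1d8b4b4bd2d1d475c51d76c76131d4e077ed2d074b3de1cf3077f41cfc875ad2ceb077d781225845c2df30b75c2dc30b77d2ccf4b2f62dc58b72c2dd8cb6892deb4b29d2c978724c1ded652742dbf4b22c1de5873081cb74b1ee1c756526c1dd3871c71c818765c1dcd471f81d934b1be1c658723c1db78718595a4e534c1db3c16b61cab0767e1c55c73151cbb4b14e1c4c873ec1d7f8712860e1e350c1d79a5379653f4b11e1c3dd83bc1d63870e41d51074cc1d5fc1567650b0752e1c2e19496951b074ef0537c14ac1d138708f050fc140d2c2b8707f04e70736f04d7c132c1cb38704f04afc128d2c1b8703f04870717e1c0bc11af045b070de1c07c110f0433c109f04140000)))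
noncomputable def eUt_c5 : BT (Bx Nat) := (BT.leaf (Bx.mk (nat_lit 0x3886be21a78865e21938856e21538850e213f884de2133884ae21278848e211b8845e210f8842e2103883fe20fb883cf0603883bf05ff8839e20e38837f05fbc17de20d78834e20cb8831e20c3882ee20b7882be20ab8828e209f8826e2093c17ce208fc17be20878820e207fc17af05e7881df05e3c177e2073c176f05d7c174e206bc173f05cb8819f05c7c170e2063c16ff05bbc16de205bc16cf05ab8815f05a3c167f059b8813f058fc162e204bc161f0583c15fe2043c15ef0577880ff0573c15be203bc15af0567c158e2033c157f0557880bf054fc152f05478809f053bc14be2023c147f0513c141e201fc13df04eb8805f04dbc133e2013c12ff04b3c129e200fc125f048b8802f047bc11bf045f8801f0453c111f0437c10af04180000)))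
noncomputable def eUt_p : BT (Bx Nat) := (BT.leaf (Bx.mk (nat_lit 0x19ac5cd22e6517320b5585aa82d5016a78b5345a982d4a16a48b5205a8c2d4516a18b5085a802d3f169f0b4f05a78253b169d854e45a702d37169b874dc286a2c3416190b0c458602c2e16168b0ac58542c2816138b09858482c2412118b08c28422c20160f8b07c383e141d160e8907438382c1c120e0707028342c1a0a0d03064583224190e0c0b06048301c180a0b0b058282c0c15160a89054282a0b13158988c4c36242b12118906c4826202b10098802c3c561e230f0d870ac38461c1b0e09860ac3026180b0b158588c2c26160b09158484c2416102b08118404c20160e2b07118386814540a120505020a8104408120405018a80c44061a0215010880834041101148088404320211010400000000)))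
noncomputable def eUt_e : BT Nat := BT.leaf (nat_lit 0)
noncomputable def eUt_cols : List (BT (Bx Nat)) := [eUt_c0, eUt_c1, eUt_c2, eUt_c3, eUt_c4, eUt_c5]
noncomputable def eUt_ch (x j : Nat) : Bx Nat := chunkG eUt_cols (nat_lit 1) x j
noncomputable def eUt_L (x : Nat) : Bx (Nat → Nat) := lookG eUt_ch (nat_lit 8) (nat_lit 255) (nat_lit 18) (nat_lit 262143) x
noncomputable def eUt_pc (_ j : Nat) : Bx Nat := eUt_p.get j
noncomputable def eUt_pb : Bx (Nat → Nat) := lookG eUt_pc (nat_lit 8) (nat_lit 255) (nat_lit 17) (nat_lit 131071) (nat_lit 0)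
noncomputable def eUt_rots : BT CW := (BT.node (nat_lit 18) (BT.node (nat_lit 9) (BT.node (nat_lit 4) (BT.node (nat_lit 2) (BT.node (nat_lit 1) (BT.leaf ⟨[], (nat_lit 1000000), (nat_lit 0), (nat_lit 0), (nat_lit 0)⟩) (BT.leaf ⟨[], (nat_lit 1000000), (nat_lit 0), (nat_lit 0), (nat_lit 1)⟩)) (BT.node (nat_lit 3) (BT.leaf ⟨[], (nat_lit 1000000), (nat_lit 0), (nat_lit 0), (nat_lit 2)⟩) (BT.leaf ⟨[(nat_lit 1), (nat_lit 1)], (nat_lit 0), (nat_lit 0), (nat_lit 0), (nat_lit 3)⟩))) (BT.node (nat_lit 6) (BT.node (nat_lit 5) (BT.leaf ⟨[(nat_lit 2), (nat_lit 2)], (nat_lit 1), (nat_lit 0), (nat_lit 0), (nat_lit 3)⟩) (BT.leaf ⟨[(nat_lit 3), (nat_lit 3)], (nat_lit 2), (nat_lit 0), (nat_lit 0), (nat_lit 3)⟩)) (BT.node (nat_lit 7) (BT.leaf ⟨[(nat_lit 4), (nat_lit 4)], (nat_lit 3), (nat_lit 0), (nat_lit 0), (nat_lit 3)⟩) (BT.node (nat_lit 8) (BT.leaf ⟨[(nat_lit 5), (nat_lit 5)], (nat_lit 18), (nat_lit 0), (nat_lit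 0), (nat_lit 3)⟩) (BT.leaf ⟨[(nat_lit 1), (nat_lit 2), (nat_lit 1), (nat_lit 2)], (nat_lit 4), (nat_lit 0), (nat_lit 0), (nat_lit 3)⟩))))) (BT.node (nat_lit 13) (BT.node (nat_lit 11) (BT.node (nat_lit 10) (BT.leaf ⟨[(nat_lit 3), (nat_lit 5), (nat_lit 1), (nat_lit 5)], (nat_lit 14), (nat_lit 3), (nat_lit 0), (nat_lit 3)⟩) (BT.leaf ⟨[(nat_lit 4), (nat_lit 5), (nat_lit 2), (nat_lit 5)], (nat_lit 15), (nat_lit 3), (nat_lit 0), (nat_lit 3)⟩)) (BT.node (nat_lit 12) (BT.leaf ⟨[(nat_lit 3), (nat_lit 4), (nat_lit 3), (nat_lit 4)], (nat_lit 5), (nat_lit 0), (nat_lit 0), (nat_lit 3)⟩) (BT.leaf ⟨[(nat_lit 1), (nat_lit 5), (nat_lit 3), (nat_lit 5)], (nat_lit 14), (nat_lit 1), (nat_lit 0), (nat_lit 3)⟩))) (BT.node (nat_lit 15) (BT.node (nat_lit 14) (BT.leaf ⟨[(nat_lit 2), (nat_lit 5), (nat_lit 4), (nat_lit 5)], (nat_lit 15), (nat_lit 1), (nat_lit 0), (nat_lit 3)⟩) (BT.leaf ⟨[(nat_lit 1), (nat_lit 3), (nat_lit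 1), (nat_lit 3), (nat_lit 1), (nat_lit 3), (nat_lit 1), (nat_lit 3)], (nat_lit 6), (nat_lit 0), (nat_lit 0), (nat_lit 3)⟩)) (BT.node (nat_lit 16) (BT.leaf ⟨[(nat_lit 2), (nat_lit 3), (nat_lit 2), (nat_lit 3), (nat_lit 1), (nat_lit 4), (nat_lit 1), (nat_lit 4)], (nat_lit 8), (nat_lit 4), (nat_lit 0), (nat_lit 3)⟩) (BT.node (nat_lit 17) (BT.leaf ⟨[(nat_lit 2), (nat_lit 3), (nat_lit 1), (nat_lit 4), (nat_lit 1), (nat_lit 4), (nat_lit 2), (nat_lit 3)], (nat_lit 8), (nat_lit 6), (nat_lit 0), (nat_lit 3)⟩) (BT.leaf ⟨[(nat_lit 2), (nat_lit 3), (nat_lit 2), (nat_lit 4), (nat_lit 1), (nat_lit 4), (nat_lit 1), (nat_lit 3)], (nat_lit 32), (nat_lit 1), (nat_lit 0), (nat_lit 3)⟩)))))) (BT.node (nat_lit 27) (BT.node (nat_lit 22) (BT.node (nat_lit 20) (BT.node (nat_lit 19) (BT.leaf ⟨[(nat_lit 2), (nat_lit 4), (nat_lit 1), (nat_lit 4), (nat_lit 1), (nat_lit 3), (nat_lit 2), (nat_lit 3)], (nat_lit 32), (nat_lit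 3), (nat_lit 0), (nat_lit 3)⟩) (BT.leaf ⟨[(nat_lit 2), (nat_lit 4), (nat_lit 2), (nat_lit 4), (nat_lit 2), (nat_lit 4), (nat_lit 2), (nat_lit 4)], (nat_lit 7), (nat_lit 0), (nat_lit 0), (nat_lit 3)⟩)) (BT.node (nat_lit 21) (BT.leaf ⟨[(nat_lit 2), (nat_lit 1), (nat_lit 3), (nat_lit 1), (nat_lit 3), (nat_lit 2), (nat_lit 1), (nat_lit 3), (nat_lit 1), (nat_lit 3)], (nat_lit 10), (nat_lit 0), (nat_lit 0), (nat_lit 3)⟩) (BT.leaf ⟨[(nat_lit 2), (nat_lit 3), (nat_lit 1), (nat_lit 3), (nat_lit 1), (nat_lit 2), (nat_lit 3), (nat_lit 1), (nat_lit 3), (nat_lit 1)], (nat_lit 34), (nat_lit 4), (nat_lit 0), (nat_lit 3)⟩))) (BT.node (nat_lit 24) (BT.node (nat_lit 23) (BT.leaf ⟨[(nat_lit 1), (nat_lit 2), (nat_lit 4), (nat_lit 2), (nat_lit 4), (nat_lit 1), (nat_lit 2), (nat_lit 4), (nat_lit 2), (nat_lit 4)], (nat_lit 12), (nat_lit 0), (nat_lit 0), (nat_lit 3)⟩) (BT.leaf ⟨[(nat_lit 4), (nat_lit 1), (nat_lit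 4), (nat_lit 1), (nat_lit 3), (nat_lit 2), (nat_lit 3), (nat_lit 2)], (nat_lit 32), (nat_lit 4), (nat_lit 0), (nat_lit 3)⟩)) (BT.node (nat_lit 25) (BT.leaf ⟨[(nat_lit 4), (nat_lit 2), (nat_lit 3), (nat_lit 2), (nat_lit 3), (nat_lit 1), (nat_lit 4), (nat_lit 1)], (nat_lit 8), (nat_lit 3), (nat_lit 0), (nat_lit 3)⟩) (BT.node (nat_lit 26) (BT.leaf ⟨[(nat_lit 3), (nat_lit 1), (nat_lit 4), (nat_lit 1), (nat_lit 4), (nat_lit 2), (nat_lit 3), (nat_lit 2)], (nat_lit 8), (nat_lit 7), (nat_lit 0), (nat_lit 3)⟩) (BT.leaf ⟨[(nat_lit 3), (nat_lit 2), (nat_lit 3), (nat_lit 2), (nat_lit 4), (nat_lit 1), (nat_lit 4), (nat_lit 1)], (nat_lit 32), (nat_lit 0), (nat_lit 0), (nat_lit 3)⟩))))) (BT.node (nat_lit 32) (BT.node (nat_lit 29) (BT.node (nat_lit 28) (BT.leaf ⟨[(nat_lit 1), (nat_lit 4), (nat_lit 1), (nat_lit 4), (nat_lit 2), (nat_lit 3), (nat_lit 2), (nat_lit 3)], (nat_lit 8), (nat_lit 0), (nat_lit 0),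 (nat_lit 3)⟩) (BT.leaf ⟨[(nat_lit 1), (nat_lit 4), (nat_lit 1), (nat_lit 3), (nat_lit 2), (nat_lit 3), (nat_lit 2), (nat_lit 4)], (nat_lit 32), (nat_lit 5), (nat_lit 0), (nat_lit 3)⟩)) (BT.node (nat_lit 30) (BT.leaf ⟨[(nat_lit 1), (nat_lit 3), (nat_lit 2), (nat_lit 3), (nat_lit 2), (nat_lit 4), (nat_lit 1), (nat_lit 4)], (nat_lit 32), (nat_lit 7), (nat_lit 0), (nat_lit 3)⟩) (BT.node (nat_lit 31) (BT.leaf ⟨[(nat_lit 3), (nat_lit 2), (nat_lit 4), (nat_lit 2), (nat_lit 4), (nat_lit 1), (nat_lit 4), (nat_lit 1), (nat_lit 4), (nat_lit 1), (nat_lit 3), (nat_lit 1)], (nat_lit 9), (nat_lit 7), (nat_lit 0), (nat_lit 3)⟩) (BT.leaf ⟨[(nat_lit 4), (nat_lit 2), (nat_lit 4), (nat_lit 1), (nat_lit 4), (nat_lit 1), (nat_lit 4), (nat_lit 1), (nat_lit 3), (nat_lit 1), (nat_lit 3), (nat_lit 2)], (nat_lit 9), (nat_lit 9), (nat_lit 0), (nat_lit 3)⟩)))) (BT.node (nat_lit 34) (BT.node (nat_lit 33) (BT.leaf ⟨[(nat_lit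 2), (nat_lit 4), (nat_lit 1), (nat_lit 4), (nat_lit 1), (nat_lit 4), (nat_lit 1), (nat_lit 3), (nat_lit 1), (nat_lit 3), (nat_lit 2), (nat_lit 4)], (nat_lit 9), (nat_lit 10), (nat_lit 0), (nat_lit 3)⟩) (BT.leaf ⟨[(nat_lit 2), (nat_lit 4), (nat_lit 2), (nat_lit 3), (nat_lit 1), (nat_lit 3), (nat_lit 1), (nat_lit 4), (nat_lit 1), (nat_lit 4), (nat_lit 1), (nat_lit 4)], (nat_lit 33), (nat_lit 1), (nat_lit 0), (nat_lit 3)⟩)) (BT.node (nat_lit 35) (BT.leaf ⟨[(nat_lit 4), (nat_lit 2), (nat_lit 3), (nat_lit 1), (nat_lit 3), (nat_lit 1), (nat_lit 4), (nat_lit 1), (nat_lit 4), (nat_lit 1), (nat_lit 4), (nat_lit 2)], (nat_lit 33), (nat_lit 2), (nat_lit 0), (nat_lit 3)⟩) (BT.node (nat_lit 36) (BT.leaf ⟨[(nat_lit 3), (nat_lit 1), (nat_lit 3), (nat_lit 1), (nat_lit 4), (nat_lit 1), (nat_lit 4), (nat_lit 1), (nat_lit 4), (nat_lit 2), (nat_lit 4), (nat_lit 2)], (nat_lit 33), (nat_lit 4), (nat_lit 0), (nat_lit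 3)⟩) (BT.leaf ⟨[(nat_lit 4), (nat_lit 3), (nat_lit 4), (nat_lit 3)], (nat_lit 5), (nat_lit 1), (nat_lit 0), (nat_lit 3)⟩)))))))
noncomputable def eUt_hcs : List CW := []
noncomputable def eUt_H (x j : Nat) : Bx (Nat → Nat → Nat) := mkH eUt_L eUt_pb.1 eUt_e.get (lmap CW.w eUt_hcs) (nat_lit 128) (nat_lit 129) (nat_lit 6) (nat_lit 256) (nat_lit 16384) (nat_lit 16383) x (eUt_rots.get j)
noncomputable def eUt_F (x b : Nat) : Bool := blkOK eUt_H eUt_ch (nat_lit 129) (nat_lit 256) (nat_lit 64) (nat_lit 8) (nat_lit 255) (nat_lit 18) (nat_lit 262143) x b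

theorem eUt_k0_0 : allFrom (eUt_F (nat_lit 0)) (nat_lit 0) (nat_lit 4) = true := by decide +kernel
theorem eUt_k1_0 : allFrom (eUt_F (nat_lit 1)) (nat_lit 0) (nat_lit 4) = true := by decide +kernel
theorem eUt_k2_0 : allFrom (eUt_F (nat_lit 2)) (nat_lit 0) (nat_lit 4) = true := by decide +kernel
theorem eUt_k3_0 : allFrom (eUt_F (nat_lit 3)) (nat_lit 0) (nat_lit 4) = true := by decide +kernel
theorem eUt_k4_0 : allFrom (eUt_F (nat_lit 4)) (nat_lit 0) (nat_lit 4) = true := by decide +kernel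
theorem eUt_k5_0 : allFrom (eUt_F (nat_lit 5)) (nat_lit 0) (nat_lit 4) = true := by decide +kernel

theorem eUt_all : Cov eUt_F 4 6 0 := by
  have h := Cov.zero eUt_F 4
  have h := h.blk (b := 4) eUt_k0_0 rfl
  have h := h.next (y := 1) rfl rfl
  have h := h.blk (b := 4) eUt_k1_0 rfl
  have h := h.next (y := 2) rfl rfl
  have h := h.blk (b := 4) eUt_k2_0 rfl
  have h := h.next (y := 3) rfl rfl
  have h := h.blk (b := 4) eUt_k3_0 rfl
  have h := h.next (y := 4) rfl rfl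
  have h := h.blk (b := 4) eUt_k4_0 rfl
  have h := h.next (y := 5) rfl rfl
  have h := h.blk (b := 4) eUt_k5_0 rfl
  have h := h.next (y := 6) rfl rfl
  exact h

theorem eUt : Enum RUt [] (gensW 5) 128 :=
  ⟨eUt_cols, eUt_ch, eUt_L, eUt_H, eUt_pb.1, eUt_e.get, [(nat_lit 0), (nat_lit 1), (nat_lit 3), (nat_lit 5), (nat_lit 7), (nat_lit 9)], (nat_lit 31), (nat_lit 5), eUt_rots, eUt_hcs,
    (nat_lit 129), (nat_lit 6), (nat_lit 256), (nat_lit 64), (nat_lit 16384), (nat_lit 16383), (nat_lit 8), (nat_lit 255), (nat_lit 18), (nat_lit 262143), (nat_lit 1), (nat_lit 4),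
    fun _ _ => rfl, fun _ => rfl, fun _ _ => rfl, by decide +kernel, eUt_all.1⟩

theorem pUt : TUt.Pres RUt (gensW 5) := ⟨CT.ok_spec TUt_ok, lall_iff.1 TUt_rel, by decide +kernel,
  by decide +kernel, by decide +kernel, eUt.bound (ug_rels _) (bound_nil _)⟩

instance instTUt : TUt.Grp := pUt.grp

noncomputable def RUj : List (List Nat) := lapp RU (lapp Rst4 Sk)
noncomputable def TUj_c0 : BT (Bx Nat) := (BT.node (nat_lit 1) (BT.leaf (Bx.mk (nat_lit 0x7ef9ebc76adca86ec9ab454d98a95eb96a774cd8385898fa43a40c134a7919c1e68aa12e48c9440588a2362438c101870b1a282840608080))) (BT.leaf (Bx.mk (nat_lit 0xafe7764eb5bf68a9abde6e5cef4eb5f76e3a5da4f8bbd2ffcd98b0cbcbc73d19bbead8ffeacf791aee508fc2dc2c12b4d39f1a24583321c0))))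
noncomputable def TUj_c1 : BT (Bx Nat) := (BT.node (nat_lit 1) (BT.leaf (Bx.mk (nat_lit 0x76adca87e69e974c6121d2a7c9a13c8ce127c412bc1edd4b55c3980c64bda2d16e84b6702198762b032a4e88220360cc96284410d1414001))) (BT.leaf (Bx.mk (nat_lit 0xf1bb3fbf976b7fb756bd4c38ad59a5fa8e6c17e864fbb27689bcb9ebd52fd4aefc7849ebe7b748fbf6e98b971c4bd72c42a7067cc8122343))))
noncomputable def TUj_c3 : BT (Bx Nat) := (BT.node (nat_lit 1) (BT.leaf (Bx.mk (nat_lit 0x6ea96a74c64e167e8cf25284cfa04861e9120f8e8f78eda2f6c3463062d54b91425d2e10e03b3641962b5011121066cd172a4808e1600282))) (BT.leaf (Bx.mk (nat_lit 0xc1470dae32b96beddfa75cfe7defe1b774ef12e2cde797363c95beffbd7ee5dabf2942a98add78367f4fa1b3440d5ea4498d1f4c389629cc))))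
noncomputable def TUj_c5 : BT (Bx Nat) := (BT.node (nat_lit 1) (BT.leaf (Bx.mk (nat_lit 0x70b93bb7874b3f3654b944288d1924f88a6407c8247ab07281ac99ab542dd0a6ec58096ae5b340ebd6a90a951843c70c02260478c0020303))) (BT.leaf (Bx.mk (nat_lit 0xf7afce8ff6bed7cd6325dab7e9e1bd8ee52fd432fc9fdf4f5dd3b84ce5bfa6d97ea4f6f1239c7e3b236acf8a260b70ecd6a94614d9516041))))
noncomputable def TUj_c7 : BT (Bx Nat) := (BT.node (nat_lit 1) (BT.leaf (Bx.mk (nat_lit 0x56b59b134711202a6ca177a59e123245f257e787a3423960d50e53b816a853a6ced78868c9bb50cc170552992033e74118024c8001824384))) (BT.leaf (Bx.mk (nat_lit 0xcd42e4fef276c8f7bb7e98fc794cebdbcc6d5afa67d1feedeb113061a7932fd8766d63ad5ea55bf4697ef936770952fd78e7b2062b706145))))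
noncomputable def TUj_c9 : BT (Bx Nat) := (BT.node (nat_lit 1) (BT.leaf (Bx.mk (nat_lit 0xfffbefcf7ebcf8efdbaf4e7cb8f0dfbb6ecd7ab4e8cf9b2e4c78b0e0bf7aedcb76acd8af5aad4a74a8d09f3a6cc972a4c88f1a2c4870a0c0))) (BT.leaf (Bx.mk (nat_lit 0x7ef9ebc76e9cb86ed9ab466c98b05eb96ac56a94a84e992a446890a03e78e9c3668c982e58a9426488901e3868c16284880e182840608080))))
noncomputable def TUj_w : BT (Bx Nat) := (BT.node (nat_lit 1) (BT.leaf (Bx.mk (nat_lit 0x73731031731051531031531007373003173005153003153007371005371007171005171003171003751001751007351005351007151005151003151003731001731007531003531001531000737000537000717000517000317000375000175000735000535000715000515000315000373000173000753000353000153000371000171000751000351000151000731000531000037000017000075000035000015000073000053000071000051000031000007000005000003000001000000))) (BT.leaf (Bx.mk (nat_lit 0x973731931731951531931531097373093173095153093153097371095371097171095171093171093751091751097351095351097151095151093151093731091731097531093531091531009737009537009717009517009317009375009175009735009535009715009515009315009373009173009753009353009153009371009171009751009351009151009731009531000937000917000975000935000915000973000953000971000951000931000097000095000093000091000009))))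
noncomputable def TUj_cols : List (BT (Bx Nat)) := [TUj_c0, TUj_c1, TUj_c1, TUj_c3, TUj_c3, TUj_c5, TUj_c5, TUj_c7, TUj_c7, TUj_c9, TUj_c9]
noncomputable def TUj_ch (x j : Nat) : Bx Nat := chk TUj_cols x j
noncomputable def TUj_wc (_ j : Nat) : Bx Nat := TUj_w.get j
noncomputable def TUj : CT := ⟨(nat_lit 128), (nat_lit 7), (nat_lit 127), TUj_ch, (nat_lit 24), (nat_lit 16777215), TUj_wc, (nat_lit 2046)⟩
theorem TUj_ok : TUj.ok = true := by decide +kernel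
theorem TUj_rel : lall TUj.relOK RUj = true := by decide +kernel
noncomputable def eUj_c0 : BT (Bx Nat) := (BT.leaf (Bx.mk (nat_lit 0x0)))
noncomputable def eUj_c1 : BT (Bx Nat) := (BT.leaf (Bx.mk (nat_lit 0x40c73a98b707dd1c22e28c7aa9890911f28eb054943988b55250042293c47e789009112de22ed843bb08746113aa61cd046baa6d9610ca262b18c58a985ec118aa61610436308aad3198e22bcc479508795249a09b8bdf7da08ff451dea49114468418c3011a4e9b1c843828846331d5661ac042ba923c731b8e2175841b512e4c10c54496d047b80869550aaa48d4493ea08f161060c21bd0476b082f01112c20b2cc5fb82e1705be8236cc95439282531914228c6b47a9227705a9a4a558410a08ce825352224d04658d8a14111aa487c8427992514117ac20654c0d318a741166c205c841f992414113ec204d4c0ab829941116c2045c142b827f704f6420a4c915a086761016a6035c130a08536101282125c125b824341072e08edc119a920741046e0895c10ea080f61006e08100000)))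
noncomputable def eUj_c2 : BT (Bx Nat) := (BT.leaf (Bx.mk (nat_lit 0x205694eadf6155c22bad057baa0f89d122acaa5854288a8d614fc5a3e9856140aad614f2c29dbc55d40aff415b6a8375853618ac8e158d28405852f20ab141596a8331346b7b0d4b14b0fa3a5593878a976149610b83c5524a075270aac29097467b82fc9d5ccf09950579aac6906172aa96d5737b0a3a514e6c28da712e82abeec0c2ac1aa057a2e84726ddec28cc453db0a31705e10a95d8517b82ed6145a48225c172b82e28156cda2750560a0aa1705b282a4d0553b0a2461556c2883454ab82d08153282a8b346238a831156ac2875850da0a4961432e0af5502720a8f6142ee0acd850aa0a3961426e0a7d501fb829b61422e0a2dc143b8281704fac28350511b0a0b704cea80a5c131b0a09704a6e0945c126b824570482e08f5c11ab0a0570456e089dc10fb0a037041ee08180000)))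
noncomputable def eUj_c3 : BT (Bx Nat) := (BT.leaf (Bx.mk (nat_lit 0x40a7f78d00e19c5633594a6498cca619c159acaf347b0c7eab98083333466cb0c7a7199df13f1ca7a78cb0719a8a31f38b74654fa891ba259e38644414e452dd6853d9067cb0c512198665b124676a944ed18ae432e4cb5da944961885233cc246fb0c412195665ab1ca29b0c3d5287dc3115861d946632192e5119a06269969ce1896c30d54a1c50cf161864e31c3e86840c60d9cbaa58c2c635b82ee629b6e0b9c0669b0c2b218e6659d22245b0c275285185205861288c9b218be2327a4b4399664c190ac307d4a1175cbd61838c32a5c163a0cbe92d31f3a55065ba9618f9d46e0ad5c157a0ca57054ee0a850648a961370526e0a350641b0c0f21836e09dd0636b826f704d2831654b05b825b704aa658b50623b0c075281a830dd8602b822f4182a830858601b821770422e08200000)))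
noncomputable def eUj_c4 : BT (Bx Nat) := (BT.leaf (Bx.mk (nat_lit 0x5876589af7369a8c3b90c76380eff61d12c3a1a474655e9f16932c39f5873d7c0d87a5f512b71476878eae71dc616b33877350ecf21dfa239d9a9705ccd6f1db6e0c05872821af961c9e83afd8726a9ac2da4aac3925075ba9ab891cce03985872084adf61c7e83a95871e28e5353556c38eb872248eef61c710390c0776a0e9161c69c392d4d4bb0e32aa5e0f49bdc17ab82f2d98b6c38bae93440e63705d6e0ba5871591ad361c52839b5871330e8b534e6c38928740564b561c45349fc6059a0e5961c3d83a154d2fb0e1cc1d78d4a9dc164b82c570581f324dc15db0e16f994134a6dc158b82ad70552e0a8dc14eb0e117052ae0a3d8707b828361c1ae09e5c13ab8271704d6e09958704b825d704ae838558703b824753436c3815c11bb82317045ac380dc110b821970426e08280000)))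
noncomputable def eUj_c5 : BT (Bx Nat) := (BT.leaf (Bx.mk (nat_lit 0x40877b10b482182c428d8847b108d421e10438d4e7a8bd01339d08928488769107e93d2527bc9c84389e9b620e2c41bb0840b106a8d952c418b9242b105b620aec41519134310a74217ac4132527eb104b5398a842cd8822b1043705fea72e9d22ea24994213ec40f1c86a3eec762076e0be8c875a9cad421160437cc857b1034c3cf1043958819b82f9705eea72758818424e0d21a2689f34f6c99ee722106878bac84aa2461420cec409dc16eb82db6204ae0b594864a9c75420a6e0b4cc83bb101e62162e0b3d880eb82cd70596a71950823b101970586e0afd880baa25170572e0add081bb101370556e0a958808aa2417052ee0a45c1449907b4201e840858805b8273704dac40255115b825f704b2c401dc127b82496200ae08fdc11ca9c2d62006e08a5c111b821b7042ae08300000)))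
noncomputable def eUj_p : BT (Bx Nat) := (BT.leaf (Bx.mk (nat_lit 0x15944ab42d570aa88b51c5a8c2d4412a1895082a7e1d3f0a1f090f4487a1c3c0a1d850ec18740c38161b8b0d8286a2c3206188b0bc285a2c2b16150b0a048501c2712130b098484a2c250a120908858422c210e108508048401c1f120f0b078483c1c1d160e89074383a141c120d8506c18342c1a120d07064583224190e0c8506058301418060b8905c282e0b16098b02c54462a1b1411898ac4c46261b12158908c4836241311118804c40161e2b0f118786c38561c230e0d8704c3426182b0c098602c2c5616230b098582c2826122b09098482c2056102308098402c1c460e1a06110304814540a120505020a8104408120405018a80c44061a0215010880834041101148088404320211010400000000)))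
noncomputable def eUj_e : BT Nat := BT.leaf (nat_lit 0)
noncomputable def eUj_cols : List (BT (Bx Nat)) := [eUj_c0, eUj_c1, eUj_c2, eUj_c3, eUj_c4, eUj_c5]
noncomputable def eUj_ch (x j : Nat) : Bx Nat := chunkG eUj_cols (nat_lit 1) x j
noncomputable def eUj_L (x : Nat) : Bx (Nat → Nat) := lookG eUj_ch (nat_lit 8) (nat_lit 255) (nat_lit 19) (nat_lit 524287) x
noncomputable def eUj_pc (_ j : Nat) : Bx Nat := eUj_p.get j
noncomputable def eUj_pb : Bx (Nat → Nat) := lookG eUj_pc (nat_lit 8) (nat_lit 255) (nat_lit 17) (nat_lit 131071) (nat_lit 0)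
noncomputable def eUj_rots : BT CW := (BT.node (nat_lit 27) (BT.node (nat_lit 13) (BT.node (nat_lit 6) (BT.node (nat_lit 3) (BT.node (nat_lit 1) (BT.leaf ⟨[], (nat_lit 1000000), (nat_lit 0), (nat_lit 0), (nat_lit 0)⟩) (BT.node (nat_lit 2) (BT.leaf ⟨[], (nat_lit 1000000), (nat_lit 0), (nat_lit 0), (nat_lit 1)⟩) (BT.leaf ⟨[], (nat_lit 1000000), (nat_lit 0), (nat_lit 0), (nat_lit 2)⟩))) (BT.node (nat_lit 4) (BT.leaf ⟨[(nat_lit 1), (nat_lit 1)], (nat_lit 0), (nat_lit 0), (nat_lit 0), (nat_lit 3)⟩) (BT.node (nat_lit 5) (BT.leaf ⟨[(nat_lit 2), (nat_lit 2)], (nat_lit 1), (nat_lit 0), (nat_lit 0), (nat_lit 3)⟩) (BT.leaf ⟨[(nat_lit 3), (nat_lit 3)], (nat_lit 2), (nat_lit 0), (nat_lit 0), (nat_lit 3)⟩)))) (BT.node (nat_lit 9) (BT.node (nat_lit 7) (BT.leaf ⟨[(nat_lit 4), (nat_lit 4)], (nat_lit 3), (nat_lit 0), (nat_lit 0), (nat_lit 3)⟩) (BT.node (nat_lit 8) (BT.leaf ⟨[(nat_lit 5), (nat_lit 5)], (nat_lit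 18), (nat_lit 0), (nat_lit 0), (nat_lit 3)⟩) (BT.leaf ⟨[(nat_lit 1), (nat_lit 2), (nat_lit 1), (nat_lit 2)], (nat_lit 4), (nat_lit 0), (nat_lit 0), (nat_lit 3)⟩))) (BT.node (nat_lit 11) (BT.node (nat_lit 10) (BT.leaf ⟨[(nat_lit 3), (nat_lit 5), (nat_lit 1), (nat_lit 5)], (nat_lit 14), (nat_lit 3), (nat_lit 0), (nat_lit 3)⟩) (BT.leaf ⟨[(nat_lit 3), (nat_lit 4), (nat_lit 3), (nat_lit 4)], (nat_lit 5), (nat_lit 0), (nat_lit 0), (nat_lit 3)⟩)) (BT.node (nat_lit 12) (BT.leaf ⟨[(nat_lit 1), (nat_lit 5), (nat_lit 3), (nat_lit 5)], (nat_lit 14), (nat_lit 1), (nat_lit 0), (nat_lit 3)⟩) (BT.leaf ⟨[(nat_lit 4), (nat_lit 5), (nat_lit 2), (nat_lit 1), (nat_lit 5)], (nat_lit 17), (nat_lit 1), (nat_lit 0), (nat_lit 3)⟩))))) (BT.node (nat_lit 20) (BT.node (nat_lit 16) (BT.node (nat_lit 14) (BT.leaf ⟨[(nat_lit 5), (nat_lit 4), (nat_lit 5), (nat_lit 1), (nat_lit 2)], (nat_lit 41), (nat_lit 2), (nat_lit 0),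 (nat_lit 3)⟩) (BT.node (nat_lit 15) (BT.leaf ⟨[(nat_lit 5), (nat_lit 3), (nat_lit 5), (nat_lit 1)], (nat_lit 14), (nat_lit 2), (nat_lit 0), (nat_lit 3)⟩) (BT.leaf ⟨[(nat_lit 2), (nat_lit 5), (nat_lit 4), (nat_lit 3), (nat_lit 5)], (nat_lit 15), (nat_lit 1), (nat_lit 0), (nat_lit 3)⟩))) (BT.node (nat_lit 18) (BT.node (nat_lit 17) (BT.leaf ⟨[(nat_lit 5), (nat_lit 2), (nat_lit 5), (nat_lit 3), (nat_lit 4)], (nat_lit 39), (nat_lit 2), (nat_lit 0), (nat_lit 3)⟩) (BT.leaf ⟨[(nat_lit 5), (nat_lit 1), (nat_lit 5), (nat_lit 3)], (nat_lit 14), (nat_lit 0), (nat_lit 0), (nat_lit 3)⟩)) (BT.node (nat_lit 19) (BT.leaf ⟨[(nat_lit 1), (nat_lit 2), (nat_lit 5), (nat_lit 4), (nat_lit 5)], (nat_lit 41), (nat_lit 0), (nat_lit 0), (nat_lit 3)⟩) (BT.leaf ⟨[(nat_lit 1), (nat_lit 3), (nat_lit 1), (nat_lit 3), (nat_lit 1), (nat_lit 3), (nat_lit 1), (nat_lit 3)], (nat_lit 6), (nat_lit 0), (nat_lit 0), (nat_lit 3)⟩))))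 (BT.node (nat_lit 23) (BT.node (nat_lit 21) (BT.leaf ⟨[(nat_lit 2), (nat_lit 3), (nat_lit 2), (nat_lit 3), (nat_lit 1), (nat_lit 4), (nat_lit 1), (nat_lit 4)], (nat_lit 8), (nat_lit 4), (nat_lit 0), (nat_lit 3)⟩) (BT.node (nat_lit 22) (BT.leaf ⟨[(nat_lit 2), (nat_lit 3), (nat_lit 1), (nat_lit 4), (nat_lit 1), (nat_lit 4), (nat_lit 2), (nat_lit 3)], (nat_lit 8), (nat_lit 6), (nat_lit 0), (nat_lit 3)⟩) (BT.leaf ⟨[(nat_lit 2), (nat_lit 3), (nat_lit 2), (nat_lit 4), (nat_lit 1), (nat_lit 4), (nat_lit 1), (nat_lit 3)], (nat_lit 32), (nat_lit 1), (nat_lit 0), (nat_lit 3)⟩))) (BT.node (nat_lit 25) (BT.node (nat_lit 24) (BT.leaf ⟨[(nat_lit 2), (nat_lit 4), (nat_lit 1), (nat_lit 4), (nat_lit 1), (nat_lit 3), (nat_lit 2), (nat_lit 3)], (nat_lit 32), (nat_lit 3), (nat_lit 0), (nat_lit 3)⟩) (BT.leaf ⟨[(nat_lit 2), (nat_lit 4), (nat_lit 2), (nat_lit 4), (nat_lit 2), (nat_lit 4), (nat_lit 2), (nat_lit 4)],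 (nat_lit 7), (nat_lit 0), (nat_lit 0), (nat_lit 3)⟩)) (BT.node (nat_lit 26) (BT.leaf ⟨[(nat_lit 4), (nat_lit 1), (nat_lit 4), (nat_lit 1), (nat_lit 3), (nat_lit 2), (nat_lit 3), (nat_lit 2)], (nat_lit 32), (nat_lit 4), (nat_lit 0), (nat_lit 3)⟩) (BT.leaf ⟨[(nat_lit 2), (nat_lit 1), (nat_lit 3), (nat_lit 1), (nat_lit 3), (nat_lit 2), (nat_lit 1), (nat_lit 3), (nat_lit 1), (nat_lit 3)], (nat_lit 10), (nat_lit 0), (nat_lit 0), (nat_lit 3)⟩)))))) (BT.node (nat_lit 41) (BT.node (nat_lit 34) (BT.node (nat_lit 30) (BT.node (nat_lit 28) (BT.leaf ⟨[(nat_lit 2), (nat_lit 3), (nat_lit 1), (nat_lit 3), (nat_lit 1), (nat_lit 2), (nat_lit 3), (nat_lit 1), (nat_lit 3), (nat_lit 1)], (nat_lit 34), (nat_lit 4), (nat_lit 0), (nat_lit 3)⟩) (BT.node (nat_lit 29) (BT.leaf ⟨[(nat_lit 1), (nat_lit 2), (nat_lit 4), (nat_lit 2), (nat_lit 4), (nat_lit 1), (nat_lit 2), (nat_lit 4), (nat_lit 2), (nat_lit 4)], (nat_lit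 12), (nat_lit 0), (nat_lit 0), (nat_lit 3)⟩) (BT.leaf ⟨[(nat_lit 5), (nat_lit 4), (nat_lit 3), (nat_lit 5), (nat_lit 2)], (nat_lit 15), (nat_lit 2), (nat_lit 0), (nat_lit 3)⟩))) (BT.node (nat_lit 32) (BT.node (nat_lit 31) (BT.leaf ⟨[(nat_lit 1), (nat_lit 5), (nat_lit 4), (nat_lit 5), (nat_lit 2)], (nat_lit 17), (nat_lit 4), (nat_lit 0), (nat_lit 3)⟩) (BT.leaf ⟨[(nat_lit 4), (nat_lit 2), (nat_lit 3), (nat_lit 2), (nat_lit 3), (nat_lit 1), (nat_lit 4), (nat_lit 1)], (nat_lit 8), (nat_lit 3), (nat_lit 0), (nat_lit 3)⟩)) (BT.node (nat_lit 33) (BT.leaf ⟨[(nat_lit 2), (nat_lit 1), (nat_lit 5), (nat_lit 4), (nat_lit 5)], (nat_lit 17), (nat_lit 3), (nat_lit 0), (nat_lit 3)⟩) (BT.leaf ⟨[(nat_lit 3), (nat_lit 1), (nat_lit 4), (nat_lit 1), (nat_lit 4), (nat_lit 2), (nat_lit 3), (nat_lit 2)], (nat_lit 8), (nat_lit 7), (nat_lit 0), (nat_lit 3)⟩)))) (BT.node (nat_lit 37) (BT.node (nat_lit 35) (BT.leaf ⟨[(nat_lit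 3), (nat_lit 2), (nat_lit 3), (nat_lit 2), (nat_lit 4), (nat_lit 1), (nat_lit 4), (nat_lit 1)], (nat_lit 32), (nat_lit 0), (nat_lit 0), (nat_lit 3)⟩) (BT.node (nat_lit 36) (BT.leaf ⟨[(nat_lit 3), (nat_lit 5), (nat_lit 2), (nat_lit 5), (nat_lit 4)], (nat_lit 15), (nat_lit 4), (nat_lit 0), (nat_lit 3)⟩) (BT.leaf ⟨[(nat_lit 4), (nat_lit 5), (nat_lit 2), (nat_lit 5), (nat_lit 3)], (nat_lit 39), (nat_lit 1), (nat_lit 0), (nat_lit 3)⟩))) (BT.node (nat_lit 39) (BT.node (nat_lit 38) (BT.leaf ⟨[(nat_lit 4), (nat_lit 3), (nat_lit 5), (nat_lit 2), (nat_lit 5)], (nat_lit 15), (nat_lit 3), (nat_lit 0), (nat_lit 3)⟩) (BT.leaf ⟨[(nat_lit 3), (nat_lit 4), (nat_lit 5), (nat_lit 2), (nat_lit 5)], (nat_lit 39), (nat_lit 0), (nat_lit 0), (nat_lit 3)⟩)) (BT.node (nat_lit 40) (BT.leaf ⟨[(nat_lit 3), (nat_lit 2), (nat_lit 4), (nat_lit 1), (nat_lit 4), (nat_lit 1), (nat_lit 3), (nat_lit 2)], (nat_lit 32), (nat_lit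 2), (nat_lit 0), (nat_lit 3)⟩) (BT.leaf ⟨[(nat_lit 4), (nat_lit 3), (nat_lit 4), (nat_lit 3)], (nat_lit 5), (nat_lit 1), (nat_lit 0), (nat_lit 3)⟩))))) (BT.node (nat_lit 48) (BT.node (nat_lit 44) (BT.node (nat_lit 42) (BT.leaf ⟨[(nat_lit 3), (nat_lit 1), (nat_lit 3), (nat_lit 1), (nat_lit 3), (nat_lit 1), (nat_lit 3), (nat_lit 1)], (nat_lit 6), (nat_lit 1), (nat_lit 0), (nat_lit 3)⟩) (BT.node (nat_lit 43) (BT.leaf ⟨[(nat_lit 1), (nat_lit 4), (nat_lit 1), (nat_lit 4), (nat_lit 2), (nat_lit 3), (nat_lit 2), (nat_lit 3)], (nat_lit 8), (nat_lit 0), (nat_lit 0), (nat_lit 3)⟩) (BT.leaf ⟨[(nat_lit 1), (nat_lit 3), (nat_lit 2), (nat_lit 3), (nat_lit 2), (nat_lit 4), (nat_lit 1), (nat_lit 4)], (nat_lit 32), (nat_lit 7), (nat_lit 0), (nat_lit 3)⟩))) (BT.node (nat_lit 46) (BT.node (nat_lit 45) (BT.leaf ⟨[(nat_lit 4), (nat_lit 5), (nat_lit 1), (nat_lit 2), (nat_lit 5)], (nat_lit 41), (nat_lit 3), (nat_lit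 0), (nat_lit 3)⟩) (BT.leaf ⟨[(nat_lit 3), (nat_lit 2), (nat_lit 4), (nat_lit 2), (nat_lit 4), (nat_lit 1), (nat_lit 4), (nat_lit 1), (nat_lit 4), (nat_lit 1), (nat_lit 3), (nat_lit 1)], (nat_lit 9), (nat_lit 7), (nat_lit 0), (nat_lit 3)⟩)) (BT.node (nat_lit 47) (BT.leaf ⟨[(nat_lit 4), (nat_lit 2), (nat_lit 4), (nat_lit 1), (nat_lit 4), (nat_lit 1), (nat_lit 4), (nat_lit 1), (nat_lit 3), (nat_lit 1), (nat_lit 3), (nat_lit 2)], (nat_lit 9), (nat_lit 9), (nat_lit 0), (nat_lit 3)⟩) (BT.leaf ⟨[(nat_lit 2), (nat_lit 4), (nat_lit 1), (nat_lit 4), (nat_lit 1), (nat_lit 4), (nat_lit 1), (nat_lit 3), (nat_lit 1), (nat_lit 3), (nat_lit 2), (nat_lit 4)], (nat_lit 9), (nat_lit 10), (nat_lit 0), (nat_lit 3)⟩)))) (BT.node (nat_lit 51) (BT.node (nat_lit 49) (BT.leaf ⟨[(nat_lit 2), (nat_lit 4), (nat_lit 2), (nat_lit 3), (nat_lit 1), (nat_lit 3), (nat_lit 1), (nat_lit 4), (nat_lit 1), (nat_lit 4), (nat_lit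 1), (nat_lit 4)], (nat_lit 33), (nat_lit 1), (nat_lit 0), (nat_lit 3)⟩) (BT.node (nat_lit 50) (BT.leaf ⟨[(nat_lit 4), (nat_lit 2), (nat_lit 3), (nat_lit 1), (nat_lit 3), (nat_lit 1), (nat_lit 4), (nat_lit 1), (nat_lit 4), (nat_lit 1), (nat_lit 4), (nat_lit 2)], (nat_lit 33), (nat_lit 2), (nat_lit 0), (nat_lit 3)⟩) (BT.leaf ⟨[(nat_lit 3), (nat_lit 1), (nat_lit 3), (nat_lit 1), (nat_lit 4), (nat_lit 1), (nat_lit 4), (nat_lit 1), (nat_lit 4), (nat_lit 2), (nat_lit 4), (nat_lit 2)], (nat_lit 33), (nat_lit 4), (nat_lit 0), (nat_lit 3)⟩))) (BT.node (nat_lit 53) (BT.node (nat_lit 52) (BT.leaf ⟨[(nat_lit 2), (nat_lit 1), (nat_lit 2), (nat_lit 1)], (nat_lit 4), (nat_lit 1), (nat_lit 0), (nat_lit 3)⟩) (BT.leaf ⟨[(nat_lit 2), (nat_lit 5), (nat_lit 3), (nat_lit 4), (nat_lit 5)], (nat_lit 39), (nat_lit 3), (nat_lit 0), (nat_lit 3)⟩)) (BT.node (nat_lit 54) (BT.leaf ⟨[(nat_lit 5), (nat_lit 2), (nat_lit 1),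 (nat_lit 5), (nat_lit 4)], (nat_lit 17), (nat_lit 2), (nat_lit 0), (nat_lit 3)⟩) (BT.leaf ⟨[(nat_lit 5), (nat_lit 2), (nat_lit 5), (nat_lit 4), (nat_lit 3)], (nat_lit 15), (nat_lit 0), (nat_lit 0), (nat_lit 3)⟩)))))))
noncomputable def eUj_hcs : List CW := []
noncomputable def eUj_H (x j : Nat) : Bx (Nat → Nat → Nat) := mkH eUj_L eUj_pb.1 eUj_e.get (lmap CW.w eUj_hcs) (nat_lit 128) (nat_lit 129) (nat_lit 6) (nat_lit 256) (nat_lit 16384) (nat_lit 16383) x (eUj_rots.get j)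
noncomputable def eUj_F (x b : Nat) : Bool := blkOK eUj_H eUj_ch (nat_lit 129) (nat_lit 256) (nat_lit 64) (nat_lit 8) (nat_lit 255) (nat_lit 19) (nat_lit 524287) x b

theorem eUj_k0_0 : allFrom (eUj_F (nat_lit 0)) (nat_lit 0) (nat_lit 4) = true := by decide +kernel
theorem eUj_k1_0 : allFrom (eUj_F (nat_lit 1)) (nat_lit 0) (nat_lit 4) = true := by decide +kernel
theorem eUj_k2_0 : allFrom (eUj_F (nat_lit 2)) (nat_lit 0) (nat_lit 4) = true := by decide +kernel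
theorem eUj_k3_0 : allFrom (eUj_F (nat_lit 3)) (nat_lit 0) (nat_lit 4) = true := by decide +kernel
theorem eUj_k4_0 : allFrom (eUj_F (nat_lit 4)) (nat_lit 0) (nat_lit 4) = true := by decide +kernel
theorem eUj_k5_0 : allFrom (eUj_F (nat_lit 5)) (nat_lit 0) (nat_lit 4) = true := by decide +kernel

theorem eUj_all : Cov eUj_F 4 6 0 := by
  have h := Cov.zero eUj_F 4
  have h := h.blk (b := 4) eUj_k0_0 rfl
  have h := h.next (y := 1) rfl rfl
  have h := h.blk (b := 4) eUj_k1_0 rfl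
  have h := h.next (y := 2) rfl rfl
  have h := h.blk (b := 4) eUj_k2_0 rfl
  have h := h.next (y := 3) rfl rfl
  have h := h.blk (b := 4) eUj_k3_0 rfl
  have h := h.next (y := 4) rfl rfl
  have h := h.blk (b := 4) eUj_k4_0 rfl
  have h := h.next (y := 5) rfl rfl
  have h := h.blk (b := 4) eUj_k5_0 rfl
  have h := h.next (y := 6) rfl rfl
  exact h

theorem eUj : Enum RUj [] (gensW 5) 128 :=
  ⟨eUj_cols, eUj_ch, eUj_L, eUj_H, eUj_pb.1, eUj_e.get, [(nat_lit 0), (nat_lit 1), (nat_lit 3), (nat_lit 5), (nat_lit 7), (nat_lit 9)], (nat_lit 31), (nat_lit 5), eUj_rots, eUj_hcs,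
    (nat_lit 129), (nat_lit 6), (nat_lit 256), (nat_lit 64), (nat_lit 16384), (nat_lit 16383), (nat_lit 8), (nat_lit 255), (nat_lit 19), (nat_lit 524287), (nat_lit 1), (nat_lit 4),
    fun _ _ => rfl, fun _ => rfl, fun _ _ => rfl, by decide +kernel, eUj_all.1⟩

theorem pUj : TUj.Pres RUj (gensW 5) := ⟨CT.ok_spec TUj_ok, lall_iff.1 TUj_rel, by decide +kernel,
  by decide +kernel, by decide +kernel, eUj.bound (ug_rels _) (bound_nil _)⟩

instance instTUj : TUj.Grp := pUj.grp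

noncomputable def RUl : List (List Nat) := lapp RU (lapp Rsg4 (lapp Rta5 Skr))
noncomputable def TUl_c0 : BT (Bx Nat) := (BT.node (nat_lit 2) (BT.node (nat_lit 1) (BT.leaf (Bx.mk (nat_lit 0x3f3e3d3c3b2b3928373235342a3631292f2e2d273a3330382c261f241d101813251e231c0f1a152117121914201611221b09070c08060e0b0d0a050403020100))) (BT.leaf (Bx.mk (nat_lit 0x646e795775637d785e737b5a766a5449667e6d565d724e68526f557f7a58504759776b5c48745f627c6c65714d6751614b6953444f46705b604a424c43454140)))) (BT.node (nat_lit 3) (BT.leaf (Bx.mk (nat_lit 0xbcbdbebfbba7aeb8b1b6b5afb3b2b7b0b4b9adabacaaa9a8ba9a959792a1a29b99949691a0a69f90a49da59e8fa39c98938e8b858d8a898788868c8281848380))) (BT.leaf (Bx.mk (nat_lit 0xd7f9eee4f5d6fee8d4eafbe6f2f3decedafdede3d2f6c9f8ddf4dffcece2e1cbe5f1e7d1cdefd5d8fffad9f7c8ebdcd0c7f0dbc2e0cae9d3cfc6c4c5c1ccc3c0)))))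
noncomputable def TUl_c1 : BT (Bx Nat) := (BT.node (nat_lit 2) (BT.node (nat_lit 1) (BT.leaf (Bx.mk (nat_lit 0x3b2b39283f1a3d172618241d151f13211e231c123e10253c0f3729352e0e300c322f342d0b3a093638083307312c062a272204201b0319161411020d0a050001))) (BT.leaf (Bx.mk (nat_lit 0x7b6b79687f5a7d576658645d555f53615e635c527e50657c4f7769756e4e704c726f746d4b7a497678487347716c466a676244605b4359565451424d4a454041)))) (BT.node (nat_lit 3) (BT.leaf (Bx.mk (nat_lit 0xb8aea7bbbc9d96bf9b959794a1a29a9992be91a6a09f90a4bdac8ea88db2b3abaa8bba8ab7b1b089b5b9b6b487afada985a5a3849e9c988293818f8c80888683))) (BT.leaf (Bx.mk (nat_lit 0xf8eee7fbfcddd6ffdbd5d7d4e1e2dad9d2fed1e6e0dfd0e4fdeccee8cdf2f3ebeacbfacaf7f1f0c9f5f9f6f4c7efede9c5e5e3c4dedcd8c2d3c1cfccc0c8c6c3)))))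
noncomputable def TUl_c3 : BT (Bx Nat) := (BT.node (nat_lit 2) (BT.node (nat_lit 1) (BT.leaf (Bx.mk (nat_lit 0x372a2d2726191c163f231e2514131f2024183d11103e1d0f3c3b342f360d0c30313529390a093a2e0838073332062c2b28042221031b1a171512010e0b000502))) (BT.leaf (Bx.mk (nat_lit 0x66505c4f77496d487b6e6f694771724c757679466a6b7467687f5d5e584460615364657d43595a63565754555f51527e7c4d4e704a4b7a78736c40625b414245)))) (BT.node (nat_lit 3) (BT.leaf (Bx.mk (nat_lit 0xabadb3b19a9ca2a0959b9497bd96bc929991bea5bf9e8fa3a18eac8da8b9a7b88baa8abab6bbaf88b4b2b7b586b0ae85a9a6a4839f9d8298819390808c898784))) (BT.leaf (Bx.mk (nat_lit 0xe0d1e1daf1caf2ebf6f7f4f5e7f9fbeff0edeecef8cbc5cdf3e5e6e3e4d6fdffdedfdcddd5fcd2c2d4e2dbd7c1d9fecfd0ece8c0eafac8c9c6c7e9c3c4d8d3cc)))))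
noncomputable def TUl_c5 : BT (Bx Nat) := (BT.node (nat_lit 2) (BT.node (nat_lit 1) (BT.leaf (Bx.mk (nat_lit 0x382e273b3c1d163f1b15171421221a19123e1126201f10243d2c0e280d32332b2a0b3a0a3731300935393634072f2d29052523041e1c180213010f0c00080603))) (BT.leaf (Bx.mk (nat_lit 0x786e677b7c5d567f5b55575461625a59527e5166605f50647d6c4e684d72736b6a4b7a4a7771704975797674476f6d69456563445e5c584253414f4c40484643)))) (BT.node (nat_lit 3) (BT.leaf (Bx.mk (nat_lit 0xbbabb9a8bf9abd97a698a49d959f93a19ea39c92be90a5bc8fb7a9b5ae8eb08cb2afb4ad8bba89b6b888b387b1ac86aaa7a284a09b8399969491828d8a858081))) (BT.leaf (Bx.mk (nat_lit 0xfbebf9e8ffdafdd7e6d8e4ddd5dfd3e1dee3dcd2fed0e5fccff7e9f5eecef0ccf2eff4edcbfac9f6f8c8f3c7f1ecc6eae7e2c4e0dbc3d9d6d4d1c2cdcac5c0c1)))))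
noncomputable def TUl_c7 : BT (Bx Nat) := (BT.node (nat_lit 2) (BT.node (nat_lit 1) (BT.leaf (Bx.mk (nat_lit 0x2b2d33311a1c2220151b14173d163c1219113e253f1e0f23210e2c0d283927380b2a0a3a363b2f083432373506302e05292624031f1d0218011310000c090704))) (BT.leaf (Bx.mk (nat_lit 0x6051615a714a726b7677747567797b6f706d6e4e784b454d7365666364567d7f5e5f5c5d557c524254625b5741597e4f506c68406a7a4849464769434458534c)))) (BT.node (nat_lit 3) (BT.leaf (Bx.mk (nat_lit 0xb7aaada7a6999c96bfa39ea594939fa0a498bd9190be9d8fbcbbb4afb68d8cb0b1b5a9b98a89baae88b887b3b286acaba884a2a1839b9a979592818e8b808582))) (BT.leaf (Bx.mk (nat_lit 0xe6d0dccff7c9edc8fbeeefe9c7f1f2ccf5f6f9c6eaebf4e7e8ffddded8c4e0e1d3e4e5fdc3d9dae3d6d7d4d5dfd1d2fefccdcef0cacbfaf8f3ecc0e2dbc1c2c5)))))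
noncomputable def TUl_c9 : BT (Bx Nat) := (BT.node (nat_lit 2) (BT.node (nat_lit 1) (BT.leaf (Bx.mk (nat_lit 0x7f7e7d7c7b7a797877767574737271706f6e6d6c6b6a696867666564636261605f5e5d5c5b5a595857565554535251504f4e4d4c4b4a49484746454443424140))) (BT.leaf (Bx.mk (nat_lit 0x3f3e3d3c3b3a393837363534333231302f2e2d2c2b2a292827262524232221201f1e1d1c1b1a191817161514131211100f0e0d0c0b0a09080706050403020100)))) (BT.node (nat_lit 3) (BT.leaf (Bx.mk (nat_lit 0xfffefdfcfbfaf9f8f7f6f5f4f3f2f1f0efeeedecebeae9e8e7e6e5e4e3e2e1e0dfdedddcdbdad9d8d7d6d5d4d3d2d1d0cfcecdcccbcac9c8c7c6c5c4c3c2c1c0))) (BT.leaf (Bx.mk (nat_lit 0xbfbebdbcbbbab9b8b7b6b5b4b3b2b1b0afaeadacabaaa9a8a7a6a5a4a3a2a1a09f9e9d9c9b9a999897969594939291908f8e8d8c8b8a89888786858483828180)))))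
noncomputable def TUl_c11 : BT (Bx Nat) := (BT.node (nat_lit 2) (BT.node (nat_lit 1) (BT.leaf (Bx.mk (nat_lit 0xbfbebdbcbbbab9b8b7b6b5b4b3b2b1b0afaeadacabaaa9a8a7a6a5a4a3a2a1a09f9e9d9c9b9a999897969594939291908f8e8d8c8b8a89888786858483828180))) (BT.leaf (Bx.mk (nat_lit 0xfffefdfcfbfaf9f8f7f6f5f4f3f2f1f0efeeedecebeae9e8e7e6e5e4e3e2e1e0dfdedddcdbdad9d8d7d6d5d4d3d2d1d0cfcecdcccbcac9c8c7c6c5c4c3c2c1c0)))) (BT.node (nat_lit 3) (BT.leaf (Bx.mk (nat_lit 0x3f3e3d3c3b3a393837363534333231302f2e2d2c2b2a292827262524232221201f1e1d1c1b1a191817161514131211100f0e0d0c0b0a09080706050403020100))) (BT.leaf (Bx.mk (nat_lit 0x7f7e7d7c7b7a797877767574737271706f6e6d6c6b6a696867666564636261605f5e5d5c5b5a595857565554535251504f4e4d4c4b4a49484746454443424140)))))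
noncomputable def TUl_w : BT (Bx Nat) := (BT.node (nat_lit 2) (BT.node (nat_lit 1) (BT.leaf (Bx.mk (nat_lit 0x73731003173100515310031531000737300031730005153000315300073710005371000717100051710003171000375100017510007351000535100071510005151000315100037310001731000753100035310001531000073700005370000717000051700003170000375000017500007350000535000071500005150000315000037300001730000753000035300001530000371000017100007510000351000015100007310000531000003700000170000075000003500000150000073000005300000710000051000003100000070000005000000300000010000000))) (BT.leaf (Bx.mk (nat_lit 0x973731093173109515310931531009737300931730095153009315300973710095371009717100951710093171009375100917510097351009535100971510095151009315100937310091731009753100935310091531000973700095370009717000951700093170009375000917500097350009535000971500095150009315000937300091730009753000935300091530009371000917100097510009351000915100097310009531000093700009170000975000093500009150000973000095300009710000951000093100000970000095000009300000910000009))))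 (BT.node (nat_lit 3) (BT.leaf (Bx.mk (nat_lit 0xb737310b317310b515310b3153100b737300b317300b515300b315300b737100b537100b717100b517100b317100b375100b175100b735100b535100b715100b515100b315100b373100b173100b753100b353100b1531000b737000b537000b717000b517000b317000b375000b175000b735000b535000b715000b515000b315000b373000b173000b753000b353000b153000b371000b171000b751000b351000b151000b731000b5310000b370000b170000b750000b350000b150000b730000b530000b710000b510000b3100000b700000b500000b300000b1000000b))) (BT.leaf (Bx.mk (nat_lit 0xb973731b931731b951531b9315310b973730b931730b951530b931530b973710b953710b971710b951710b931710b937510b917510b973510b953510b971510b951510b931510b937310b917310b975310b935310b9153100b973700b953700b971700b951700b931700b937500b917500b973500b953500b971500b951500b931500b937300b917300b975300b935300b915300b937100b917100b975100b935100b915100b973100b9531000b937000b917000b975000b935000b915000b973000b953000b971000b951000b9310000b970000b950000b930000b9100000b9)))))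
noncomputable def TUl_cols : List (BT (Bx Nat)) := [TUl_c0, TUl_c1, TUl_c1, TUl_c3, TUl_c3, TUl_c5, TUl_c5, TUl_c7, TUl_c7, TUl_c9, TUl_c9, TUl_c11, TUl_c11]
noncomputable def TUl_ch (x j : Nat) : Bx Nat := chk TUl_cols x j
noncomputable def TUl_wc (_ j : Nat) : Bx Nat := TUl_w.get j
noncomputable def TUl : CT := ⟨(nat_lit 256), (nat_lit 8), (nat_lit 255), TUl_ch, (nat_lit 28), (nat_lit 268435455), TUl_wc, (nat_lit 8190)⟩
theorem TUl_ok : TUl.ok = true := by decide +kernel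
theorem TUl_rel : lall TUl.relOK RUl = true := by decide +kernel
noncomputable def eUl_c0 : BT (Bx Nat) := (BT.node (nat_lit 1) (BT.leaf (Bx.mk (nat_lit 0x0))) (BT.leaf (Bx.mk (nat_lit 0x0))))
noncomputable def eUl_c1 : BT (Bx Nat) := (BT.node (nat_lit 1) (BT.leaf (Bx.mk (nat_lit 0xb08da888f18a0db588fab08c4620fc488d7608c3c20b6488df620c7920dcc20b11a0cf920fe92100c20a93a0cab08a7ba0ebb08ecc209c908d3388d6b08977a0e1b08929c8d82a0a23a0d2708e6420d5520f66a0b382091888f4808fdba0ffc207c908e4520f9420e8388e0888b09a0e9308e23088dc2073108f28a07e6089fc206f9889a308ee9889d4a087588f58a084c2065ba0fb6a0f82148bc2061b088e420a6908ae388af4a098bc48570895c145ab085c720a0b88f7b087ac1456608de48893b88f395cd4416bd9a0be28890c2051808a1c884fb88ef90877ba0ed388bf4089bc204c30850208e3894ab688b76a0cdc2048a20c9b88ea4d6a5a20cba1453408bcba0e78885b7a0bac203e516b2ba0e5788dd314adc203ab96c03a0d1aa089188c2c8834a088ca8886408c8b1488b08bb808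c6c1632c1431b0835a887db0833808ceb1480b88d9c162ebb4b5c142caa0759d6a8c8829a0878a8872b88d0b1474a884a3082db88ccc16276204698838c1426b082aa8864b08285083cc8822b88c5b1469788405a03bb88c1c162398845c3437c1421ba0b895896b88b9c881ec201f38849b88b4c881daa04e98899c881bb88ac396a3d02aaa0854a884bb88a4b144db147141457b889ec16185886da625fc1417b081ca883db081981463c8813b8894b14425946750862b888fc1614a5c6cb885ec1412ba081d028aba07fb8883b8882c880ec2010b887b39670b8879c880dba06ad0276ba068b886eb886bc880ac200cb8860d0266b885dc8809b8858d0259d0255ba043d0252a880fba041b8847b8844c8805c2007b8839d023fb8836c8804b882fb141ad0230d022bb8824c1606d0225d0220c1403b8815b880bd0216d0211b8808c8801d020200000))) (BT.leaf (Bx.mk (nat_lit 0x888f0))))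
noncomputable def eUl_c2 : BT (Bx Nat) := (BT.node (nat_lit 1) (BT.leaf (Bx.mk (nat_lit 0x40aefc22d5122f2ba2fbb0afc50ac4c22bc622c148acb90ac8c22b3c22b1922dc08afd3a2e04a2d34a2ffba2edb0aeec22a2222e38a2e240b00c22973a2d6ba2e5b0ae6c8a8e18aeb80aea7229230af1c2287922c770a8f88af3922cf40aa95229da26c09a29830ae7b8afeb369b40af030a9cc22733228d88adbc226f40ab28a27e522f7322a74a27c9a2f688adec22658a2845a2fac226120a8a58af898ad830aa4a22acc8a5bb8af9c3e7170a94c8a59c225860a9e4a29aa0a5ec8a55b8af54f2cdb8af44f4a530a96c2251c8a5098abec8a4f93ca14a2da90a7628acac224c40ab03a2bf9e490b8aec88aaac224858a936a2b748ad93a2d2a8ad440ab6a0a5290ad7b8ae83f2afc223e7a2ba6229f68ae1c223a90aa37a2ddd02e428ad0c2235c8a342a6c2ba281c8a32b8adfb8a83c3e4a80ac5c2686c8a30b0a89c8a2ec222f80accb8a7b40ac9c267dac237c8a2bc222ac8a299a6a8ba26ac8a27b8ad1b8a6eb8abbc3845b8acec2672c363bc3a49c8a25b0a75c8a23c2224c8a2266c3cb8ac6b8a608ea3fc3c46b8ac3c26643722dac0b5c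8a20c221fd02bdc8a1ed02b9b8ab84b638c8a1dd02b4c221cc8a1baa699b8aaed02add02abba243c8a18b8aa6b8a47b8a85b8a6cb8aa0c264bb8a62b8a70c8a16b0a4ec8a14c2215c8a1380a63b8a95b8a3958a66b8a6db8a91c263d40a57a0a7ac8a11b8a8cd028bc2210d0288c8a0ed0282b8a7fd028028a5fc8a0dd0279b8a78d0277c220cd0274c8a0ad026bb8a68d0269d0267c8a09d025db8a5cd025ad0256b8a54d0253c8a06c2207d024dc8a05d0244b8a41d0242d0240c8a04d0236b8a33b8a0bd0231d022cb8a28c260fd0226d0221c8a02b8a19d021ad0217d0212c8a01d0208d020300000))) (BT.leaf (Bx.mk (nat_lit 0x4a2e9))))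
noncomputable def eUl_c3 : BT (Bx Nat) := (BT.node (nat_lit 1) (BT.leaf (Bx.mk (nat_lit 0x91900898f475eeb10ce3b18e5398f3a8cdfb0cbcb18d9b0cb7498e780cfe30cfa298e6818ecc18ac918d6418ea318ae78cf168cfd38cee90cb3898be40cf520cf2a8cfb99eaa198fcc188ca98e0a0ce1b18f9b0c89b0c87a98dba0cdcb0c81a8cf7c1e7bb0c7e88cefc18789ccaba98d2a0cd3a98a63187fb0c7560ca088c7d99891b0c73a98c751895c1868a0cca7989a58c94b0c6a9989e69ebdb0c8fc1e60b0c6580ce860cc2b98f85f079c185c7705f398a4b98f6c1858c8c555e685998e960c64c185490c80c8c5228ced18c6eb8cf090cd490ce4a98a7c8c4da0ca9a0cd138c6930cb8c1e4bb0c4eb8c9f69ecec32a190cc3b0c4ca9897c8c4270cc6a1e74c1841a0c9c49e7748cc961cc5c1e3db0c4390ccc78c88b98c1c1e39b0c3eb8ce228c4738c72b98de81e90b98dd40c7650cb4c183368c5380c38b98da9b2b028cd0b98d794ccdc182fb8cd8c8c2b50cbbb8cd540c9649e86b98cf98c99b98cb4328a41e36c8c26c182821ead88c2cc8c25ad440b98c441ea5b8cc8ad24448c31b98bf69cb288c30c8c21c1824b8cc068cb9c8c204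0c4ab8cbaa1c5048c3f8323cb8cb6c1c1e70c46d02b5b8cb171e83d02afa983598c5bc8c1ab98a2d02a8b989db8ca34d25dc8c17c181931e8b79e56c8c16a0c67b9892d029bb8c98a0c6b51c5ab988db8c9378c59c8c12c1815b8c8e8e682c8c1138c71a0c51a8c32b8c84b1c3451c6693263b8c7cc1e0fc1c0e9326dd027ab0c1ca8c27b8c6fb1c29d0270d026cb8c61c1e0bc1c0ad0262d025eb0c10b8c57c8c08b982aa8c18d024fb8c48b1c1bd0249d0245b8c3ac1e06c1c05d023bd0237b981fb8c2eb8c2dc8c03c1807b8c23b8c22c8c02d021db8c0cb8c14b8c13c8c01d020dd0209d020400000))) (BT.leaf (Bx.mk (nat_lit 0x88cff))))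
noncomputable def eUl_c4 : BT (Bx Nat) := (BT.node (nat_lit 1) (BT.leaf (Bx.mk (nat_lit 0x90efba0eea41af521ae299affc1abeb0ed1c1abaa1ac1c1ab638efd38eee31ae8c1aaec1aac80eec91ad541af488ee689af06e0e7a9afea1ab128ef360eeb91aedb8f0048e99c1a8c18efcc1a89b9adeb0ea6b0ee0c1a84c1a81b9adab0edb98e8f550a8c1a7cc1a7888eefc8e76c1a75b9acfb9af9b0e9eb0ed2b0e9410eadb0ea4c1a6fc1a6ac1a6850e95b9ac478e98b0ea0b0ec720e7fb8ec098ef7c2ec2c1a61b8efa65a60c1a5cc8e5ab8ef860e5e38e91c1a58b8ef65e86ba4a66c1a54c8e5398ee9c8e5290e80b8ef21dacdb8ef138e8648e74c1a4e48ed8b9aa2b9adfb8ea3b9accc2ea5b0ea7c8e47b9ac520e8bb9ad0c1a48c1a4388e8ac1a4152ee481ac6b9a92c8e3d59ac8b9ace38e77b0e9741ab8b8e8ea1ad9c2e90c1a3ab8ee32da9f94e9bb8ee170e39c1a3345aabc8e31b8edd90e6485a37b8edc9d0af29ac3c1a2f90e6eb8ed752e4d50e4498e3fb8ed645a93d02d4b8ed3550aac1a2845042c8e2630e36b8ecb9ce7dc8e2588e2c50eb5b8eca30e4bb8ec948e2b98eb4c1a249ca83c8e2188e30b8ebf58ebdc8e206dab94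5a49b8ebca0e4fd02bb8503bb8eb7c8e1d75a4548e40b8eb3d02b2d02b0c1a1cc8e1aaae5bb8ea948e7bc1a193da69c8e1738e5db8e9dd02a1c8e1668e565ee7ab8e9c38e72b8e9a55a55a4e79c1a15d0296c8e1278e59b8e8d7da88c8e1178e823da70b9a2ac8e0fb8e87b8e2ed028595062b8e7ec2e32c8e0d9506c55a67b0e35c8e0bb8e73b8e23d0271d026db8e65c2e27c8e09d0263d025fc1a0cc8e08d0257b8e51c8e06d0250b8e4cb8e14d024ad0246b8e3ec2e18c8e04d023cd0238c1a07d0234c8e03d022db8e1fd0229c8e02d0222d021eb8e10d021bc8e01d0213d020ed020ad020500000))) (BT.leaf (Bx.mk (nat_lit 0xc1ae5))))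
noncomputable def eUl_c5 : BT (Bx Nat) := (BT.node (nat_lit 1) (BT.leaf (Bx.mk (nat_lit 0xc24d94a4dfc24cec24c3c24c1ba4f84a4f4b10fa91100a10f1510c5410f9424bc190ccaa4f6aa4b6910c9c24a6c24a47a4b7c24a0390d1c249a790bac2494c2491c248f990b52909e3a4d0ba4ddc2487410fec2484b10e1ba4d7c247ec247cb90ffc907ab10dc41095a90c849085ba4cbc2473424ea310e2c246fb90fdc906d224f2b10d3ba4bf9a4efb24d5c2465690b35a4f5c2461b90fcc905fb90fbc905eb10cac245cb90b9390f3490b0824e8c28bda10ae710eca10f0a46e4b28ab724c662a62a909852abb4105aaa4b82ac6ca9058a90b4a9055ba49da2a67c244cb90eec904ab90edc9049c244879056b90ebc9046324e3b10a9ba48d4c671b90e9c9040b24b1c243e8ac594a4d6b90e7c903bc243ab90e6c9038b90e5c9037b109cba47f3a84539070c2433b9082b90e0c903152ad4b90dec9030c2888c242fb9079b108cb90dbc902cb90dac902bd02d8c2880ba46852c3cbac66c2428b906bb90d2c90264109b4768ab90cfc9025d02cd210adc2874c2424b905db1078990a8b1076b90c7c90217ac53590b2b90c4c9020d02c2d02c0c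2869b90bec901e4aaaf81096b24acb305082ca1b2caaba44171063bac3fba41fa9057baa1dc2419b9044b90a7c9017d02a5d02a3b90a2c9016d029f3108bc284dc2415b9036b1054d0299b1052b9097c901249077d0293b9092c9011d0290d028ec2842c2410b902db9089c900ed0286d0283b9081c900dc3034d027dd027bc240cb9022b9075c900ad0272d026eb906ac9009c3029d0264d0260b1051d025bb104fc2407b9013b9008b904ec9005d024bd0247b9043c9004c301bd023dd0239b9035c9003d0232d022eb902ac9002d0227d0223c281ab901cc9001d0218d0214d020fd020bd020600000))) (BT.leaf (Bx.mk (nat_lit 0x9a4f7))))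
noncomputable def eUl_c6 : BT (Bx Nat) := (BT.node (nat_lit 1) (BT.leaf (Bx.mk (nat_lit 0xc92d8c92d4c92cdc92c2c92c0c92bdc92bbc92b9c92b5c92b4c92b2c92b0c92afc92adc92abc92aac92a8c92a5c92a3c92a1c929fc929bc9299c9296c9293c9290c928ed0300c928bc928ac9288c9286c9285c9283c9282c9280c927dc927bc927ad02ffc9279c9277c9276d02fec9274c9272c9271c9270c926ec926dd02fdc926cc926bc9269c9267c9266c9264c9263c9262c9260c925fd02fcc925ed02fbc925dc925bd02fac925ad02f9c9259d02f8c9257c9256c9255d02f7d02f6c9253d02f5c9252d02f4d02f3c9250d02f2c924fd02f1d02f0c924dd02efc924bc924ad02eec9249d02edc9247d02ecc9246d02ebc9245c9244c9242d02eac9240d02e9c923fc923dd02e8c923cc923bd02e7c9239c9238d02e6c9237d02e5c9236c9234d02e3d02e2c9232d02e1c9231d02e0d02dfc9230d02ded02ddc922ed02dcc922dc922cd02dbc922bd02dad02d9d02d7c9229d02d6d02d5c9227d02d3c9226d02d2d02d1d02d0c9225d02cfd02ced02ccd02cbc9223d02cac9222d02c9d02c8c9221d02c7d02c6d02c5c9220d02c4d02c3d02c1d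02bfc921ed02bed02bcd02bac921dd02b8d02b7d02b6c921bd02b3d02b1c921ad02aed02acc9218d02a9c9217d02a7d02a6d02a4c9216d02a2d02a0d029ed029dc9214d029cc9213d029ad0298c9212d0297d0295d0294c9211d0292d0291d028fd028dc920fd028cc920ed0289d0287d0284c920dd0281d027fd027ed027cc920bd0278c920ad0275d0273d026fc9209d026ad0268d0265d0261c9208d025cd0258c9206d0254d0251c9205d024ed024cd0248c9204d0243d0241d023ed023ac9203d0235d0233d022fc9202d022ad0228d0224d021fc9201d021cd0219d0215d0210d020cd020700000))) (BT.leaf (Bx.mk (nat_lit 0xc92e4))))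
noncomputable def eUl_p : BT (Bx Nat) := (BT.node (nat_lit 1) (BT.leaf (Bx.mk (nat_lit 0xcd81b3506ccd1b3086cc01b2f46cbb1b2e46cb51b2d06ab21aac06aaf1aab46aab1aaa86aa81aa946aa31aa846a9f1aa6c6a991aa586a931aa406a8e1aa382a8b1aa286a881aa186a851aa0c6a821aa006a7d1a9ec6a7a1a9e85a791a9dc6a761a9d84a741a9c86a711a9c06a6e1a9b46a6d169b06a6b1a9a46a671a9986a641a98c6a621a9806a5f1a97c5a5e1a9785a5d1a96c6a5b0a9686a5a129646a590a95c6a561a9546a550e95428531a14c48521a14848520e14068500a13c684f0a13c184d1a134384b1a128684a1612468491611c68471211868461611468441a10868420e1006840160fc683d1a0f4483c1a0ec683b160e468381a0e058371a0dc58361a0d068340a0d018321a0c828311a0c45831120c06830160c0282e1a0b8282d1a0b0682c160ac682b160ac382b0a0a468290a0a418271a09c28261a09858261209838251a09458251209438250a08c68230a08868220a08818211a08458211208438201a08058201208038200a078681e16078281e06074681d12074281d0586c661b0986c161a19868461a0d86066180985c66171585c46170d85866161585846160d85826141985026131984c26130584866121584846120d84466111584446110d844260f1983c460e19838560e09838160d19834560d11834260d0582c660b11828660a15828260a0582466091582446090982416081982046080d01864061101824051901454050901414041901054041101024040500c64031500c44030d00864021500844020d0082201188045201108043201088041000000000)))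 (BT.leaf (Bx.mk (nat_lit 0x33906))))
noncomputable def eUl_e : BT Nat := BT.leaf (nat_lit 0)
noncomputable def eUl_cols : List (BT (Bx Nat)) := [eUl_c0, eUl_c1, eUl_c2, eUl_c3, eUl_c4, eUl_c5, eUl_c6]
noncomputable def eUl_ch (x j : Nat) : Bx Nat := chunkG eUl_cols (nat_lit 2) x j
noncomputable def eUl_L (x : Nat) : Bx (Nat → Nat) := lookG eUl_ch (nat_lit 8) (nat_lit 255) (nat_lit 20) (nat_lit 1048575) x
noncomputable def eUl_pc (_ j : Nat) : Bx Nat := eUl_p.get j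
noncomputable def eUl_pb : Bx (Nat → Nat) := lookG eUl_pc (nat_lit 8) (nat_lit 255) (nat_lit 18) (nat_lit 262143) (nat_lit 0)
noncomputable def eUl_rots : BT CW := (BT.node (nat_lit 29) (BT.node (nat_lit 14) (BT.node (nat_lit 7) (BT.node (nat_lit 3) (BT.node (nat_lit 1) (BT.leaf ⟨[], (nat_lit 1000000), (nat_lit 0), (nat_lit 0), (nat_lit 0)⟩) (BT.node (nat_lit 2) (BT.leaf ⟨[], (nat_lit 1000000), (nat_lit 0), (nat_lit 0), (nat_lit 1)⟩) (BT.leaf ⟨[], (nat_lit 1000000), (nat_lit 0), (nat_lit 0), (nat_lit 2)⟩))) (BT.node (nat_lit 5) (BT.node (nat_lit 4) (BT.leaf ⟨[(nat_lit 1), (nat_lit 1)], (nat_lit 0), (nat_lit 0), (nat_lit 0), (nat_lit 3)⟩) (BT.leaf ⟨[(nat_lit 2), (nat_lit 2)], (nat_lit 1), (nat_lit 0), (nat_lit 0), (nat_lit 3)⟩)) (BT.node (nat_lit 6) (BT.leaf ⟨[(nat_lit 3), (nat_lit 3)], (nat_lit 2), (nat_lit 0), (nat_lit 0), (nat_lit 3)⟩) (BT.leaf ⟨[(nat_lit 4), (nat_lit 4)], (nat_lit 3), (nat_lit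 0), (nat_lit 0), (nat_lit 3)⟩)))) (BT.node (nat_lit 10) (BT.node (nat_lit 8) (BT.leaf ⟨[(nat_lit 5), (nat_lit 5)], (nat_lit 22), (nat_lit 0), (nat_lit 0), (nat_lit 3)⟩) (BT.node (nat_lit 9) (BT.leaf ⟨[(nat_lit 6), (nat_lit 6)], (nat_lit 23), (nat_lit 0), (nat_lit 0), (nat_lit 3)⟩) (BT.leaf ⟨[(nat_lit 1), (nat_lit 2), (nat_lit 1), (nat_lit 2)], (nat_lit 4), (nat_lit 0), (nat_lit 0), (nat_lit 3)⟩))) (BT.node (nat_lit 12) (BT.node (nat_lit 11) (BT.leaf ⟨[(nat_lit 1), (nat_lit 5), (nat_lit 1), (nat_lit 5)], (nat_lit 14), (nat_lit 1), (nat_lit 0), (nat_lit 3)⟩) (BT.leaf ⟨[(nat_lit 3), (nat_lit 6), (nat_lit 1), (nat_lit 6)], (nat_lit 18), (nat_lit 3), (nat_lit 0), (nat_lit 3)⟩)) (BT.node (nat_lit 13) (BT.leaf ⟨[(nat_lit 4), (nat_lit 6), (nat_lit 2), (nat_lit 6)], (nat_lit 19), (nat_lit 3), (nat_lit 0), (nat_lit 3)⟩) (BT.leaf ⟨[(nat_lit 3), (nat_lit 4), (nat_lit 3), (nat_lit 4)], (nat_lit 5), (nat_lit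 0), (nat_lit 0), (nat_lit 3)⟩))))) (BT.node (nat_lit 21) (BT.node (nat_lit 17) (BT.node (nat_lit 15) (BT.leaf ⟨[(nat_lit 3), (nat_lit 5), (nat_lit 3), (nat_lit 5)], (nat_lit 16), (nat_lit 1), (nat_lit 0), (nat_lit 3)⟩) (BT.node (nat_lit 16) (BT.leaf ⟨[(nat_lit 1), (nat_lit 6), (nat_lit 3), (nat_lit 6)], (nat_lit 18), (nat_lit 1), (nat_lit 0), (nat_lit 3)⟩) (BT.leaf ⟨[(nat_lit 2), (nat_lit 6), (nat_lit 4), (nat_lit 6)], (nat_lit 19), (nat_lit 1), (nat_lit 0), (nat_lit 3)⟩))) (BT.node (nat_lit 19) (BT.node (nat_lit 18) (BT.leaf ⟨[(nat_lit 5), (nat_lit 6), (nat_lit 5), (nat_lit 6)], (nat_lit 24), (nat_lit 0), (nat_lit 0), (nat_lit 3)⟩) (BT.leaf ⟨[(nat_lit 2), (nat_lit 5), (nat_lit 2), (nat_lit 1), (nat_lit 5)], (nat_lit 15), (nat_lit 1), (nat_lit 0), (nat_lit 3)⟩)) (BT.node (nat_lit 20) (BT.leaf ⟨[(nat_lit 5), (nat_lit 2), (nat_lit 5), (nat_lit 1), (nat_lit 2)], (nat_lit 46), (nat_lit 2), (nat_lit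 0), (nat_lit 3)⟩) (BT.leaf ⟨[(nat_lit 5), (nat_lit 3), (nat_lit 5), (nat_lit 3)], (nat_lit 16), (nat_lit 0), (nat_lit 0), (nat_lit 3)⟩)))) (BT.node (nat_lit 25) (BT.node (nat_lit 23) (BT.node (nat_lit 22) (BT.leaf ⟨[(nat_lit 5), (nat_lit 1), (nat_lit 5), (nat_lit 1)], (nat_lit 14), (nat_lit 0), (nat_lit 0), (nat_lit 3)⟩) (BT.leaf ⟨[(nat_lit 4), (nat_lit 5), (nat_lit 4), (nat_lit 3), (nat_lit 5)], (nat_lit 17), (nat_lit 1), (nat_lit 0), (nat_lit 3)⟩)) (BT.node (nat_lit 24) (BT.leaf ⟨[(nat_lit 5), (nat_lit 4), (nat_lit 5), (nat_lit 3), (nat_lit 4)], (nat_lit 48), (nat_lit 2), (nat_lit 0), (nat_lit 3)⟩) (BT.leaf ⟨[(nat_lit 3), (nat_lit 4), (nat_lit 5), (nat_lit 4), (nat_lit 5)], (nat_lit 48), (nat_lit 0), (nat_lit 0), (nat_lit 3)⟩))) (BT.node (nat_lit 27) (BT.node (nat_lit 26) (BT.leaf ⟨[(nat_lit 1), (nat_lit 3), (nat_lit 1), (nat_lit 3), (nat_lit 1), (nat_lit 3), (nat_lit 1), (nat_lit 3)], (nat_lit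 6), (nat_lit 0), (nat_lit 0), (nat_lit 3)⟩) (BT.leaf ⟨[(nat_lit 2), (nat_lit 3), (nat_lit 2), (nat_lit 3), (nat_lit 1), (nat_lit 4), (nat_lit 1), (nat_lit 4)], (nat_lit 8), (nat_lit 4), (nat_lit 0), (nat_lit 3)⟩)) (BT.node (nat_lit 28) (BT.leaf ⟨[(nat_lit 2), (nat_lit 3), (nat_lit 1), (nat_lit 4), (nat_lit 1), (nat_lit 4), (nat_lit 2), (nat_lit 3)], (nat_lit 8), (nat_lit 6), (nat_lit 0), (nat_lit 3)⟩) (BT.leaf ⟨[(nat_lit 2), (nat_lit 3), (nat_lit 2), (nat_lit 4), (nat_lit 1), (nat_lit 4), (nat_lit 1), (nat_lit 3)], (nat_lit 39), (nat_lit 1), (nat_lit 0), (nat_lit 3)⟩)))))) (BT.node (nat_lit 44) (BT.node (nat_lit 36) (BT.node (nat_lit 32) (BT.node (nat_lit 30) (BT.leaf ⟨[(nat_lit 2), (nat_lit 4), (nat_lit 1), (nat_lit 4), (nat_lit 1), (nat_lit 3), (nat_lit 2), (nat_lit 3)], (nat_lit 39), (nat_lit 3), (nat_lit 0), (nat_lit 3)⟩) (BT.node (nat_lit 31) (BT.leaf ⟨[(nat_lit 2), (nat_lit 4), (nat_lit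 2), (nat_lit 4), (nat_lit 2), (nat_lit 4), (nat_lit 2), (nat_lit 4)], (nat_lit 7), (nat_lit 0), (nat_lit 0), (nat_lit 3)⟩) (BT.leaf ⟨[(nat_lit 2), (nat_lit 1), (nat_lit 3), (nat_lit 1), (nat_lit 3), (nat_lit 2), (nat_lit 1), (nat_lit 3), (nat_lit 1), (nat_lit 3)], (nat_lit 10), (nat_lit 0), (nat_lit 0), (nat_lit 3)⟩))) (BT.node (nat_lit 34) (BT.node (nat_lit 33) (BT.leaf ⟨[(nat_lit 2), (nat_lit 3), (nat_lit 1), (nat_lit 3), (nat_lit 1), (nat_lit 2), (nat_lit 3), (nat_lit 1), (nat_lit 3), (nat_lit 1)], (nat_lit 41), (nat_lit 4), (nat_lit 0), (nat_lit 3)⟩) (BT.leaf ⟨[(nat_lit 1), (nat_lit 2), (nat_lit 4), (nat_lit 2), (nat_lit 4), (nat_lit 1), (nat_lit 2), (nat_lit 4), (nat_lit 2), (nat_lit 4)], (nat_lit 12), (nat_lit 0), (nat_lit 0), (nat_lit 3)⟩)) (BT.node (nat_lit 35) (BT.leaf ⟨[(nat_lit 5), (nat_lit 2), (nat_lit 1), (nat_lit 5), (nat_lit 2)], (nat_lit 15), (nat_lit 2), (nat_lit 0), (nat_lit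 3)⟩) (BT.leaf ⟨[(nat_lit 1), (nat_lit 2), (nat_lit 5), (nat_lit 2), (nat_lit 5)], (nat_lit 46), (nat_lit 0), (nat_lit 0), (nat_lit 3)⟩)))) (BT.node (nat_lit 40) (BT.node (nat_lit 38) (BT.node (nat_lit 37) (BT.leaf ⟨[(nat_lit 4), (nat_lit 1), (nat_lit 4), (nat_lit 1), (nat_lit 3), (nat_lit 2), (nat_lit 3), (nat_lit 2)], (nat_lit 39), (nat_lit 4), (nat_lit 0), (nat_lit 3)⟩) (BT.leaf ⟨[(nat_lit 3), (nat_lit 5), (nat_lit 4), (nat_lit 5), (nat_lit 4)], (nat_lit 17), (nat_lit 4), (nat_lit 0), (nat_lit 3)⟩)) (BT.node (nat_lit 39) (BT.leaf ⟨[(nat_lit 4), (nat_lit 2), (nat_lit 3), (nat_lit 2), (nat_lit 3), (nat_lit 1), (nat_lit 4), (nat_lit 1)], (nat_lit 8), (nat_lit 3), (nat_lit 0), (nat_lit 3)⟩) (BT.leaf ⟨[(nat_lit 4), (nat_lit 3), (nat_lit 5), (nat_lit 4), (nat_lit 5)], (nat_lit 17), (nat_lit 3), (nat_lit 0), (nat_lit 3)⟩))) (BT.node (nat_lit 42) (BT.node (nat_lit 41) (BT.leaf ⟨[(nat_lit 3), (nat_lit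 1), (nat_lit 4), (nat_lit 1), (nat_lit 4), (nat_lit 2), (nat_lit 3), (nat_lit 2)], (nat_lit 8), (nat_lit 7), (nat_lit 0), (nat_lit 3)⟩) (BT.leaf ⟨[(nat_lit 3), (nat_lit 2), (nat_lit 3), (nat_lit 2), (nat_lit 4), (nat_lit 1), (nat_lit 4), (nat_lit 1)], (nat_lit 39), (nat_lit 0), (nat_lit 0), (nat_lit 3)⟩)) (BT.node (nat_lit 43) (BT.leaf ⟨[(nat_lit 1), (nat_lit 5), (nat_lit 2), (nat_lit 5), (nat_lit 2)], (nat_lit 15), (nat_lit 4), (nat_lit 0), (nat_lit 3)⟩) (BT.leaf ⟨[(nat_lit 1), (nat_lit 4), (nat_lit 2), (nat_lit 3), (nat_lit 2), (nat_lit 3), (nat_lit 1), (nat_lit 4)], (nat_lit 8), (nat_lit 2), (nat_lit 0), (nat_lit 3)⟩))))) (BT.node (nat_lit 51) (BT.node (nat_lit 47) (BT.node (nat_lit 45) (BT.leaf ⟨[(nat_lit 4), (nat_lit 3), (nat_lit 4), (nat_lit 3)], (nat_lit 5), (nat_lit 1), (nat_lit 0), (nat_lit 3)⟩) (BT.node (nat_lit 46) (BT.leaf ⟨[(nat_lit 1), (nat_lit 3), (nat_lit 2), (nat_lit 3), (nat_lit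 2), (nat_lit 4), (nat_lit 1), (nat_lit 4)], (nat_lit 39), (nat_lit 7), (nat_lit 0), (nat_lit 3)⟩) (BT.leaf ⟨[(nat_lit 3), (nat_lit 1), (nat_lit 3), (nat_lit 1), (nat_lit 3), (nat_lit 1), (nat_lit 3), (nat_lit 1)], (nat_lit 6), (nat_lit 1), (nat_lit 0), (nat_lit 3)⟩))) (BT.node (nat_lit 49) (BT.node (nat_lit 48) (BT.leaf ⟨[(nat_lit 4), (nat_lit 5), (nat_lit 4), (nat_lit 5), (nat_lit 3)], (nat_lit 48), (nat_lit 1), (nat_lit 0), (nat_lit 3)⟩) (BT.leaf ⟨[(nat_lit 1), (nat_lit 4), (nat_lit 1), (nat_lit 4), (nat_lit 2), (nat_lit 3), (nat_lit 2), (nat_lit 3)], (nat_lit 8), (nat_lit 0), (nat_lit 0), (nat_lit 3)⟩)) (BT.node (nat_lit 50) (BT.leaf ⟨[(nat_lit 2), (nat_lit 5), (nat_lit 1), (nat_lit 2), (nat_lit 5)], (nat_lit 46), (nat_lit 3), (nat_lit 0), (nat_lit 3)⟩) (BT.leaf ⟨[(nat_lit 3), (nat_lit 2), (nat_lit 4), (nat_lit 2), (nat_lit 4), (nat_lit 1), (nat_lit 4), (nat_lit 1), (nat_lit 4), (nat_lit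 1), (nat_lit 3), (nat_lit 1)], (nat_lit 9), (nat_lit 7), (nat_lit 0), (nat_lit 3)⟩)))) (BT.node (nat_lit 55) (BT.node (nat_lit 53) (BT.node (nat_lit 52) (BT.leaf ⟨[(nat_lit 4), (nat_lit 2), (nat_lit 4), (nat_lit 1), (nat_lit 4), (nat_lit 1), (nat_lit 4), (nat_lit 1), (nat_lit 3), (nat_lit 1), (nat_lit 3), (nat_lit 2)], (nat_lit 9), (nat_lit 9), (nat_lit 0), (nat_lit 3)⟩) (BT.leaf ⟨[(nat_lit 2), (nat_lit 4), (nat_lit 1), (nat_lit 4), (nat_lit 1), (nat_lit 4), (nat_lit 1), (nat_lit 3), (nat_lit 1), (nat_lit 3), (nat_lit 2), (nat_lit 4)], (nat_lit 9), (nat_lit 10), (nat_lit 0), (nat_lit 3)⟩)) (BT.node (nat_lit 54) (BT.leaf ⟨[(nat_lit 2), (nat_lit 4), (nat_lit 2), (nat_lit 3), (nat_lit 1), (nat_lit 3), (nat_lit 1), (nat_lit 4), (nat_lit 1), (nat_lit 4), (nat_lit 1), (nat_lit 4)], (nat_lit 40), (nat_lit 1), (nat_lit 0), (nat_lit 3)⟩) (BT.leaf ⟨[(nat_lit 4), (nat_lit 2), (nat_lit 3), (nat_lit 1),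 (nat_lit 3), (nat_lit 1), (nat_lit 4), (nat_lit 1), (nat_lit 4), (nat_lit 1), (nat_lit 4), (nat_lit 2)], (nat_lit 40), (nat_lit 2), (nat_lit 0), (nat_lit 3)⟩))) (BT.node (nat_lit 57) (BT.node (nat_lit 56) (BT.leaf ⟨[(nat_lit 3), (nat_lit 1), (nat_lit 3), (nat_lit 1), (nat_lit 4), (nat_lit 1), (nat_lit 4), (nat_lit 1), (nat_lit 4), (nat_lit 2), (nat_lit 4), (nat_lit 2)], (nat_lit 40), (nat_lit 4), (nat_lit 0), (nat_lit 3)⟩) (BT.leaf ⟨[(nat_lit 2), (nat_lit 1), (nat_lit 2), (nat_lit 1)], (nat_lit 4), (nat_lit 1), (nat_lit 0), (nat_lit 3)⟩)) (BT.node (nat_lit 58) (BT.leaf ⟨[(nat_lit 2), (nat_lit 5), (nat_lit 2), (nat_lit 5), (nat_lit 1)], (nat_lit 46), (nat_lit 1), (nat_lit 0), (nat_lit 3)⟩) (BT.leaf ⟨[(nat_lit 5), (nat_lit 4), (nat_lit 5), (nat_lit 4), (nat_lit 3)], (nat_lit 17), (nat_lit 0), (nat_lit 0), (nat_lit 3)⟩)))))))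
noncomputable def eUl_hcs : List CW := []
noncomputable def eUl_H (x j : Nat) : Bx (Nat → Nat → Nat) := mkH eUl_L eUl_pb.1 eUl_e.get (lmap CW.w eUl_hcs) (nat_lit 256) (nat_lit 257) (nat_lit 7) (nat_lit 512) (nat_lit 32768) (nat_lit 32767) x (eUl_rots.get j)
noncomputable def eUl_F (x b : Nat) : Bool := blkOK eUl_H eUl_ch (nat_lit 257) (nat_lit 512) (nat_lit 64) (nat_lit 8) (nat_lit 255) (nat_lit 20) (nat_lit 1048575) x b

theorem eUl_k0_0 : allFrom (eUl_F (nat_lit 0)) (nat_lit 0) (nat_lit 8) = true := by decide +kernel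
theorem eUl_k1_0 : allFrom (eUl_F (nat_lit 1)) (nat_lit 0) (nat_lit 8) = true := by decide +kernel
theorem eUl_k2_0 : allFrom (eUl_F (nat_lit 2)) (nat_lit 0) (nat_lit 8) = true := by decide +kernel
theorem eUl_k3_0 : allFrom (eUl_F (nat_lit 3)) (nat_lit 0) (nat_lit 8) = true := by decide +kernel
theorem eUl_k4_0 : allFrom (eUl_F (nat_lit 4)) (nat_lit 0) (nat_lit 8) = true := by decide +kernel
theorem eUl_k5_0 : allFrom (eUl_F (nat_lit 5)) (nat_lit 0) (nat_lit 8) = true := by decide +kernel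
theorem eUl_k6_0 : allFrom (eUl_F (nat_lit 6)) (nat_lit 0) (nat_lit 8) = true := by decide +kernel

theorem eUl_all : Cov eUl_F 8 7 0 := by
  have h := Cov.zero eUl_F 8
  have h := h.blk (b := 8) eUl_k0_0 rfl
  have h := h.next (y := 1) rfl rfl
  have h := h.blk (b := 8) eUl_k1_0 rfl
  have h := h.next (y := 2) rfl rfl
  have h := h.blk (b := 8) eUl_k2_0 rfl
  have h := h.next (y := 3) rfl rfl
  have h := h.blk (b := 8) eUl_k3_0 rfl
  have h := h.next (y := 4) rfl rfl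
  have h := h.blk (b := 8) eUl_k4_0 rfl
  have h := h.next (y := 5) rfl rfl
  have h := h.blk (b := 8) eUl_k5_0 rfl
  have h := h.next (y := 6) rfl rfl
  have h := h.blk (b := 8) eUl_k6_0 rfl
  have h := h.next (y := 7) rfl rfl
  exact h

theorem eUl : Enum RUl [] (gensW 6) 256 :=
  ⟨eUl_cols, eUl_ch, eUl_L, eUl_H, eUl_pb.1, eUl_e.get, [(nat_lit 0), (nat_lit 1), (nat_lit 3), (nat_lit 5), (nat_lit 7), (nat_lit 9), (nat_lit 11)], (nat_lit 63), (nat_lit 6), eUl_rots, eUl_hcs,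
    (nat_lit 257), (nat_lit 7), (nat_lit 512), (nat_lit 64), (nat_lit 32768), (nat_lit 32767), (nat_lit 8), (nat_lit 255), (nat_lit 20), (nat_lit 1048575), (nat_lit 2), (nat_lit 8),
    fun _ _ => rfl, fun _ => rfl, fun _ _ => rfl, by decide +kernel, eUl_all.1⟩

theorem pUl : TUl.Pres RUl (gensW 6) := ⟨CT.ok_spec TUl_ok, lall_iff.1 TUl_rel, by decide +kernel,
  by decide +kernel, by decide +kernel, eUl.bound (ug_rels _) (bound_nil _)⟩

instance instTUl : TUl.Grp := pUl.grp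


end CF.Gb
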