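import Cfsg.Agent.Gb.T1

/-! Extensions of `2^{1+4}_+` by a four-group. -/

set_option autoImplicit false
set_option maxRecDepth 1000000
set_option maxHeartbeats 0
set_option Elab.async false

namespace CF.Gb

open CF.Comp CF.Cod

noncomputable def SV000 : List (List Nat) := [[(nat_lit 11), (nat_lit 11)],
  [(nat_lit 13), (nat_lit 13)],
  [(nat_lit 11), (nat_lit 13), (nat_lit 11), (nat_lit 13)]]
noncomputable def RV000 : List (List Nat) := lapp RP (lapp Rka5 (lapp Rro6 SV000))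
noncomputable def TV000_c0 : BT (Bx Nat) := (BT.node (nat_lit 1) (BT.leaf (Bx.mk (nat_lit 0x58f5f395acde2662b9ab074a9bb45ed9dbf44c94a44ee12a846ad0a03e78e9a36709922e50a96326088e1e4068c16184880e282840608080))) (BT.leaf (Bx.mk (nat_lit 0xd9f7f7ce3ebceedb9baeae7c3df2d3e3bffc9d37e2cfdb2ebc3a31e0bf7aed3af66d54b74aad8b95a6c6932a8cc913a7cb8f422c283121c0))))
noncomputable def TV000_c1 : BT (Bx Nat) := (BT.node (nat_lit 1) (BT.leaf (Bx.mk (nat_lit 0x74f19be64fd62b62c17ae7aedbb66ad133970892a446b54a84ea9021347099e247c60b224078e3a6cb962a50319300828406344880e28001))) (BT.leaf (Bx.mk (nat_lit 0xe7e7d6cdbf7f6ae9a34f7ff9b764cbc7dfcc5e3af6c3cb7f0c1af3e3a766d4c9b76f4aa9224d7bf1a7448b46ddc8562ad6834a7d0812e3c3))))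
noncomputable def TV000_c3 : BT (Bx Nat) := (BT.node (nat_lit 1) (BT.leaf (Bx.mk (nat_lit 0x50dd7244ac5a297ccd5396c85d2c5af57b040d5c3f4c9ddbc448d92b2c508901e38b95327cc1e101ce9c36682840624513240468c1600302))) (BT.leaf (Bx.mk (nat_lit 0xd7ef372fde317acbbf863dbf34f5ed9f9eaffb38e0ddf7be1e9e7268b14a6dbb92e55f9356b478d7a2cfa10eec2b566bc1a94e8c09d32444))))
noncomputable def TV000_c5 : BT (Bx Nat) := (BT.node (nat_lit 1) (BT.leaf (Bx.mk (nat_lit 0x66e5d2c5af5f2a68a14b77e997244ac5dbc44e1ab642c97b040ad3a32664d0c1a74f0a28204973e187040a44d9c0460a960248790002c383))) (BT.leaf (Bx.mk (nat_lit 0xf5f39fee5ff66be3c37eefbefbf6ebd3379f18b2e4c7b74e8cfab061b5729dea57e64ba3427cebb6ebd6ab52359b10a2c487364c88f2a041))))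
noncomputable def TV000_c7 : BT (Bx Nat) := (BT.node (nat_lit 1) (BT.leaf (Bx.mk (nat_lit 0x56ed3327ce113a4abd8235af14b56c9d9aa7eb18a05cf5ba168e5228304869b382c51f1254b070c7828f200ce823464b81284c8801c30404))) (BT.leaf (Bx.mk (nat_lit 0xd1df764cbc7a69fdcf579ed87d6cdbf77f0c1d7c7fcd9fdfcc58f96bad528d09f3abd5b37ec5e911eedcb76a2c48726553a5066cc9702342))))
noncomputable def TV000_c9 : BT (Bx Nat) := (BT.node (nat_lit 1) (BT.leaf (Bx.mk (nat_lit 0x7cfd63a56f19b250d13b672e122e46c113d76990b76aa90315eb54a53c7c61a16709921050396326020e064011d36180972a280111e34485))) (BT.leaf (Bx.mk (nat_lit 0xfdff67ad7f39f2d1d33f6f3e326ec7c317df79b0f7ebab071dfb74e5bd7e65a97729d291523d6b36224e874215db71a0d7ab2a0519f364c5))))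
noncomputable def TV000_c11 : BT (Bx Nat) := (BT.node (nat_lit 1) (BT.leaf (Bx.mk (nat_lit 0x3e78e9c3668c982e58a9426488901e3868c16284880e1828406080807ef9ebc76e9cb86ed9ab466c98b05eb96ac56a94a84e992a446890a0))) (BT.leaf (Bx.mk (nat_lit 0xbf7aedcb76acd8af5aad4a74a8d09f3a6cc972a4c88f1a2c4870a0c0fffbefcf7ebcf8efdbaf4e7cb8f0dfbb6ecd7ab4e8cf9b2e4c78b0e0))))
noncomputable def TV000_c13 : BT (Bx Nat) := (BT.node (nat_lit 1) (BT.leaf (Bx.mk (nat_lit 0xfffbefcf7ebcf8efdbaf4e7cb8f0dfbb6ecd7ab4e8cf9b2e4c78b0e0bf7aedcb76acd8af5aad4a74a8d09f3a6cc972a4c88f1a2c4870a0c0))) (BT.leaf (Bx.mk (nat_lit 0x7ef9ebc76e9cb86ed9ab466c98b05eb96ac56a94a84e992a446890a03e78e9c3668c982e58a9426488901e3868c16284880e182840608080))))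
noncomputable def TV000_w : BT (Bx Nat) := (BT.node (nat_lit 1) (BT.leaf (Bx.mk (nat_lit 0xb57310b753100b97300b57300b95300b75300b71300b51300b97100b57100b95100b75100b73100b531000b97000b57000b95000b75000b93000b73000b53000b13000b91000b71000b51000b310000b90000b70000b50000b30000b100000b005731007531000973000573000953000753000713000513000971000571000951000751000731000531000097000057000095000075000093000073000053000013000091000071000051000031000009000007000005000003000001000000))) (BT.leaf (Bx.mk (nat_lit 0xdb5731db75310db9730db5730db9530db7530db7130db5130db9710db5710db9510db7510db7310db53100db9700db5700db9500db7500db9300db7300db5300db1300db9100db7100db5100db31000db9000db7000db5000db3000db10000db0d57310d753100d97300d57300d95300d75300d71300d51300d97100d57100d95100d75100d73100d531000d97000d57000d95000d75000d93000d73000d53000d13000d91000d71000d51000d310000d90000d70000d50000d30000d100000d))))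
noncomputable def TV000_cols : List (BT (Bx Nat)) := [TV000_c0, TV000_c1, TV000_c1, TV000_c3, TV000_c3, TV000_c5, TV000_c5, TV000_c7, TV000_c7, TV000_c9, TV000_c9, TV000_c11, TV000_c11, TV000_c13, TV000_c13]
noncomputable def TV000_ch (x j : Nat) : Bx Nat := chk TV000_cols x j
noncomputable def TV000_wc (_ j : Nat) : Bx Nat := TV000_w.get j
noncomputable def TV000 : CT := ⟨(nat_lit 128), (nat_lit 7), (nat_lit 127), TV000_ch, (nat_lit 24), (nat_lit 16777215), TV000_wc, (nat_lit 32766)⟩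
theorem TV000_ok : TV000.ok = true := by decide +kernel
theorem TV000_rel : lall TV000.relOK RV000 = true := by decide +kernel
noncomputable def eV000_c0 : BT (Bx Nat) := (BT.leaf (Bx.mk (nat_lit 0x0)))
noncomputable def eV000_c1 : BT (Bx Nat) := (BT.leaf (Bx.mk (nat_lit 0x4d36e326fad4d84a23fbd3789a6b0c4d9269a9b847c808cab4dc5a2363846b808df1112d423b3d34e8a6e7212012225393757a6e924d9e699d9c43d888d4a114229bbac47a9a66924d69823f4935b9a659110c1a2173cd42888c11118a422bc847b9d2b2b10d66992b0b38908f302d1a499facd66a083ee11c1f8241842f926e4a35b649a0b844d9a638f114a2210c84407883ce11722224ce944888a3010e909b448d24908d3130f94591ac4549a62891089862b4846399a273304665884935e39a98e4d75e20ec845f89635110666987444177882d11056422ac443c48872a30da49a2c041ba829f04d0e0696c844789841010ae45954d30891a510309e4613484379086721026421948431a0807210a66683c57069980b32c126b89484189081b010324205c840aa821f41006a08100000)))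
noncomputable def eV000_c2 : BT (Bx Nat) := (BT.leaf (Bx.mk (nat_lit 0x1547540aeeb51ca6a2d3c56c58ac7351558a384d4514a8ff3513882c040562728c2a15fa6a22ac57970abd350fd42a6c147c928ca850f64a34445699a86e63d2222b5cd434628f7151d1a2b9b942e928baf51be22afad0339a853215f5e8204d42578aa5114aa42bd445269a8430ad5e42bc4d0202205b215d967b6d051d928614146e0a0f14566928872acea42b8c903e88a8efb4f26a0c3855990add11510e2b5385429a8291151a278d4451990acef145a228ac856450ab8d14adc793c454ba0a1ad158062a7cd40e7206523d5a42adc852468a632415242ac4de289a01733c2a42a9c8550a0a0ef1526a0a64d408a8295014e6479c4854190a27040da481ac853b9bc2f0141a6802ccf0490a19214b2a097cd80f90a472148a82814851ca823f1604a4288c8510a0a0350426a08180000)))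
noncomputable def eV000_c3 : BT (Bx Nat) := (BT.leaf (Bx.mk (nat_lit 0x24e7451cf0d19c2473e4467d59ccea19a5c3392467f99ca2d19ccc7312068071cecf39e64737b8e7e88ce3039ae831f4065a78cdc81961673d24e5550cf661966231fc463b88c6e519d5e7273c64978c8ef1915e721b462d78c83139b0e93324e6a78ca14188d03343063281c9741882433bc125794066e198563223ee3c78ca7048ea07304924081cbf3486e072f3124d70cbaf1876072dc464891ccb505b64712b864c91cc8f192a431ad061191cc69804a719ccce1488c9ed99528307c462190c48f1879c92e4461c90c4d4182e230c4d20d7c01938cae231ecdd2fa82ad4182647185415290c27038ba092148e2c90c8d218568302c8e299a40f18c1a718d486349ba3e818daa09c50603a826333822431438627a82554180aa0914860e90c2f0185aa08cd0601a82215042aa08200000)))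
noncomputable def eV000_c4 : BT (Bx Nat) := (BT.leaf (Bx.mk (nat_lit 0x2917620ee691d95a3b7bd17978ebef1d6dc3be4475310ec291e0268a74d14b2a2ff01dae03b73476c722fb145c4a3a6391708a2e4f1d25e3a3bd14378e82a953d48bf3516060ebb344c068bbb0764822f724569a8b1ac746822f511d7a83924472c8ce78d6cc62394d0722922f0c1d0a6890d071f48ecd21dd6838e9a56d90ee926cbe08b53872d822d2c9572489fd071770ed0d6d4a08b3c272888e8b41c4e088f4075788e3921ccd03894873688e31390e283884912e9b27541c3d83ab4876288e9511cd1f8a44915870e1921c9e48aabc7409c85541c2a688754159a0e135055243a8d0707a82a0f1cf6a0a6c913b90e1b01c1a438b49137a82893906683824d108a827c994e68381d4135a826521c966c8dbe52ba0e055049aa091c8714a82411906a8380d4115a82235042ea08280000)))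
noncomputable def eV000_c5 : BT (Bx Nat) := (BT.leaf (Bx.mk (nat_lit 0x3c878466e8921798435b726e8e4f5021ee0438c1680810c49c94c99a89c87f76496d21be2b3ca484572ce4c21f239a80883f6e4fb020ee3933c5637810d282129d9ad3c858790ab189dc24184082c8e4b6ac9fa2b14ae228810bed2195d11d422646907d221521131ce256410ed2cd10643ac086d9645e1208524101081f690e69599a040e2721b8e482fcd015938448528ac30bcc5e0423b88461acd8e895e040a133138acd4d21668408c8835810d142042711c4732536648bcc8d44110b3618909f18838d906c5660a10172209a042ea885ca1015388aa041a1483351064bccc451272a24d2ac98d2020cb03c56494109142016440ac08435108542012710cc623d190794200ea09cd413691013020b8a416d0802a82575049e6b07bb31e2903b42006a08d54116a822550432a08300000)))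
noncomputable def eV000_c6 : BT (Bx Nat) := (BT.leaf (Bx.mk (nat_lit 0x2497a9aacf35574eab54d558792f0a560204afc157b812c6b2580c4b4415699aa933551e0aadcd5439aa83255916e2a4d53d9aa76625f5e4ba1d575912ff424d66a9a4496e8aaef255566a97315768aaf3354a644bf50927792e335494e49cc897ca12471a94224b12896d92a59270aa4a9bc09569426335479b795a2c369aa39024e244b9d091a912e5424666a8c40926912e14245a44b7d09159aa29224ca44b650912912d742445142cc6a4a892a272532a0b348965a121f368fa24a7cd50e91245225868486449536129b1254a44af5090aa82b91a11244ad50909a82af37cbe6a844890b912212253a84834894ba120b50522a0a348945a12095050aa0a04893fa1207504f2a09d4df1fa8267224c284815412d9b441504a2a09248921a120350476a08dd4117a822750436a08380000)))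
noncomputable def eV000_c7 : BT (Bx Nat) := (BT.leaf (Bx.mk (nat_lit 0x50a6da14cd42972852cd0a57a14ad42952852950a50a149f42936852650a4aa14914291a852250a42a1481428faa0c050a3ca1475428e6851c50a36a146b505fe8519d0a32a1463428be8516d0a2ba1455428a28513d417ea144d42892a0bed0a23a82f9505ee85115417aa1441505e6850fd4178a82ef42876a0bb54175a1437505d2850d54173a1433505ca850bd4171a142d505c2850ad416fa1427505ba85095416ca1423505aea0b554169a1421505a2a0b3d0a0fa82cb50592a0b1d0a0da82c542832a0b0d0a0ba82c15057e85055415ea82bb5056e8504d415aa82b1505568503d4153a82a34281aa0a750a05a829750526a0a3d0a04a828b5050ea0a0d0a03a827f504f6a09dd4137a82694280aa0985412ea8259504a6a092d0a01a82435047aa08e54118a82295043aa08400000)))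
noncomputable def eV000_p : BT (Bx Nat) := (BT.leaf (Bx.mk (nat_lit 0x15b47acc3d5c1eac8f55c7aac3d541e290f140789e3c4d1e260f12878903c461e220f10878803c3e1e1f070f078743c391e1c0f0d8786a3c351a198f0c878623c2f1e168f0ac78543c281e138f09c684c3c241e120908c784634230e110f08846403b200d8f8ec7c463e0b1d1d8e88c7426363b1b098d0ec6866323b19198b8ec5c462c3b16198a8ec5466263b1311890ec4866223b1119888ac4436203b10158808c3c761e330f118786c34761a130c1d860cc2c76162b0b0d850ec2866142b0a11848ec24661223090d038e81c440e12061d030c814740a32051502868107408320415020880c7406320315018880c34060a021d010c808540422020d010440472023101148088404320211010400000000)))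
noncomputable def eV000_e : BT Nat := BT.leaf (nat_lit 0)
noncomputable def eV000_cols : List (BT (Bx Nat)) := [eV000_c0, eV000_c1, eV000_c2, eV000_c3, eV000_c4, eV000_c5, eV000_c6, eV000_c7]
noncomputable def eV000_ch (x j : Nat) : Bx Nat := chunkG eV000_cols (nat_lit 1) x j
noncomputable def eV000_L (x : Nat) : Bx (Nat → Nat) := lookG eV000_ch (nat_lit 8) (nat_lit 255) (nat_lit 19) (nat_lit 524287) x
noncomputable def eV000_pc (_ j : Nat) : Bx Nat := eV000_p.get j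
noncomputable def eV000_pb : Bx (Nat → Nat) := lookG eV000_pc (nat_lit 8) (nat_lit 255) (nat_lit 17) (nat_lit 131071) (nat_lit 0)
noncomputable def eV000_rots : BT CW := (BT.node (nat_lit 25) (BT.node (nat_lit 12) (BT.node (nat_lit 6) (BT.node (nat_lit 3) (BT.node (nat_lit 1) (BT.leaf ⟨[], (nat_lit 1000000), (nat_lit 0), (nat_lit 0), (nat_lit 0)⟩) (BT.node (nat_lit 2) (BT.leaf ⟨[], (nat_lit 1000000), (nat_lit 0), (nat_lit 0), (nat_lit 1)⟩) (BT.leaf ⟨[], (nat_lit 1000000), (nat_lit 0), (nat_lit 0), (nat_lit 2)⟩))) (BT.node (nat_lit 4) (BT.leaf ⟨[(nat_lit 1), (nat_lit 1)], (nat_lit 0), (nat_lit 0), (nat_lit 0), (nat_lit 3)⟩) (BT.node (nat_lit 5) (BT.leaf ⟨[(nat_lit 2), (nat_lit 2)], (nat_lit 1), (nat_lit 0), (nat_lit 0), (nat_lit 3)⟩) (BT.leaf ⟨[(nat_lit 3), (nat_lit 3)], (nat_lit 2), (nat_lit 0), (nat_lit 0), (nat_lit 3)⟩)))) (BT.node (nat_lit 9) (BT.node (nat_lit 7) (BT.leaf ⟨[(nat_lit 4), (nat_lit 4)], (nat_lit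 3), (nat_lit 0), (nat_lit 0), (nat_lit 3)⟩) (BT.node (nat_lit 8) (BT.leaf ⟨[(nat_lit 5), (nat_lit 5)], (nat_lit 4), (nat_lit 0), (nat_lit 0), (nat_lit 3)⟩) (BT.leaf ⟨[(nat_lit 6), (nat_lit 6)], (nat_lit 19), (nat_lit 0), (nat_lit 0), (nat_lit 3)⟩))) (BT.node (nat_lit 10) (BT.leaf ⟨[(nat_lit 7), (nat_lit 7)], (nat_lit 20), (nat_lit 0), (nat_lit 0), (nat_lit 3)⟩) (BT.node (nat_lit 11) (BT.leaf ⟨[(nat_lit 1), (nat_lit 3), (nat_lit 1), (nat_lit 3)], (nat_lit 7), (nat_lit 0), (nat_lit 0), (nat_lit 3)⟩) (BT.leaf ⟨[(nat_lit 1), (nat_lit 4), (nat_lit 1), (nat_lit 4)], (nat_lit 8), (nat_lit 0), (nat_lit 0), (nat_lit 3)⟩))))) (BT.node (nat_lit 18) (BT.node (nat_lit 15) (BT.node (nat_lit 13) (BT.leaf ⟨[(nat_lit 1), (nat_lit 6), (nat_lit 1), (nat_lit 6)], (nat_lit 11), (nat_lit 1), (nat_lit 0), (nat_lit 3)⟩) (BT.node (nat_lit 14) (BT.leaf ⟨[(nat_lit 3), (nat_lit 7), (nat_lit 1), (nat_lit 7)], (nat_lit 15), (nat_lit 3), (nat_lit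 0), (nat_lit 3)⟩) (BT.leaf ⟨[(nat_lit 2), (nat_lit 3), (nat_lit 2), (nat_lit 3)], (nat_lit 9), (nat_lit 0), (nat_lit 0), (nat_lit 3)⟩))) (BT.node (nat_lit 16) (BT.leaf ⟨[(nat_lit 2), (nat_lit 4), (nat_lit 2), (nat_lit 4)], (nat_lit 10), (nat_lit 0), (nat_lit 0), (nat_lit 3)⟩) (BT.node (nat_lit 17) (BT.leaf ⟨[(nat_lit 4), (nat_lit 7), (nat_lit 2), (nat_lit 7)], (nat_lit 16), (nat_lit 3), (nat_lit 0), (nat_lit 3)⟩) (BT.leaf ⟨[(nat_lit 3), (nat_lit 6), (nat_lit 3), (nat_lit 6)], (nat_lit 13), (nat_lit 1), (nat_lit 0), (nat_lit 3)⟩)))) (BT.node (nat_lit 21) (BT.node (nat_lit 19) (BT.leaf ⟨[(nat_lit 1), (nat_lit 7), (nat_lit 3), (nat_lit 7)], (nat_lit 15), (nat_lit 1), (nat_lit 0), (nat_lit 3)⟩) (BT.node (nat_lit 20) (BT.leaf ⟨[(nat_lit 2), (nat_lit 7), (nat_lit 4), (nat_lit 7)], (nat_lit 16), (nat_lit 1), (nat_lit 0), (nat_lit 3)⟩) (BT.leaf ⟨[(nat_lit 6), (nat_lit 7), (nat_lit 6), (nat_lit 7)], (nat_lit 21), (nat_lit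 0), (nat_lit 0), (nat_lit 3)⟩))) (BT.node (nat_lit 23) (BT.node (nat_lit 22) (BT.leaf ⟨[(nat_lit 5), (nat_lit 1), (nat_lit 2), (nat_lit 1), (nat_lit 2)], (nat_lit 5), (nat_lit 4), (nat_lit 0), (nat_lit 3)⟩) (BT.leaf ⟨[(nat_lit 1), (nat_lit 5), (nat_lit 2), (nat_lit 1), (nat_lit 2)], (nat_lit 34), (nat_lit 4), (nat_lit 0), (nat_lit 3)⟩)) (BT.node (nat_lit 24) (BT.leaf ⟨[(nat_lit 2), (nat_lit 1), (nat_lit 2), (nat_lit 1), (nat_lit 5)], (nat_lit 34), (nat_lit 1), (nat_lit 0), (nat_lit 3)⟩) (BT.leaf ⟨[(nat_lit 4), (nat_lit 6), (nat_lit 4), (nat_lit 1), (nat_lit 6)], (nat_lit 14), (nat_lit 1), (nat_lit 0), (nat_lit 3)⟩)))))) (BT.node (nat_lit 38) (BT.node (nat_lit 31) (BT.node (nat_lit 28) (BT.node (nat_lit 26) (BT.leaf ⟨[(nat_lit 6), (nat_lit 4), (nat_lit 6), (nat_lit 1), (nat_lit 4)], (nat_lit 43), (nat_lit 2), (nat_lit 0), (nat_lit 3)⟩) (BT.node (nat_lit 27) (BT.leaf ⟨[(nat_lit 4), (nat_lit 2), (nat_lit 4), (nat_lit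 2)], (nat_lit 10), (nat_lit 1), (nat_lit 0), (nat_lit 3)⟩) (BT.leaf ⟨[(nat_lit 6), (nat_lit 3), (nat_lit 6), (nat_lit 3)], (nat_lit 13), (nat_lit 0), (nat_lit 0), (nat_lit 3)⟩))) (BT.node (nat_lit 29) (BT.leaf ⟨[(nat_lit 3), (nat_lit 2), (nat_lit 6), (nat_lit 2), (nat_lit 6)], (nat_lit 12), (nat_lit 3), (nat_lit 0), (nat_lit 3)⟩) (BT.node (nat_lit 30) (BT.leaf ⟨[(nat_lit 2), (nat_lit 6), (nat_lit 3), (nat_lit 2), (nat_lit 6)], (nat_lit 12), (nat_lit 1), (nat_lit 0), (nat_lit 3)⟩) (BT.leaf ⟨[(nat_lit 6), (nat_lit 2), (nat_lit 6), (nat_lit 2), (nat_lit 3)], (nat_lit 41), (nat_lit 2), (nat_lit 0), (nat_lit 3)⟩)))) (BT.node (nat_lit 34) (BT.node (nat_lit 32) (BT.leaf ⟨[(nat_lit 3), (nat_lit 1), (nat_lit 3), (nat_lit 1)], (nat_lit 7), (nat_lit 1), (nat_lit 0), (nat_lit 3)⟩) (BT.node (nat_lit 33) (BT.leaf ⟨[(nat_lit 6), (nat_lit 1), (nat_lit 6), (nat_lit 1)], (nat_lit 11), (nat_lit 0), (nat_lit 0), (nat_lit 3)⟩) (BT.leaf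 ⟨[(nat_lit 5), (nat_lit 3), (nat_lit 4), (nat_lit 3), (nat_lit 4)], (nat_lit 6), (nat_lit 4), (nat_lit 0), (nat_lit 3)⟩))) (BT.node (nat_lit 36) (BT.node (nat_lit 35) (BT.leaf ⟨[(nat_lit 3), (nat_lit 5), (nat_lit 4), (nat_lit 3), (nat_lit 4)], (nat_lit 35), (nat_lit 4), (nat_lit 0), (nat_lit 3)⟩) (BT.leaf ⟨[(nat_lit 4), (nat_lit 3), (nat_lit 4), (nat_lit 3), (nat_lit 5)], (nat_lit 35), (nat_lit 1), (nat_lit 0), (nat_lit 3)⟩)) (BT.node (nat_lit 37) (BT.leaf ⟨[(nat_lit 4), (nat_lit 1), (nat_lit 4), (nat_lit 1)], (nat_lit 8), (nat_lit 1), (nat_lit 0), (nat_lit 3)⟩) (BT.leaf ⟨[(nat_lit 3), (nat_lit 2), (nat_lit 3), (nat_lit 2)], (nat_lit 9), (nat_lit 1), (nat_lit 0), (nat_lit 3)⟩))))) (BT.node (nat_lit 44) (BT.node (nat_lit 41) (BT.node (nat_lit 39) (BT.leaf ⟨[(nat_lit 4), (nat_lit 1), (nat_lit 6), (nat_lit 4), (nat_lit 6)], (nat_lit 14), (nat_lit 3), (nat_lit 0), (nat_lit 3)⟩) (BT.node (nat_lit 40) (BT.leaf ⟨[(nat_lit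 6), (nat_lit 4), (nat_lit 6), (nat_lit 4), (nat_lit 1)], (nat_lit 14), (nat_lit 0), (nat_lit 0), (nat_lit 3)⟩) (BT.leaf ⟨[(nat_lit 1), (nat_lit 4), (nat_lit 6), (nat_lit 4), (nat_lit 6)], (nat_lit 43), (nat_lit 0), (nat_lit 0), (nat_lit 3)⟩))) (BT.node (nat_lit 42) (BT.leaf ⟨[(nat_lit 6), (nat_lit 2), (nat_lit 6), (nat_lit 3), (nat_lit 2)], (nat_lit 12), (nat_lit 0), (nat_lit 0), (nat_lit 3)⟩) (BT.node (nat_lit 43) (BT.leaf ⟨[(nat_lit 2), (nat_lit 6), (nat_lit 2), (nat_lit 3), (nat_lit 6)], (nat_lit 41), (nat_lit 3), (nat_lit 0), (nat_lit 3)⟩) (BT.leaf ⟨[(nat_lit 6), (nat_lit 3), (nat_lit 2), (nat_lit 6), (nat_lit 2)], (nat_lit 12), (nat_lit 2), (nat_lit 0), (nat_lit 3)⟩)))) (BT.node (nat_lit 47) (BT.node (nat_lit 45) (BT.leaf ⟨[(nat_lit 2), (nat_lit 6), (nat_lit 2), (nat_lit 6), (nat_lit 3)], (nat_lit 12), (nat_lit 4), (nat_lit 0), (nat_lit 3)⟩) (BT.node (nat_lit 46) (BT.leaf ⟨[(nat_lit 3), (nat_lit 6), (nat_lit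 2), (nat_lit 6), (nat_lit 2)], (nat_lit 41), (nat_lit 1), (nat_lit 0), (nat_lit 3)⟩) (BT.leaf ⟨[(nat_lit 6), (nat_lit 4), (nat_lit 1), (nat_lit 6), (nat_lit 4)], (nat_lit 14), (nat_lit 2), (nat_lit 0), (nat_lit 3)⟩))) (BT.node (nat_lit 49) (BT.node (nat_lit 48) (BT.leaf ⟨[(nat_lit 1), (nat_lit 6), (nat_lit 4), (nat_lit 6), (nat_lit 4)], (nat_lit 14), (nat_lit 4), (nat_lit 0), (nat_lit 3)⟩) (BT.leaf ⟨[(nat_lit 4), (nat_lit 6), (nat_lit 4), (nat_lit 6), (nat_lit 1)], (nat_lit 43), (nat_lit 1), (nat_lit 0), (nat_lit 3)⟩)) (BT.node (nat_lit 50) (BT.leaf ⟨[(nat_lit 5), (nat_lit 2), (nat_lit 1), (nat_lit 2), (nat_lit 1)], (nat_lit 34), (nat_lit 0), (nat_lit 0), (nat_lit 3)⟩) (BT.leaf ⟨[(nat_lit 5), (nat_lit 4), (nat_lit 3), (nat_lit 4), (nat_lit 3)], (nat_lit 35), (nat_lit 0), (nat_lit 0), (nat_lit 3)⟩)))))))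
noncomputable def eV000_hcs : List CW := []
noncomputable def eV000_H (x j : Nat) : Bx (Nat → Nat → Nat) := mkH eV000_L eV000_pb.1 eV000_e.get (lmap CW.w eV000_hcs) (nat_lit 128) (nat_lit 129) (nat_lit 8) (nat_lit 256) (nat_lit 16384) (nat_lit 16383) x (eV000_rots.get j)
noncomputable def eV000_F (x b : Nat) : Bool := blkOK eV000_H eV000_ch (nat_lit 129) (nat_lit 256) (nat_lit 64) (nat_lit 8) (nat_lit 255) (nat_lit 19) (nat_lit 524287) x b

theorem eV000_k0_0 : allFrom (eV000_F (nat_lit 0)) (nat_lit 0) (nat_lit 4) = true := by decide +kernel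
theorem eV000_k1_0 : allFrom (eV000_F (nat_lit 1)) (nat_lit 0) (nat_lit 4) = true := by decide +kernel
theorem eV000_k2_0 : allFrom (eV000_F (nat_lit 2)) (nat_lit 0) (nat_lit 4) = true := by decide +kernel
theorem eV000_k3_0 : allFrom (eV000_F (nat_lit 3)) (nat_lit 0) (nat_lit 4) = true := by decide +kernel
theorem eV000_k4_0 : allFrom (eV000_F (nat_lit 4)) (nat_lit 0) (nat_lit 4) = true := by decide +kernel
theorem eV000_k5_0 : allFrom (eV000_F (nat_lit 5)) (nat_lit 0) (nat_lit 4) = true := by decide +kernel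
theorem eV000_k6_0 : allFrom (eV000_F (nat_lit 6)) (nat_lit 0) (nat_lit 4) = true := by decide +kernel
theorem eV000_k7_0 : allFrom (eV000_F (nat_lit 7)) (nat_lit 0) (nat_lit 4) = true := by decide +kernel

theorem eV000_all : Cov eV000_F 4 8 0 := by
  have h := Cov.zero eV000_F 4
  have h := h.blk (b := 4) eV000_k0_0 rfl
  have h := h.next (y := 1) rfl rfl
  have h := h.blk (b := 4) eV000_k1_0 rfl
  have h := h.next (y := 2) rfl rfl
  have h := h.blk (b := 4) eV000_k2_0 rfl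
  have h := h.next (y := 3) rfl rfl
  have h := h.blk (b := 4) eV000_k3_0 rfl
  have h := h.next (y := 4) rfl rfl
  have h := h.blk (b := 4) eV000_k4_0 rfl
  have h := h.next (y := 5) rfl rfl
  have h := h.blk (b := 4) eV000_k5_0 rfl
  have h := h.next (y := 6) rfl rfl
  have h := h.blk (b := 4) eV000_k6_0 rfl
  have h := h.next (y := 7) rfl rfl
  have h := h.blk (b := 4) eV000_k7_0 rfl
  have h := h.next (y := 8) rfl rfl
  exact h

theorem eV000 : Enum RV000 [] (gensW 7) 128 :=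
  ⟨eV000_cols, eV000_ch, eV000_L, eV000_H, eV000_pb.1, eV000_e.get, [(nat_lit 0), (nat_lit 1), (nat_lit 3), (nat_lit 5), (nat_lit 7), (nat_lit 9), (nat_lit 11), (nat_lit 13)], (nat_lit 127), (nat_lit 7), eV000_rots, eV000_hcs,
    (nat_lit 129), (nat_lit 8), (nat_lit 256), (nat_lit 64), (nat_lit 16384), (nat_lit 16383), (nat_lit 8), (nat_lit 255), (nat_lit 19), (nat_lit 524287), (nat_lit 1), (nat_lit 4),
    fun _ _ => rfl, fun _ => rfl, fun _ _ => rfl, by decide +kernel, eV000_all.1⟩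

theorem pV000 : TV000.Pres RV000 (gensW 7) := ⟨CT.ok_spec TV000_ok, lall_iff.1 TV000_rel, by decide +kernel,
  by decide +kernel, by decide +kernel, eV000.bound (ug_rels _) (bound_nil _)⟩

instance instTV000 : TV000.Grp := pV000.grp

noncomputable def SV001 : List (List Nat) := [[(nat_lit 11), (nat_lit 11)],
  [(nat_lit 13), (nat_lit 13)],
  [(nat_lit 11), (nat_lit 13), (nat_lit 11), (nat_lit 13), (nat_lit 10)]]
noncomputable def RV001 : List (List Nat) := lapp RP (lapp Rka5 (lapp Rro6 SV001))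
noncomputable def TV001_c0 : BT (Bx Nat) := (BT.node (nat_lit 1) (BT.leaf (Bx.mk (nat_lit 0x58f5f395acde2662b9ab074a9bb45ed9dbf44c94a44ee12a846ad0a03e78e9a36709922e50a96326088e1e4068c16184880e282840608080))) (BT.leaf (Bx.mk (nat_lit 0xfbb3ffac9f39f0c5ab3e6f3bb5f8c3cb47ee3db1edebd307bd3df7e5bf7aed3af66d54b74aad8b95a6c6932a8cc913a7cb8f422c283121c0))))
noncomputable def TV001_c1 : BT (Bx Nat) := (BT.node (nat_lit 1) (BT.leaf (Bx.mk (nat_lit 0x74f19be64fd62b62c17ae7aedbb66ad133970892a446b54a84ea9021347099e247c60b224078e3a6cb962a50319300828406344880e28001))) (BT.leaf (Bx.mk (nat_lit 0xe7e7d6cdbf7f6ae9a34f7ff9b764cbc7dfcc5e3af6c3cb7f0c1af3e3a766d4c9b76f4aa9224d7bf1a7448b46ddc8562ad6834a7d0812e3c3))))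
noncomputable def TV001_c3 : BT (Bx Nat) := (BT.node (nat_lit 1) (BT.leaf (Bx.mk (nat_lit 0x50dd7244ac5a297ccd5396c85d2c5af57b040d5c3f4c9ddbc448d92b2c508901e38b95327cc1e101ce9c36682840624513240468c1600302))) (BT.leaf (Bx.mk (nat_lit 0xd7ef372fde317acbbf863dbf34f5ed9f9eaffb38e0ddf7be1e9e7268b14a6dbb92e55f9356b478d7a2cfa10eec2b566bc1a94e8c09d32444))))
noncomputable def TV001_c5 : BT (Bx Nat) := (BT.node (nat_lit 1) (BT.leaf (Bx.mk (nat_lit 0x66e5d2c5af5f2a68a14b77e997244ac5dbc44e1ab642c97b040ad3a32664d0c1a74f0a28204973e187040a44d9c0460a960248790002c383))) (BT.leaf (Bx.mk (nat_lit 0xf5f39fee5ff66be3c37eefbefbf6ebd3379f18b2e4c7b74e8cfab061b5729dea57e64ba3427cebb6ebd6ab52359b10a2c487364c88f2a041))))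
noncomputable def TV001_c7 : BT (Bx Nat) := (BT.node (nat_lit 1) (BT.leaf (Bx.mk (nat_lit 0x56ed3327ce113a4abd8235af14b56c9d9aa7eb18a05cf5ba168e5228304869b382c51f1254b070c7828f200ce823464b81284c8801c30404))) (BT.leaf (Bx.mk (nat_lit 0xd1df764cbc7a69fdcf579ed87d6cdbf77f0c1d7c7fcd9fdfcc58f96bad528d09f3abd5b37ec5e911eedcb76a2c48726553a5066cc9702342))))
noncomputable def TV001_c9 : BT (Bx Nat) := (BT.node (nat_lit 1) (BT.leaf (Bx.mk (nat_lit 0x7cfd63a56f19b250d13b672e122e46c113d76990b76aa90315eb54a53c7c61a16709921050396326020e064011d36180972a280111e34485))) (BT.leaf (Bx.mk (nat_lit 0xfdff67ad7f39f2d1d33f6f3e326ec7c317df79b0f7ebab071dfb74e5bd7e65a97729d291523d6b36224e874215db71a0d7ab2a0519f364c5))))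
noncomputable def TV001_c11 : BT (Bx Nat) := (BT.node (nat_lit 1) (BT.leaf (Bx.mk (nat_lit 0x3e78e9c3668c982e58a9426488901e3868c16284880e1828406080807ef9ebc76e9cb86ed9ab466c98b05eb96ac56a94a84e992a446890a0))) (BT.leaf (Bx.mk (nat_lit 0xbd7e65a97729d291523d6b36224e874215db71a0d7ab2a0519f364c5fdff67ad7f39f2d1d33f6f3e326ec7c317df79b0f7ebab071dfb74e5))))
noncomputable def TV001_c13 : BT (Bx Nat) := (BT.node (nat_lit 1) (BT.leaf (Bx.mk (nat_lit 0xfffbefcf7ebcf8efdbaf4e7cb8f0dfbb6ecd7ab4e8cf9b2e4c78b0e0bf7aedcb76acd8af5aad4a74a8d09f3a6cc972a4c88f1a2c4870a0c0))) (BT.leaf (Bx.mk (nat_lit 0x7ef9ebc76e9cb86ed9ab466c98b05eb96ac56a94a84e992a446890a03e78e9c3668c982e58a9426488901e3868c16284880e182840608080))))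
noncomputable def TV001_w : BT (Bx Nat) := (BT.node (nat_lit 1) (BT.leaf (Bx.mk (nat_lit 0xb57310b753100b97300b57300b95300b75300b71300b51300b97100b57100b95100b75100b73100b531000b97000b57000b95000b75000b93000b73000b53000b13000b91000b71000b51000b310000b90000b70000b50000b30000b100000b005731007531000973000573000953000753000713000513000971000571000951000751000731000531000097000057000095000075000093000073000053000013000091000071000051000031000009000007000005000003000001000000))) (BT.leaf (Bx.mk (nat_lit 0xdb5731db75310db9730db5730db9530db7530db7130db5130db9710db5710db9510db7510db7310db53100db9700db5700db9500db7500db9300db7300db5300db1300db9100db7100db5100db31000db9000db7000db5000db3000db10000db0d57310d753100d97300d57300d95300d75300d71300d51300d97100d57100d95100d75100d73100d531000d97000d57000d95000d75000d93000d73000d53000d13000d91000d71000d51000d310000d90000d70000d50000d30000d100000d))))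
noncomputable def TV001_cols : List (BT (Bx Nat)) := [TV001_c0, TV001_c1, TV001_c1, TV001_c3, TV001_c3, TV001_c5, TV001_c5, TV001_c7, TV001_c7, TV001_c9, TV001_c9, TV001_c11, TV001_c11, TV001_c13, TV001_c13]
noncomputable def TV001_ch (x j : Nat) : Bx Nat := chk TV001_cols x j
noncomputable def TV001_wc (_ j : Nat) : Bx Nat := TV001_w.get j
noncomputable def TV001 : CT := ⟨(nat_lit 128), (nat_lit 7), (nat_lit 127), TV001_ch, (nat_lit 24), (nat_lit 16777215), TV001_wc, (nat_lit 32766)⟩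
theorem TV001_ok : TV001.ok = true := by decide +kernel
theorem TV001_rel : lall TV001.relOK RV001 = true := by decide +kernel
noncomputable def eV001_c0 : BT (Bx Nat) := (BT.leaf (Bx.mk (nat_lit 0x0)))
noncomputable def eV001_c1 : BT (Bx Nat) := (BT.leaf (Bx.mk (nat_lit 0x6135e8a6d8e11d5263b14473988e4a4d5de22c5044fa08a0811f5e63f3844e326f944deee9b76133d6087f611c505aa4047fc266cc1186e9b05d362c265b610cac218c842fa1a8b611a1a9b558469b88bb71203182fc0437c264d12cea422141379488f552d2ae9a09c46dc883f4dd31621855377a9af0f35d2e9a24c452c26394115ac21158421b88874107a6231d844dc608f34d66c22ad443c6a6df73496e23858c40796490116b098a38423898b9711af0689e0c11c16217359ae9b2b0d519a6c941076e233d8b1ab083384c3ac20bd0416b082b7116ec21f3843b7987173526e9a45441bd02a754d1aa6975c44bb1841510b2e595e1308b9a53530a2e613dc439b886b71026e21a5c433c8807710ab0683d9606c180b82c130b095c418b881b51032e205dc40ad021f91007408100000)))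
noncomputable def eV001_c2 : BT (Bx Nat) := (BT.leaf (Bx.mk (nat_lit 0x4056bc28b7841670a2ac056aa8ad3915270a242c56698acb9150b0a20bc5525a8c121585aa1fdd46fb0ae1850e567a6614368a901141f2ca3dcd42fba8c8c51e28a3bd856771e6b850aa67b928573a20878509942ab5852bb8aff6149ee2bf64522c2842b4176e2bee10207f25d03dd3228ec9432ba8639146eaa0f2856dba88d7c8f340bd5c579ba0816152e9a1f6141898abfa05dae2bad854760ae3315170a0a5854ab1e3561466e2b750516b0a2b715b1a2b1c852c99e5111542c2a7e450d90ad0e154f0a074d034b9eb97158ae292c8533ba0b57157b0e94e100bc1e15a0562e2abdc554c8a0f4153740a8e1408d029d514eee79d5c544b8a27540e2e81bdc53dc3a2f5141b0802e0f04b8a19714b740986170fb8a497148f22815c51cd023f65c4ae288dc510c8a03a0427408180000)))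
noncomputable def eV001_c3 : BT (Bx Nat) := (BT.leaf (Bx.mk (nat_lit 0x40e6e78ce0919ed633e32d7d55afca19e2e73baed7ab0cf2a19cea7396464059ced419d5a32f40e7f71cb6f1a01632fd863db0c72c1955432cd064da0c9741926832450e4690c5d419128320d0642624dae39c556aa6462468cdf118d16734c8650a9c9f91881a7352465dbbe6b0191e9a9f4ce58a0caf548f2a7345d243a9ccf8486ea93354e658a4a531992830ed4e62b0c9953982a930e8174b9c4d31946e7365064eb8c6f91846e735b9f12c447783852c329cad5ac8c1f6188ac310dc625a0c3d3498ec30e5c627c8c17618630906d1f0cc4459618ff0e186815cc8c13748cae718e8156b8c27538bea922dce2db8c95718572302dce2ac240f6881b110d5c636c383ed18e3409d64603d026783822e314cc628d02579180b4091dc60eb8c2f5185b408ce4601d0221a042b408200000)))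
noncomputable def eV001_c4 : BT (Bx Nat) := (BT.leaf (Bx.mk (nat_lit 0x50767a0ec591d62c3abe4750c229f169daa3bacec7250ee701deac8bca87515a2ef21de283a6d074ba228d41d10c3a9c916888ec991ccb0898c476caa300c1d86e8b04916b60e95545fda8b358765c8e4b61cb6d71f49a33b0e5591c8f23916817eba2fab1d170890e471f3d8db91c75763a6817cb8ef7768c2a8b8cc72eaa2e0d698e23a15d141c8e2f31dbd962b5516eadc5324526c3a464713aa23d51d76c38e5c73568e2571ce2c38c6233ac8e21744bf0c1e6470f88eb9a05aae3b4d874eb0e6d4e132e8af4c70cb8e517456e83a1e232bc8e158443b40afe4709d02b5a0566e3aae4707d02a941cff40a95d13db8e1b51c1ae38b5d139d028f88c67238261108d0280eb0ef2381e8137d026971c9b0c0dd2c2cc8e05a049f40925c714d024168c6b2380e8115d0223a042f408280000)))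
noncomputable def eV001_c5 : BT (Bx Nat) := (BT.leaf (Bx.mk (nat_lit 0x487f15700621f4fd3f16a7b210f8e21e5fd3d5c877c54f0ca9d5643b5bb54b90e58a9ced59e92b6e41072321c0c42726b5e890b6921a55db54082d890c572197153342b2a710532a99ee43062a6151078821b104205c85a954d78857215aac2b57790b17ed1de42cd4874bf460e2081240fdc84fc54a0755b6d58e5881b9d6891210ee42462a49b10ad2ac62040bc884b956957210715212615db56296204ea438aeb5fc9023720dd3537e4810c42753ac9a2412c3b2479047720c71519588539561d0203635346480bb904ef2191f5b1e480ac4257220da559abc834876677208715113e15252aa36ac22c403d484dbd69992016e40ac48468d68b92013108cd483fbd67d9200f409de8138b9013120be359764802d0259a04a30a87d481ebd63b92007408d68116d0225a0433408300000)))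
noncomputable def eV001_c6 : BT (Bx Nat) := (BT.leaf (Bx.mk (nat_lit 0x21b7e236fa7260064bf960709c0dca6d8a44b3e4944a4096a6db1adaf41b5ac927b725c712b91097c512ab225ef249ba49769c0d296d6e44b5c89579b6f3924aa2db240965c9250925eb249351b3661276c25d7249220954412d4f25d2501cc9b2d9b6d176cad7037a5b5cbc0672d8b1b99c6491cb929b524eb12a7e491a992ef92467248c4e046a924f22523248b68178c922b92452e49fdc934c4a839244b40b9e49116debf6c53a24acb0951d02db325832487e1940b12a79243a6d97dc923912639243224ac44952b12ada059b248568163b5e8fa05872484e815dc3c6192422e48f5c90bb922189487248368150c920ba053340a568149c9209a051740a1e8142c9207a04fb409e61e1fd026ba04cb24816812ec3241a04a74092e8122c9203a0477408de8117d0227a0437408380000)))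
noncomputable def eV001_c7 : BT (Bx Nat) := (BT.leaf (Bx.mk (nat_lit 0x64a5cc94b4929d3252a1e76dc949ca295b2523d264ac94875a17725202a97e594bf928f3251de4a3ac9471928dcc53e64a34c9466ea54f251864a2cc945719d8f2514e4a28814cd9289e939ae4a25648e792892853b68180c9447a05fef4a8de852c9440ba5eb250fe817d694d562962c52cdca4cc9437a05ef250d62450c9433329e27322e4a17d02f39285a4524e4a15d02ef728fb2509e8175c94258910b2508e8172d02e3a05c325086816fd02dd9283e6530e816cd02d739cbb2506e8169c9419228cb2505e8168d02cf9282b40b2e8164d02c59282740b06815ed02b7728772503e8157d02ab9281b121164a05d029fa053740a5e4a04d0291a051b40a264a03d0283a04ff409ee8139d026d9280b4098e812fd025ba04ab409364a01d0243a047b408e68118d0229a043b408400000)))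
noncomputable def eV001_p : BT (Bx Nat) := (BT.leaf (Bx.mk (nat_lit 0x15707ab43c58122a0f140489c3c490a238f11068863c420a200f100387a343c1e1d8f0e878703c371e1b8d0d078663c3212180f0b078563c2a1a148f0a0785034271e130d094784a24241e120d09038463c23119108c8826403b200d8f8ec7c463e0b1d118e84c7066363b1b098d0ec6866323b19198c0cc5c762e23161d8b0cc54762a331419898ec4c46243b1219888ec4466222b110d880ec405620230f1d878cc3c461e1b0e19868ec3426183b0c19858ec2c56161b0a1d850cc28561423091d848cc2446121a0819038e81c440e12061d030c814740a32051502868107408320415020880c7406320315018880c34060a021d010c808540422020d010440472023101148088404320211010400000000)))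
noncomputable def eV001_e : BT Nat := BT.leaf (nat_lit 0)
noncomputable def eV001_cols : List (BT (Bx Nat)) := [eV001_c0, eV001_c1, eV001_c2, eV001_c3, eV001_c4, eV001_c5, eV001_c6, eV001_c7]
noncomputable def eV001_ch (x j : Nat) : Bx Nat := chunkG eV001_cols (nat_lit 1) x j
noncomputable def eV001_L (x : Nat) : Bx (Nat → Nat) := lookG eV001_ch (nat_lit 8) (nat_lit 255) (nat_lit 19) (nat_lit 524287) x
noncomputable def eV001_pc (_ j : Nat) : Bx Nat := eV001_p.get j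
noncomputable def eV001_pb : Bx (Nat → Nat) := lookG eV001_pc (nat_lit 8) (nat_lit 255) (nat_lit 17) (nat_lit 131071) (nat_lit 0)
noncomputable def eV001_rots : BT CW := (BT.node (nat_lit 29) (BT.node (nat_lit 14) (BT.node (nat_lit 7) (BT.node (nat_lit 3) (BT.node (nat_lit 1) (BT.leaf ⟨[], (nat_lit 1000000), (nat_lit 0), (nat_lit 0), (nat_lit 0)⟩) (BT.node (nat_lit 2) (BT.leaf ⟨[], (nat_lit 1000000), (nat_lit 0), (nat_lit 0), (nat_lit 1)⟩) (BT.leaf ⟨[], (nat_lit 1000000), (nat_lit 0), (nat_lit 0), (nat_lit 2)⟩))) (BT.node (nat_lit 5) (BT.node (nat_lit 4) (BT.leaf ⟨[(nat_lit 1), (nat_lit 1)], (nat_lit 0), (nat_lit 0), (nat_lit 0), (nat_lit 3)⟩) (BT.leaf ⟨[(nat_lit 2), (nat_lit 2)], (nat_lit 1), (nat_lit 0), (nat_lit 0), (nat_lit 3)⟩)) (BT.node (nat_lit 6) (BT.leaf ⟨[(nat_lit 3), (nat_lit 3)], (nat_lit 2), (nat_lit 0), (nat_lit 0), (nat_lit 3)⟩) (BT.leaf ⟨[(nat_lit 4), (nat_lit 4)], (nat_lit 3), (nat_lit 0), (nat_lit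 0), (nat_lit 3)⟩)))) (BT.node (nat_lit 10) (BT.node (nat_lit 8) (BT.leaf ⟨[(nat_lit 5), (nat_lit 5)], (nat_lit 4), (nat_lit 0), (nat_lit 0), (nat_lit 3)⟩) (BT.node (nat_lit 9) (BT.leaf ⟨[(nat_lit 6), (nat_lit 6)], (nat_lit 19), (nat_lit 0), (nat_lit 0), (nat_lit 3)⟩) (BT.leaf ⟨[(nat_lit 7), (nat_lit 7)], (nat_lit 20), (nat_lit 0), (nat_lit 0), (nat_lit 3)⟩))) (BT.node (nat_lit 12) (BT.node (nat_lit 11) (BT.leaf ⟨[(nat_lit 1), (nat_lit 3), (nat_lit 1), (nat_lit 3)], (nat_lit 7), (nat_lit 0), (nat_lit 0), (nat_lit 3)⟩) (BT.leaf ⟨[(nat_lit 1), (nat_lit 4), (nat_lit 1), (nat_lit 4)], (nat_lit 8), (nat_lit 0), (nat_lit 0), (nat_lit 3)⟩)) (BT.node (nat_lit 13) (BT.leaf ⟨[(nat_lit 1), (nat_lit 6), (nat_lit 1), (nat_lit 6)], (nat_lit 11), (nat_lit 1), (nat_lit 0), (nat_lit 3)⟩) (BT.leaf ⟨[(nat_lit 3), (nat_lit 7), (nat_lit 1), (nat_lit 7)], (nat_lit 15), (nat_lit 3), (nat_lit 0), (nat_lit 3)⟩))))) (BT.node (nat_lit 21)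 (BT.node (nat_lit 17) (BT.node (nat_lit 15) (BT.leaf ⟨[(nat_lit 2), (nat_lit 3), (nat_lit 2), (nat_lit 3)], (nat_lit 9), (nat_lit 0), (nat_lit 0), (nat_lit 3)⟩) (BT.node (nat_lit 16) (BT.leaf ⟨[(nat_lit 2), (nat_lit 4), (nat_lit 2), (nat_lit 4)], (nat_lit 10), (nat_lit 0), (nat_lit 0), (nat_lit 3)⟩) (BT.leaf ⟨[(nat_lit 4), (nat_lit 7), (nat_lit 2), (nat_lit 7)], (nat_lit 16), (nat_lit 3), (nat_lit 0), (nat_lit 3)⟩))) (BT.node (nat_lit 19) (BT.node (nat_lit 18) (BT.leaf ⟨[(nat_lit 3), (nat_lit 6), (nat_lit 3), (nat_lit 6)], (nat_lit 13), (nat_lit 1), (nat_lit 0), (nat_lit 3)⟩) (BT.leaf ⟨[(nat_lit 1), (nat_lit 7), (nat_lit 3), (nat_lit 7)], (nat_lit 15), (nat_lit 1), (nat_lit 0), (nat_lit 3)⟩)) (BT.node (nat_lit 20) (BT.leaf ⟨[(nat_lit 2), (nat_lit 7), (nat_lit 4), (nat_lit 7)], (nat_lit 16), (nat_lit 1), (nat_lit 0), (nat_lit 3)⟩) (BT.leaf ⟨[(nat_lit 5), (nat_lit 1), (nat_lit 2), (nat_lit 1), (nat_lit 2)], (nat_lit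 5), (nat_lit 4), (nat_lit 0), (nat_lit 3)⟩)))) (BT.node (nat_lit 25) (BT.node (nat_lit 23) (BT.node (nat_lit 22) (BT.leaf ⟨[(nat_lit 1), (nat_lit 5), (nat_lit 2), (nat_lit 1), (nat_lit 2)], (nat_lit 34), (nat_lit 4), (nat_lit 0), (nat_lit 3)⟩) (BT.leaf ⟨[(nat_lit 2), (nat_lit 1), (nat_lit 2), (nat_lit 1), (nat_lit 5)], (nat_lit 34), (nat_lit 1), (nat_lit 0), (nat_lit 3)⟩)) (BT.node (nat_lit 24) (BT.leaf ⟨[(nat_lit 4), (nat_lit 6), (nat_lit 4), (nat_lit 1), (nat_lit 6)], (nat_lit 14), (nat_lit 1), (nat_lit 0), (nat_lit 3)⟩) (BT.leaf ⟨[(nat_lit 6), (nat_lit 4), (nat_lit 6), (nat_lit 1), (nat_lit 4)], (nat_lit 43), (nat_lit 2), (nat_lit 0), (nat_lit 3)⟩))) (BT.node (nat_lit 27) (BT.node (nat_lit 26) (BT.leaf ⟨[(nat_lit 4), (nat_lit 2), (nat_lit 4), (nat_lit 2)], (nat_lit 10), (nat_lit 1), (nat_lit 0), (nat_lit 3)⟩) (BT.leaf ⟨[(nat_lit 6), (nat_lit 3), (nat_lit 6), (nat_lit 3)], (nat_lit 13), (nat_lit 0), (nat_lit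 0), (nat_lit 3)⟩)) (BT.node (nat_lit 28) (BT.leaf ⟨[(nat_lit 3), (nat_lit 2), (nat_lit 6), (nat_lit 2), (nat_lit 6)], (nat_lit 12), (nat_lit 3), (nat_lit 0), (nat_lit 3)⟩) (BT.leaf ⟨[(nat_lit 2), (nat_lit 6), (nat_lit 3), (nat_lit 2), (nat_lit 6)], (nat_lit 12), (nat_lit 1), (nat_lit 0), (nat_lit 3)⟩)))))) (BT.node (nat_lit 44) (BT.node (nat_lit 36) (BT.node (nat_lit 32) (BT.node (nat_lit 30) (BT.leaf ⟨[(nat_lit 6), (nat_lit 2), (nat_lit 6), (nat_lit 2), (nat_lit 3)], (nat_lit 41), (nat_lit 2), (nat_lit 0), (nat_lit 3)⟩) (BT.node (nat_lit 31) (BT.leaf ⟨[(nat_lit 3), (nat_lit 1), (nat_lit 3), (nat_lit 1)], (nat_lit 7), (nat_lit 1), (nat_lit 0), (nat_lit 3)⟩) (BT.leaf ⟨[(nat_lit 6), (nat_lit 1), (nat_lit 6), (nat_lit 1)], (nat_lit 11), (nat_lit 0), (nat_lit 0), (nat_lit 3)⟩))) (BT.node (nat_lit 34) (BT.node (nat_lit 33) (BT.leaf ⟨[(nat_lit 5), (nat_lit 3), (nat_lit 4), (nat_lit 3), (nat_lit 4)], (nat_lit 6), (nat_lit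 4), (nat_lit 0), (nat_lit 3)⟩) (BT.leaf ⟨[(nat_lit 3), (nat_lit 5), (nat_lit 4), (nat_lit 3), (nat_lit 4)], (nat_lit 35), (nat_lit 4), (nat_lit 0), (nat_lit 3)⟩)) (BT.node (nat_lit 35) (BT.leaf ⟨[(nat_lit 4), (nat_lit 3), (nat_lit 4), (nat_lit 3), (nat_lit 5)], (nat_lit 35), (nat_lit 1), (nat_lit 0), (nat_lit 3)⟩) (BT.leaf ⟨[(nat_lit 7), (nat_lit 6), (nat_lit 7), (nat_lit 5), (nat_lit 6)], (nat_lit 21), (nat_lit 1), (nat_lit 0), (nat_lit 3)⟩)))) (BT.node (nat_lit 40) (BT.node (nat_lit 38) (BT.node (nat_lit 37) (BT.leaf ⟨[(nat_lit 6), (nat_lit 7), (nat_lit 6), (nat_lit 5), (nat_lit 7)], (nat_lit 50), (nat_lit 2), (nat_lit 0), (nat_lit 3)⟩) (BT.leaf ⟨[(nat_lit 7), (nat_lit 3), (nat_lit 7), (nat_lit 1)], (nat_lit 15), (nat_lit 2), (nat_lit 0), (nat_lit 3)⟩)) (BT.node (nat_lit 39) (BT.leaf ⟨[(nat_lit 7), (nat_lit 1), (nat_lit 7), (nat_lit 3)], (nat_lit 15), (nat_lit 0), (nat_lit 0), (nat_lit 3)⟩) (BT.leaf ⟨[(nat_lit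 7), (nat_lit 4), (nat_lit 7), (nat_lit 2)], (nat_lit 16), (nat_lit 2), (nat_lit 0), (nat_lit 3)⟩))) (BT.node (nat_lit 42) (BT.node (nat_lit 41) (BT.leaf ⟨[(nat_lit 7), (nat_lit 2), (nat_lit 7), (nat_lit 4)], (nat_lit 16), (nat_lit 0), (nat_lit 0), (nat_lit 3)⟩) (BT.leaf ⟨[(nat_lit 5), (nat_lit 6), (nat_lit 7), (nat_lit 6), (nat_lit 7)], (nat_lit 21), (nat_lit 4), (nat_lit 0), (nat_lit 3)⟩)) (BT.node (nat_lit 43) (BT.leaf ⟨[(nat_lit 5), (nat_lit 7), (nat_lit 6), (nat_lit 7), (nat_lit 6)], (nat_lit 50), (nat_lit 0), (nat_lit 0), (nat_lit 3)⟩) (BT.leaf ⟨[(nat_lit 4), (nat_lit 1), (nat_lit 4), (nat_lit 1)], (nat_lit 8), (nat_lit 1), (nat_lit 0), (nat_lit 3)⟩))))) (BT.node (nat_lit 51) (BT.node (nat_lit 47) (BT.node (nat_lit 45) (BT.leaf ⟨[(nat_lit 3), (nat_lit 2), (nat_lit 3), (nat_lit 2)], (nat_lit 9), (nat_lit 1), (nat_lit 0), (nat_lit 3)⟩) (BT.node (nat_lit 46) (BT.leaf ⟨[(nat_lit 4), (nat_lit 1), (nat_lit 6), (nat_lit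 4), (nat_lit 6)], (nat_lit 14), (nat_lit 3), (nat_lit 0), (nat_lit 3)⟩) (BT.leaf ⟨[(nat_lit 6), (nat_lit 4), (nat_lit 6), (nat_lit 4), (nat_lit 1)], (nat_lit 14), (nat_lit 0), (nat_lit 0), (nat_lit 3)⟩))) (BT.node (nat_lit 49) (BT.node (nat_lit 48) (BT.leaf ⟨[(nat_lit 1), (nat_lit 4), (nat_lit 6), (nat_lit 4), (nat_lit 6)], (nat_lit 43), (nat_lit 0), (nat_lit 0), (nat_lit 3)⟩) (BT.leaf ⟨[(nat_lit 6), (nat_lit 2), (nat_lit 6), (nat_lit 3), (nat_lit 2)], (nat_lit 12), (nat_lit 0), (nat_lit 0), (nat_lit 3)⟩)) (BT.node (nat_lit 50) (BT.leaf ⟨[(nat_lit 2), (nat_lit 6), (nat_lit 2), (nat_lit 3), (nat_lit 6)], (nat_lit 41), (nat_lit 3), (nat_lit 0), (nat_lit 3)⟩) (BT.leaf ⟨[(nat_lit 6), (nat_lit 3), (nat_lit 2), (nat_lit 6), (nat_lit 2)], (nat_lit 12), (nat_lit 2), (nat_lit 0), (nat_lit 3)⟩)))) (BT.node (nat_lit 55) (BT.node (nat_lit 53) (BT.node (nat_lit 52) (BT.leaf ⟨[(nat_lit 2), (nat_lit 6), (nat_lit 2), (nat_lit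 6), (nat_lit 3)], (nat_lit 12), (nat_lit 4), (nat_lit 0), (nat_lit 3)⟩) (BT.leaf ⟨[(nat_lit 3), (nat_lit 6), (nat_lit 2), (nat_lit 6), (nat_lit 2)], (nat_lit 41), (nat_lit 1), (nat_lit 0), (nat_lit 3)⟩)) (BT.node (nat_lit 54) (BT.leaf ⟨[(nat_lit 6), (nat_lit 4), (nat_lit 1), (nat_lit 6), (nat_lit 4)], (nat_lit 14), (nat_lit 2), (nat_lit 0), (nat_lit 3)⟩) (BT.leaf ⟨[(nat_lit 1), (nat_lit 6), (nat_lit 4), (nat_lit 6), (nat_lit 4)], (nat_lit 14), (nat_lit 4), (nat_lit 0), (nat_lit 3)⟩))) (BT.node (nat_lit 57) (BT.node (nat_lit 56) (BT.leaf ⟨[(nat_lit 4), (nat_lit 6), (nat_lit 4), (nat_lit 6), (nat_lit 1)], (nat_lit 43), (nat_lit 1), (nat_lit 0), (nat_lit 3)⟩) (BT.leaf ⟨[(nat_lit 2), (nat_lit 5), (nat_lit 1), (nat_lit 2), (nat_lit 1)], (nat_lit 5), (nat_lit 3), (nat_lit 0), (nat_lit 3)⟩)) (BT.node (nat_lit 58) (BT.leaf ⟨[(nat_lit 5), (nat_lit 2), (nat_lit 1), (nat_lit 2), (nat_lit 1)], (nat_lit 34), (nat_lit 0), (nat_lit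 0), (nat_lit 3)⟩) (BT.leaf ⟨[(nat_lit 5), (nat_lit 4), (nat_lit 3), (nat_lit 4), (nat_lit 3)], (nat_lit 35), (nat_lit 0), (nat_lit 0), (nat_lit 3)⟩)))))))
noncomputable def eV001_hcs : List CW := []
noncomputable def eV001_H (x j : Nat) : Bx (Nat → Nat → Nat) := mkH eV001_L eV001_pb.1 eV001_e.get (lmap CW.w eV001_hcs) (nat_lit 128) (nat_lit 129) (nat_lit 8) (nat_lit 256) (nat_lit 16384) (nat_lit 16383) x (eV001_rots.get j)
noncomputable def eV001_F (x b : Nat) : Bool := blkOK eV001_H eV001_ch (nat_lit 129) (nat_lit 256) (nat_lit 64) (nat_lit 8) (nat_lit 255) (nat_lit 19) (nat_lit 524287) x b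

theorem eV001_k0_0 : allFrom (eV001_F (nat_lit 0)) (nat_lit 0) (nat_lit 4) = true := by decide +kernel
theorem eV001_k1_0 : allFrom (eV001_F (nat_lit 1)) (nat_lit 0) (nat_lit 4) = true := by decide +kernel
theorem eV001_k2_0 : allFrom (eV001_F (nat_lit 2)) (nat_lit 0) (nat_lit 4) = true := by decide +kernel
theorem eV001_k3_0 : allFrom (eV001_F (nat_lit 3)) (nat_lit 0) (nat_lit 4) = true := by decide +kernel
theorem eV001_k4_0 : allFrom (eV001_F (nat_lit 4)) (nat_lit 0) (nat_lit 4) = true := by decide +kernel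
theorem eV001_k5_0 : allFrom (eV001_F (nat_lit 5)) (nat_lit 0) (nat_lit 4) = true := by decide +kernel
theorem eV001_k6_0 : allFrom (eV001_F (nat_lit 6)) (nat_lit 0) (nat_lit 4) = true := by decide +kernel
theorem eV001_k7_0 : allFrom (eV001_F (nat_lit 7)) (nat_lit 0) (nat_lit 4) = true := by decide +kernel

theorem eV001_all : Cov eV001_F 4 8 0 := by
  have h := Cov.zero eV001_F 4
  have h := h.blk (b := 4) eV001_k0_0 rfl
  have h := h.next (y := 1) rfl rfl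
  have h := h.blk (b := 4) eV001_k1_0 rfl
  have h := h.next (y := 2) rfl rfl
  have h := h.blk (b := 4) eV001_k2_0 rfl
  have h := h.next (y := 3) rfl rfl
  have h := h.blk (b := 4) eV001_k3_0 rfl
  have h := h.next (y := 4) rfl rfl
  have h := h.blk (b := 4) eV001_k4_0 rfl
  have h := h.next (y := 5) rfl rfl
  have h := h.blk (b := 4) eV001_k5_0 rfl
  have h := h.next (y := 6) rfl rfl
  have h := h.blk (b := 4) eV001_k6_0 rfl
  have h := h.next (y := 7) rfl rfl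
  have h := h.blk (b := 4) eV001_k7_0 rfl
  have h := h.next (y := 8) rfl rfl
  exact h

theorem eV001 : Enum RV001 [] (gensW 7) 128 :=
  ⟨eV001_cols, eV001_ch, eV001_L, eV001_H, eV001_pb.1, eV001_e.get, [(nat_lit 0), (nat_lit 1), (nat_lit 3), (nat_lit 5), (nat_lit 7), (nat_lit 9), (nat_lit 11), (nat_lit 13)], (nat_lit 127), (nat_lit 7), eV001_rots, eV001_hcs,
    (nat_lit 129), (nat_lit 8), (nat_lit 256), (nat_lit 64), (nat_lit 16384), (nat_lit 16383), (nat_lit 8), (nat_lit 255), (nat_lit 19), (nat_lit 524287), (nat_lit 1), (nat_lit 4),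
    fun _ _ => rfl, fun _ => rfl, fun _ _ => rfl, by decide +kernel, eV001_all.1⟩

theorem pV001 : TV001.Pres RV001 (gensW 7) := ⟨CT.ok_spec TV001_ok, lall_iff.1 TV001_rel, by decide +kernel,
  by decide +kernel, by decide +kernel, eV001.bound (ug_rels _) (bound_nil _)⟩

instance instTV001 : TV001.Grp := pV001.grp

noncomputable def SV010 : List (List Nat) := [[(nat_lit 11), (nat_lit 11)],
  [(nat_lit 13), (nat_lit 13), (nat_lit 10)],
  [(nat_lit 11), (nat_lit 13), (nat_lit 11), (nat_lit 13)]]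
noncomputable def RV010 : List (List Nat) := lapp RP (lapp Rka5 (lapp Rro6 SV010))
noncomputable def TV010_c0 : BT (Bx Nat) := (BT.node (nat_lit 1) (BT.leaf (Bx.mk (nat_lit 0x58f5f395acde2662b9ab074a9bb45ed9dbf44c94a44ee12a846ad0a03e78e9a36709922e50a96326088e1e4068c16184880e282840608080))) (BT.leaf (Bx.mk (nat_lit 0xe5cfefcd5afcf8e9d7b77fdff4e8cb936ecf5ef8f0c78b7eecf9b0e0bd7ecd8af5aedcb76a5caa54e74fa14664dab52245850e4498d1e041))))
noncomputable def TV010_c1 : BT (Bx Nat) := (BT.node (nat_lit 1) (BT.leaf (Bx.mk (nat_lit 0x74f19be64fd62b62c17ae7aedbb66ad133970892a446b54a84ea9021347099e247c60b224078e3a6cb962a50319300828406344880e28001))) (BT.leaf (Bx.mk (nat_lit 0xf1e7973ddbff7fd7ab469f9f72e4f5ef1e2efdba75c3838f0dbb33e6b1669539d3ef5f972a449b9762c4b56e1c2af5aa5583028d09b323c6))))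
noncomputable def TV010_c3 : BT (Bx Nat) := (BT.node (nat_lit 1) (BT.leaf (Bx.mk (nat_lit 0x50dd7244ac5a297ccd5396c85d2c5af57b040d5c3f4c9ddbc448d92b2c508901e38b95327cc1e101ce9c36682840624513240468c1600302))) (BT.leaf (Bx.mk (nat_lit 0xe1c7b77cf9b265f9f76ecd5aff7fc383af4e5cf1e2f7ebc79d3a37eeaf5a8d09b325cabf7a3c68b12edc870addab3620c0ab529d29f3a4c8))))
noncomputable def TV010_c5 : BT (Bx Nat) := (BT.node (nat_lit 1) (BT.leaf (Bx.mk (nat_lit 0x66e5d2c5af5f2a68a14b77e997244ac5dbc44e1ab642c97b040ad3a32664d0c1a74f0a28204973e187040a44d9c0460a960248790002c383))) (BT.leaf (Bx.mk (nat_lit 0xf9f7f7febd3973e1c7dfaf1e7b77d3a33e6c9977eedbb356bc3831e2b976f5fab52953a146ddab166b5793223c689167ce9b3254b83021c2))))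
noncomputable def TV010_c7 : BT (Bx Nat) := (BT.node (nat_lit 1) (BT.leaf (Bx.mk (nat_lit 0x56ed3327ce113a4abd8235af14b56c9d9aa7eb18a05cf5ba168e5228304869b382c51f1254b070c7828f200ce823464b81284c8801c30404))) (BT.leaf (Bx.mk (nat_lit 0xddbf469f1e7d7bc78b973e9d70e0fdff5eadbb3e7dcb933e6efdb8f0b76aad4bf7a7ce9b32edc93223c6b362bd6870a9d2a3420c0972a2c4))))
noncomputable def TV010_c9 : BT (Bx Nat) := (BT.node (nat_lit 1) (BT.leaf (Bx.mk (nat_lit 0x7cfd63a56f19b250d13b672e122e46c113d76990b76aa90315eb54a53c7c61a16709921050396326020e064011d36180972a280111e34485))) (BT.leaf (Bx.mk (nat_lit 0xfdffe7df5efc79eddfa75e5cf871ddbf66dd5af469cd9f265c58f061bd7ee5db56ec59ad5ea55a54e8519d3e64d952e4498d1e245850e041))))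
noncomputable def TV010_c11 : BT (Bx Nat) := (BT.node (nat_lit 1) (BT.leaf (Bx.mk (nat_lit 0x3e78e9c3668c982e58a9426488901e3868c16284880e1828406080807ef9ebc76e9cb86ed9ab466c98b05eb96ac56a94a84e992a446890a0))) (BT.leaf (Bx.mk (nat_lit 0xbd7ee5db56ec59ad5ea55a54e8519d3e64d952e4498d1e245850e041fdffe7df5efc79eddfa75e5cf871ddbf66dd5af469cd9f265c58f061))))
noncomputable def TV010_c13 : BT (Bx Nat) := (BT.node (nat_lit 1) (BT.leaf (Bx.mk (nat_lit 0xfffb9fde3f3cf7dfef6faf1db4f5cfd32f2e1af1eed9ab0e8cd93160bf7a9dda372cd79f6e6dab15a4d58f522d2a12e1ce992a0c88d12140))) (BT.leaf (Bx.mk (nat_lit 0x7cfdd3c68d99b964e173058f55bb50dd3b54ca923146bd12d42a50253c7cd1c28589992460710187459b105c3950c28211063c10d0224005))))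
noncomputable def TV010_c14 : BT (Bx Nat) := (BT.node (nat_lit 1) (BT.leaf (Bx.mk (nat_lit 0xfdff97ce1f7c76ddeb67bf3df474cdd7273e3ab16fdbaf069cf971e1bd7e95ca176c569d6a65bb35e4548d56253a32a14f9b2e0498f161c1))) (BT.leaf (Bx.mk (nat_lit 0x7ef9e3a6cd1cb370c982e7ab1dab6ea1aa754998a45e8d6a252852a03e78e1a2c50c93304880e3a30d8b2e20a8714188841e0c6821204280))))
noncomputable def TV010_w : BT (Bx Nat) := (BT.node (nat_lit 1) (BT.leaf (Bx.mk (nat_lit 0xb57310b753100b97300b57300b95300b75300b71300b51300b97100b57100b95100b75100b73100b531000b97000b57000b95000b75000b93000b73000b53000b13000b91000b71000b51000b310000b90000b70000b50000b30000b100000b005731007531000973000573000953000753000713000513000971000571000951000751000731000531000097000057000095000075000093000073000053000013000091000071000051000031000009000007000005000003000001000000))) (BT.leaf (Bx.mk (nat_lit 0xeb7531db75310eb7530db7530eb7510db7510eb7310db7310eb5310db53100eb7500db7500eb7300db7300eb5300db5300eb7100db7100eb5100db5100eb3100db31000eb7000db7000eb5000db5000eb3000db3000eb1000db10000eb0000db0e75310d753100e75300d75300e75100d75100e73100d73100e53100d531000e75000d75000e73000d73000e53000d53000e71000d71000e51000d51000e31000d310000e70000d70000e50000d50000e30000d30000e10000d100000e00000d))))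
noncomputable def TV010_cols : List (BT (Bx Nat)) := [TV010_c0, TV010_c1, TV010_c1, TV010_c3, TV010_c3, TV010_c5, TV010_c5, TV010_c7, TV010_c7, TV010_c9, TV010_c9, TV010_c11, TV010_c11, TV010_c13, TV010_c14]
noncomputable def TV010_ch (x j : Nat) : Bx Nat := chk TV010_cols x j
noncomputable def TV010_wc (_ j : Nat) : Bx Nat := TV010_w.get j
noncomputable def TV010 : CT := ⟨(nat_lit 128), (nat_lit 7), (nat_lit 127), TV010_ch, (nat_lit 24), (nat_lit 16777215), TV010_wc, (nat_lit 32766)⟩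
theorem TV010_ok : TV010.ok = true := by decide +kernel
theorem TV010_rel : lall TV010.relOK RV010 = true := by decide +kernel
noncomputable def eV010_c0 : BT (Bx Nat) := (BT.leaf (Bx.mk (nat_lit 0x0)))
noncomputable def eV010_c1 : BT (Bx Nat) := (BT.leaf (Bx.mk (nat_lit 0x20463408c8511d4a23b14473288e461170c22ea9a53532a8641f4c83f10452320f8641ed4d21a9944108b0e699dccb3344386886eb69314d19a9934688dcd11b4cd312597f4b50051195021e3da2b7b254a4100ecbc9da7a61ea0e6921cca38d06f8084691144e21b24477488f0541d14d2b2c45b6884cd1095c224a846a50840a1085fea6b445a688b2c11096894a4470488e2d411968142445e7b42ef64596793a4f617a22af404de78939a6c732d683d556d1124468488d2d6879a20ebda107b21ed1069ad0cb4418708c0e117d4222a84415087ae693dcca73041f882aea10d56ca52da4b6a048c10c9c798bda097b210e44b98216b902c7087ee10f9c21dac40a70874e10e60201b84307085ef441dad033d00579e08c9851c20e3841b7081cc1035c2063840b8822301006208100000)))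
noncomputable def eV010_c2 : BT (Bx Nat) := (BT.leaf (Bx.mk (nat_lit 0x3dc607b6bef7169edacb056e60adaf713deda72856c50ad6f7121eda398556638cca6d9dee1fbdb3e20aa2d71f1adbdadc785b6ee914edee183db2f48ae4b15cd6aa4bdc2b7b65476d6da298b858070afed14b1ee133db2530ac4e15f9c2bebd52450a6a751d2029139c387366f0147caa379454270af4e15e5caa3285457b838f6c6d42b2b857670aead15356e263dc177b62c67141ae0f3451d70ae2e15c1ae0cb4518538d4c54c98a16b455468aa7014396dabbdc107b61eb14e9ca30b856970ad0e14a5629cb955e70ac8e158df9173d50c7a816e1575c2ae3855880a0f10555ee04bdb08882a4c1505ca203854b70a94e1455829eb953c70a88e150df90d35c067aa0af5011c286b853470a67104d9f408b852870a4f01409c290b852088246c1451c289b851280a031042a208180000)))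
noncomputable def eV010_c3 : BT (Bx Nat) := (BT.leaf (Bx.mk (nat_lit 0x2067040ce2519eca33e1b07d360fce49e1c9bbb467a68cf2c49cd89b94064658cecb19d5383fa708030cca61964c32d2c64f58c9cb48d56325ac64a5248ea4d20ec37a9243526884196203142923e5267eac0e9892a3135380c4874db4e9371536276876719352322ac65d58cb8549096c24bd81f624d8c4dad0c2b2d222624d2c4da14328a466648ccf105d149aaa466348cc841949781e4061348cbe91981a90a2864168cae9197a0308b462668c4ae18a543353462168c40bd0b203063461c68c36f6039a906a863250c2ca185df89b4416180c14e48e1c99bc415b70c2aa1931c91a3933370ca0b18620302b92307265ef601da9033361e5a654b48adf891b063d882810180e209cbd2097a610e18b98316c413180c051049dc3083860f70c34c1866208ec0601882251042e208200000)))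
noncomputable def eV010_c4 : BT (Bx Nat) := (BT.leaf (Bx.mk (nat_lit 0x2c76958ed0d1d75a3ae3d6547aea6c1dd983ba9d6723aee6d59e9abbc9ab5530eee61de163a5ac74a256aef58e1eb9bb966772ecc91d418b403177f68ed8d1dae0394b473468e6671d15239cb473068e5f01c9dcb3f3977d40e98f5899eb92c072318edf01c88a3ba3877c70ef6eacd9439aa976a72c90e5d1e038d2795b62ce2c5dc19d973474f68e9d01c550bb13472168e40e1cedab0a32b3d68e38d1c6d63a0407127d28501c4555b0b876e70edad1d496ba8b966472ec6d58359c96b966072ebeb1d256398c070b7ac20f5c3e20b2c070a882bce1d69c3acc0707882b110559cb223974370e1cd5819c38cb963f72e7d10535fc0ec07047ac12f5c2220a33074180e07104f2209d3872b70e54fa47d83994070288259104a1c38bb871688248c1c7a0380c41188822710432208280000)))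
noncomputable def eV010_c5 : BT (Bx Nat) := (BT.leaf (Bx.mk (nat_lit 0x3887f79d00e21f5e73f3887b79cf8e21e5e73d3887779cf0e21d5e73b10858710e4f39cdc4383ce71110a4e21b5e7373886b79cd8b20b9c4343ce69710ccf399ce4213886379cc872119042f3885f79cc093985c42e3ce5d4109ae2165e72d163745106c920912411b885379ca838dbd640fb0e497109cf393d31adac81a71094f392d64283884779c9088d89640ab884379c8888d960409aa33c7107cf38fe04092484061c52c8ca19193b883779c70b8d5d64073883379c690203151963882f79c60c39aa0405a483171054f38ad641dac83a59072e2095e71328e56546aab201dc4103ce2161ca302015c40c3881b79c38c393204023f71d7102cf385d8722c080388283104f5c4053880f79c20c38d60401441328825af9c45c4043ce0961c4502006208f441198822910436208300000)))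
noncomputable def eV010_c6 : BT (Bx Nat) := (BT.leaf (Bx.mk (nat_lit 0x1097e212fa57600af3f8dd711bce0c79a18eb4bde4a7ba96c79914eb1a6c5e7bc86f751044be0897b81278e797dceb03de2f7ba61024b564bcac97a7bc54f74ace4a0ac976492eb024a05aac3496d692dc825d1cf19b9d3475862e78f9ce9f8496176a72924c9249ebde207ba4212502048f4091d7bc36f7471849640919712eee25e2048c3de167ba2ee24ea048a38972712e70244d0f3289d52692b2d25694f2ac416f81222fa919a4abbde0f7ba20e249e0486b495c692baa7959a4adb896b712d90242e20b537c4d712cce259e0485441627e66cf7821ee84b890c7122502419c4a9b89548120b1054620a83894e7129f0241220a6441497128ee25220481c414588284fcc8e209db8937712710240a209abea248825d104a5c492b8926812031048a208fc411a8822b1043a208380000)))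
noncomputable def eV010_c7 : BT (Bx Nat) := (BT.leaf (Bx.mk (nat_lit 0x40b5e498c302d60a5ba40b52196df02d3525adc0b496bea102d1905b11a27e8168482d96059e24b40244f902cd965abc0b2e616d4d7db2059624b3181652d7cece5b9c0b285967472dd9514040b2759673105fe059228b56416f502c8d45aac417d516dcb9175712d40b1f616a3105edafaa32f7881634c2d3220bcb5f4f81630d2c7620bbc0b156168b105d5afa440b1371683105c9e62228b7181624e2cf5e61fc417065ecec2d9185b040b0e6166b105b5af9c40b0c71664f30d145b4c0b0b7165b105ade6184416881614d2c4620b344163882bf02c1d85914415c882b2d7c9a0582b8b1e882a6f3085c625c0b047163310539e60e4414a81606e2c5220a3bcc1788287104f9c615c0b027161b104dde608441338825f104aa0580b8b068824af302620904411b8822d1043e208400000)))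
noncomputable def eV010_c8 : BT (Bx Nat) := (BT.leaf (Bx.mk (nat_lit 0x24a61814bc529d2052c0ca6f814a49356e0526aca50814928358a05231a17d41acb0290972a040a3c242f6b355e051b30a6a8145cd81ad7d18c0a2c59477028a532b93613a81450981d5053fb6d398144f10601452b40a24540f2a29560511c417e674dab957170acb0a518143f105f1b029b0a77614990286a20bd3604e6943b0286220bc30a458142b105d9b023b8a4181427105cde6a1aae707147b02849e69f44171614cccb98d972fb0a358141d105b9b01bb8a3281418f34cd573438a2d81417105b1e697c4169694230282a20b3c4164882c0c288a0503c415d882b4d8095c50f40a05882a8f3481c6a538a19814091053de68dc414b714290280e20a43cd1688289104fdc69538a0d81405104e1e687c413488261104adc50340a018824cf34222090c411c8822f10442208480000)))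
noncomputable def eV010_p : BT (Bx Nat) := (BT.leaf (Bx.mk (nat_lit 0x15788abc3c58222c0f14888a43c4d22268f12488923c4622230f118388444421e1e110f078783436221b0f0b8885c3c2d1a16110b0785244291e14890a088503c281a140709c884e3c27119210c9076481b2321918ec8c46460b22119104c7c863e3b1f098f0cc746634431a1d8d08c64663043181d8c0cc54862a3b15118a0cc4c86263b1319898ac4c362443121d890ac4846223311118886c38861c3b0e09868cc3086183b0c158606c2c86163b0b19858ac2c4614430a1d850cc2846141a0721038e81c440e1206190290814740a320515028681084083a0419020a810440642031d018c80c540622030d018280884043a0219010a80844041a0208809040472023101148088404320211010400000000)))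
noncomputable def eV010_e : BT Nat := BT.leaf (nat_lit 0)
noncomputable def eV010_cols : List (BT (Bx Nat)) := [eV010_c0, eV010_c1, eV010_c2, eV010_c3, eV010_c4, eV010_c5, eV010_c6, eV010_c7, eV010_c8]
noncomputable def eV010_ch (x j : Nat) : Bx Nat := chunkG eV010_cols (nat_lit 1) x j
noncomputable def eV010_L (x : Nat) : Bx (Nat → Nat) := lookG eV010_ch (nat_lit 8) (nat_lit 255) (nat_lit 19) (nat_lit 524287) x
noncomputable def eV010_pc (_ j : Nat) : Bx Nat := eV010_p.get j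
noncomputable def eV010_pb : Bx (Nat → Nat) := lookG eV010_pc (nat_lit 8) (nat_lit 255) (nat_lit 17) (nat_lit 131071) (nat_lit 0)
noncomputable def eV010_rots : BT CW := (BT.node (nat_lit 30) (BT.node (nat_lit 15) (BT.node (nat_lit 7) (BT.node (nat_lit 3) (BT.node (nat_lit 1) (BT.leaf ⟨[], (nat_lit 1000000), (nat_lit 0), (nat_lit 0), (nat_lit 0)⟩) (BT.node (nat_lit 2) (BT.leaf ⟨[], (nat_lit 1000000), (nat_lit 0), (nat_lit 0), (nat_lit 1)⟩) (BT.leaf ⟨[], (nat_lit 1000000), (nat_lit 0), (nat_lit 0), (nat_lit 2)⟩))) (BT.node (nat_lit 5) (BT.node (nat_lit 4) (BT.leaf ⟨[(nat_lit 1), (nat_lit 1)], (nat_lit 0), (nat_lit 0), (nat_lit 0), (nat_lit 3)⟩) (BT.leaf ⟨[(nat_lit 2), (nat_lit 2)], (nat_lit 1), (nat_lit 0), (nat_lit 0), (nat_lit 3)⟩)) (BT.node (nat_lit 6) (BT.leaf ⟨[(nat_lit 3), (nat_lit 3)], (nat_lit 2), (nat_lit 0), (nat_lit 0), (nat_lit 3)⟩) (BT.leaf ⟨[(nat_lit 4), (nat_lit 4)], (nat_lit 3), (nat_lit 0), (nat_lit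 0), (nat_lit 3)⟩)))) (BT.node (nat_lit 11) (BT.node (nat_lit 9) (BT.node (nat_lit 8) (BT.leaf ⟨[(nat_lit 5), (nat_lit 5)], (nat_lit 4), (nat_lit 0), (nat_lit 0), (nat_lit 3)⟩) (BT.leaf ⟨[(nat_lit 6), (nat_lit 6)], (nat_lit 19), (nat_lit 0), (nat_lit 0), (nat_lit 3)⟩)) (BT.node (nat_lit 10) (BT.leaf ⟨[(nat_lit 8), (nat_lit 7)], (nat_lit 22), (nat_lit 1), (nat_lit 0), (nat_lit 3)⟩) (BT.leaf ⟨[(nat_lit 7), (nat_lit 8)], (nat_lit 22), (nat_lit 0), (nat_lit 0), (nat_lit 3)⟩))) (BT.node (nat_lit 13) (BT.node (nat_lit 12) (BT.leaf ⟨[(nat_lit 7), (nat_lit 7), (nat_lit 5)], (nat_lit 20), (nat_lit 0), (nat_lit 0), (nat_lit 3)⟩) (BT.leaf ⟨[(nat_lit 8), (nat_lit 8), (nat_lit 5)], (nat_lit 49), (nat_lit 1), (nat_lit 0), (nat_lit 3)⟩)) (BT.node (nat_lit 14) (BT.leaf ⟨[(nat_lit 5), (nat_lit 7), (nat_lit 7)], (nat_lit 20), (nat_lit 2), (nat_lit 0), (nat_lit 3)⟩) (BT.leaf ⟨[(nat_lit 1), (nat_lit 3), (nat_lit 1), (nat_lit 3)], (nat_lit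 7), (nat_lit 0), (nat_lit 0), (nat_lit 3)⟩))))) (BT.node (nat_lit 22) (BT.node (nat_lit 18) (BT.node (nat_lit 16) (BT.leaf ⟨[(nat_lit 1), (nat_lit 4), (nat_lit 1), (nat_lit 4)], (nat_lit 8), (nat_lit 0), (nat_lit 0), (nat_lit 3)⟩) (BT.node (nat_lit 17) (BT.leaf ⟨[(nat_lit 1), (nat_lit 6), (nat_lit 1), (nat_lit 6)], (nat_lit 11), (nat_lit 1), (nat_lit 0), (nat_lit 3)⟩) (BT.leaf ⟨[(nat_lit 3), (nat_lit 7), (nat_lit 1), (nat_lit 8)], (nat_lit 15), (nat_lit 3), (nat_lit 0), (nat_lit 3)⟩))) (BT.node (nat_lit 20) (BT.node (nat_lit 19) (BT.leaf ⟨[(nat_lit 3), (nat_lit 8), (nat_lit 1), (nat_lit 7)], (nat_lit 17), (nat_lit 1), (nat_lit 0), (nat_lit 3)⟩) (BT.leaf ⟨[(nat_lit 2), (nat_lit 3), (nat_lit 2), (nat_lit 3)], (nat_lit 9), (nat_lit 0), (nat_lit 0), (nat_lit 3)⟩)) (BT.node (nat_lit 21) (BT.leaf ⟨[(nat_lit 2), (nat_lit 4), (nat_lit 2), (nat_lit 4)], (nat_lit 10), (nat_lit 0), (nat_lit 0), (nat_lit 3)⟩) (BT.leaf ⟨[(nat_lit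 4), (nat_lit 7), (nat_lit 2), (nat_lit 8)], (nat_lit 16), (nat_lit 3), (nat_lit 0), (nat_lit 3)⟩)))) (BT.node (nat_lit 26) (BT.node (nat_lit 24) (BT.node (nat_lit 23) (BT.leaf ⟨[(nat_lit 4), (nat_lit 8), (nat_lit 2), (nat_lit 7)], (nat_lit 18), (nat_lit 1), (nat_lit 0), (nat_lit 3)⟩) (BT.leaf ⟨[(nat_lit 3), (nat_lit 6), (nat_lit 3), (nat_lit 6)], (nat_lit 13), (nat_lit 1), (nat_lit 0), (nat_lit 3)⟩)) (BT.node (nat_lit 25) (BT.leaf ⟨[(nat_lit 1), (nat_lit 8), (nat_lit 3), (nat_lit 7)], (nat_lit 15), (nat_lit 1), (nat_lit 0), (nat_lit 3)⟩) (BT.leaf ⟨[(nat_lit 1), (nat_lit 7), (nat_lit 3), (nat_lit 8)], (nat_lit 17), (nat_lit 3), (nat_lit 0), (nat_lit 3)⟩))) (BT.node (nat_lit 28) (BT.node (nat_lit 27) (BT.leaf ⟨[(nat_lit 2), (nat_lit 8), (nat_lit 4), (nat_lit 7)], (nat_lit 16), (nat_lit 1), (nat_lit 0), (nat_lit 3)⟩) (BT.leaf ⟨[(nat_lit 2), (nat_lit 7), (nat_lit 4), (nat_lit 8)], (nat_lit 18), (nat_lit 3), (nat_lit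 0), (nat_lit 3)⟩)) (BT.node (nat_lit 29) (BT.leaf ⟨[(nat_lit 6), (nat_lit 7), (nat_lit 6), (nat_lit 7)], (nat_lit 21), (nat_lit 0), (nat_lit 0), (nat_lit 3)⟩) (BT.leaf ⟨[(nat_lit 6), (nat_lit 8), (nat_lit 6), (nat_lit 8)], (nat_lit 50), (nat_lit 1), (nat_lit 0), (nat_lit 3)⟩)))))) (BT.node (nat_lit 45) (BT.node (nat_lit 37) (BT.node (nat_lit 33) (BT.node (nat_lit 31) (BT.leaf ⟨[(nat_lit 7), (nat_lit 6), (nat_lit 7), (nat_lit 6)], (nat_lit 21), (nat_lit 1), (nat_lit 0), (nat_lit 3)⟩) (BT.node (nat_lit 32) (BT.leaf ⟨[(nat_lit 8), (nat_lit 6), (nat_lit 8), (nat_lit 6)], (nat_lit 50), (nat_lit 0), (nat_lit 0), (nat_lit 3)⟩) (BT.leaf ⟨[(nat_lit 8), (nat_lit 4), (nat_lit 7), (nat_lit 2)], (nat_lit 16), (nat_lit 2), (nat_lit 0), (nat_lit 3)⟩))) (BT.node (nat_lit 35) (BT.node (nat_lit 34) (BT.leaf ⟨[(nat_lit 7), (nat_lit 4), (nat_lit 8), (nat_lit 2)], (nat_lit 18), (nat_lit 0), (nat_lit 0), (nat_lit 3)⟩) (BT.leaf ⟨[(nat_lit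 5), (nat_lit 8), (nat_lit 8)], (nat_lit 49), (nat_lit 0), (nat_lit 0), (nat_lit 3)⟩)) (BT.node (nat_lit 36) (BT.leaf ⟨[(nat_lit 7), (nat_lit 2), (nat_lit 8), (nat_lit 4)], (nat_lit 16), (nat_lit 0), (nat_lit 0), (nat_lit 3)⟩) (BT.leaf ⟨[(nat_lit 8), (nat_lit 2), (nat_lit 7), (nat_lit 4)], (nat_lit 18), (nat_lit 2), (nat_lit 0), (nat_lit 3)⟩)))) (BT.node (nat_lit 41) (BT.node (nat_lit 39) (BT.node (nat_lit 38) (BT.leaf ⟨[(nat_lit 1), (nat_lit 2), (nat_lit 5), (nat_lit 1), (nat_lit 2)], (nat_lit 5), (nat_lit 2), (nat_lit 0), (nat_lit 3)⟩) (BT.leaf ⟨[(nat_lit 5), (nat_lit 1), (nat_lit 2), (nat_lit 1), (nat_lit 2)], (nat_lit 5), (nat_lit 4), (nat_lit 0), (nat_lit 3)⟩)) (BT.node (nat_lit 40) (BT.leaf ⟨[(nat_lit 2), (nat_lit 1), (nat_lit 2), (nat_lit 1), (nat_lit 5)], (nat_lit 34), (nat_lit 1), (nat_lit 0), (nat_lit 3)⟩) (BT.leaf ⟨[(nat_lit 4), (nat_lit 6), (nat_lit 4), (nat_lit 1), (nat_lit 6)], (nat_lit 14), (nat_lit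 1), (nat_lit 0), (nat_lit 3)⟩))) (BT.node (nat_lit 43) (BT.node (nat_lit 42) (BT.leaf ⟨[(nat_lit 6), (nat_lit 4), (nat_lit 6), (nat_lit 1), (nat_lit 4)], (nat_lit 43), (nat_lit 2), (nat_lit 0), (nat_lit 3)⟩) (BT.leaf ⟨[(nat_lit 4), (nat_lit 2), (nat_lit 4), (nat_lit 2)], (nat_lit 10), (nat_lit 1), (nat_lit 0), (nat_lit 3)⟩)) (BT.node (nat_lit 44) (BT.leaf ⟨[(nat_lit 6), (nat_lit 3), (nat_lit 6), (nat_lit 3)], (nat_lit 13), (nat_lit 0), (nat_lit 0), (nat_lit 3)⟩) (BT.leaf ⟨[(nat_lit 8), (nat_lit 3), (nat_lit 7), (nat_lit 1)], (nat_lit 15), (nat_lit 2), (nat_lit 0), (nat_lit 3)⟩))))) (BT.node (nat_lit 53) (BT.node (nat_lit 49) (BT.node (nat_lit 47) (BT.node (nat_lit 46) (BT.leaf ⟨[(nat_lit 8), (nat_lit 5), (nat_lit 8)], (nat_lit 49), (nat_lit 2), (nat_lit 0), (nat_lit 3)⟩) (BT.leaf ⟨[(nat_lit 7), (nat_lit 5), (nat_lit 7)], (nat_lit 20), (nat_lit 1), (nat_lit 0), (nat_lit 3)⟩)) (BT.node (nat_lit 48) (BT.leaf ⟨[(nat_lit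 3), (nat_lit 2), (nat_lit 3), (nat_lit 2)], (nat_lit 9), (nat_lit 1), (nat_lit 0), (nat_lit 3)⟩) (BT.leaf ⟨[(nat_lit 3), (nat_lit 2), (nat_lit 6), (nat_lit 2), (nat_lit 6)], (nat_lit 12), (nat_lit 3), (nat_lit 0), (nat_lit 3)⟩))) (BT.node (nat_lit 51) (BT.node (nat_lit 50) (BT.leaf ⟨[(nat_lit 2), (nat_lit 6), (nat_lit 3), (nat_lit 2), (nat_lit 6)], (nat_lit 12), (nat_lit 1), (nat_lit 0), (nat_lit 3)⟩) (BT.leaf ⟨[(nat_lit 6), (nat_lit 2), (nat_lit 6), (nat_lit 2), (nat_lit 3)], (nat_lit 41), (nat_lit 2), (nat_lit 0), (nat_lit 3)⟩)) (BT.node (nat_lit 52) (BT.leaf ⟨[(nat_lit 3), (nat_lit 1), (nat_lit 3), (nat_lit 1)], (nat_lit 7), (nat_lit 1), (nat_lit 0), (nat_lit 3)⟩) (BT.leaf ⟨[(nat_lit 6), (nat_lit 1), (nat_lit 6), (nat_lit 1)], (nat_lit 11), (nat_lit 0), (nat_lit 0), (nat_lit 3)⟩)))) (BT.node (nat_lit 57) (BT.node (nat_lit 55) (BT.node (nat_lit 54) (BT.leaf ⟨[(nat_lit 3), (nat_lit 4), (nat_lit 5), (nat_lit 3),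 (nat_lit 4)], (nat_lit 6), (nat_lit 2), (nat_lit 0), (nat_lit 3)⟩) (BT.leaf ⟨[(nat_lit 5), (nat_lit 3), (nat_lit 4), (nat_lit 3), (nat_lit 4)], (nat_lit 6), (nat_lit 4), (nat_lit 0), (nat_lit 3)⟩)) (BT.node (nat_lit 56) (BT.leaf ⟨[(nat_lit 4), (nat_lit 3), (nat_lit 4), (nat_lit 3), (nat_lit 5)], (nat_lit 35), (nat_lit 1), (nat_lit 0), (nat_lit 3)⟩) (BT.leaf ⟨[(nat_lit 4), (nat_lit 1), (nat_lit 4), (nat_lit 1)], (nat_lit 8), (nat_lit 1), (nat_lit 0), (nat_lit 3)⟩))) (BT.node (nat_lit 59) (BT.node (nat_lit 58) (BT.leaf ⟨[(nat_lit 8), (nat_lit 1), (nat_lit 7), (nat_lit 3)], (nat_lit 17), (nat_lit 2), (nat_lit 0), (nat_lit 3)⟩) (BT.leaf ⟨[(nat_lit 4), (nat_lit 1), (nat_lit 6), (nat_lit 4), (nat_lit 6)], (nat_lit 14), (nat_lit 3), (nat_lit 0), (nat_lit 3)⟩)) (BT.node (nat_lit 60) (BT.leaf ⟨[(nat_lit 6), (nat_lit 4), (nat_lit 6), (nat_lit 4), (nat_lit 1)], (nat_lit 14), (nat_lit 0), (nat_lit 0), (nat_lit 3)⟩) (BT.leaf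 ⟨[(nat_lit 1), (nat_lit 4), (nat_lit 6), (nat_lit 4), (nat_lit 6)], (nat_lit 43), (nat_lit 0), (nat_lit 0), (nat_lit 3)⟩)))))))
noncomputable def eV010_hcs : List CW := []
noncomputable def eV010_H (x j : Nat) : Bx (Nat → Nat → Nat) := mkH eV010_L eV010_pb.1 eV010_e.get (lmap CW.w eV010_hcs) (nat_lit 128) (nat_lit 129) (nat_lit 9) (nat_lit 256) (nat_lit 16384) (nat_lit 16383) x (eV010_rots.get j)
noncomputable def eV010_F (x b : Nat) : Bool := blkOK eV010_H eV010_ch (nat_lit 129) (nat_lit 256) (nat_lit 64) (nat_lit 8) (nat_lit 255) (nat_lit 19) (nat_lit 524287) x b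

theorem eV010_k0_0 : allFrom (eV010_F (nat_lit 0)) (nat_lit 0) (nat_lit 4) = true := by decide +kernel
theorem eV010_k1_0 : allFrom (eV010_F (nat_lit 1)) (nat_lit 0) (nat_lit 4) = true := by decide +kernel
theorem eV010_k2_0 : allFrom (eV010_F (nat_lit 2)) (nat_lit 0) (nat_lit 4) = true := by decide +kernel
theorem eV010_k3_0 : allFrom (eV010_F (nat_lit 3)) (nat_lit 0) (nat_lit 4) = true := by decide +kernel
theorem eV010_k4_0 : allFrom (eV010_F (nat_lit 4)) (nat_lit 0) (nat_lit 4) = true := by decide +kernel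
theorem eV010_k5_0 : allFrom (eV010_F (nat_lit 5)) (nat_lit 0) (nat_lit 4) = true := by decide +kernel
theorem eV010_k6_0 : allFrom (eV010_F (nat_lit 6)) (nat_lit 0) (nat_lit 4) = true := by decide +kernel
theorem eV010_k7_0 : allFrom (eV010_F (nat_lit 7)) (nat_lit 0) (nat_lit 4) = true := by decide +kernel
theorem eV010_k8_0 : allFrom (eV010_F (nat_lit 8)) (nat_lit 0) (nat_lit 4) = true := by decide +kernel

theorem eV010_all : Cov eV010_F 4 9 0 := by
  have h := Cov.zero eV010_F 4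
  have h := h.blk (b := 4) eV010_k0_0 rfl
  have h := h.next (y := 1) rfl rfl
  have h := h.blk (b := 4) eV010_k1_0 rfl
  have h := h.next (y := 2) rfl rfl
  have h := h.blk (b := 4) eV010_k2_0 rfl
  have h := h.next (y := 3) rfl rfl
  have h := h.blk (b := 4) eV010_k3_0 rfl
  have h := h.next (y := 4) rfl rfl
  have h := h.blk (b := 4) eV010_k4_0 rfl
  have h := h.next (y := 5) rfl rfl
  have h := h.blk (b := 4) eV010_k5_0 rfl
  have h := h.next (y := 6) rfl rfl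
  have h := h.blk (b := 4) eV010_k6_0 rfl
  have h := h.next (y := 7) rfl rfl
  have h := h.blk (b := 4) eV010_k7_0 rfl
  have h := h.next (y := 8) rfl rfl
  have h := h.blk (b := 4) eV010_k8_0 rfl
  have h := h.next (y := 9) rfl rfl
  exact h

theorem eV010 : Enum RV010 [] (gensW 7) 128 :=
  ⟨eV010_cols, eV010_ch, eV010_L, eV010_H, eV010_pb.1, eV010_e.get, [(nat_lit 0), (nat_lit 1), (nat_lit 3), (nat_lit 5), (nat_lit 7), (nat_lit 9), (nat_lit 11), (nat_lit 13), (nat_lit 14)], (nat_lit 63), (nat_lit 7), eV010_rots, eV010_hcs,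
    (nat_lit 129), (nat_lit 9), (nat_lit 256), (nat_lit 64), (nat_lit 16384), (nat_lit 16383), (nat_lit 8), (nat_lit 255), (nat_lit 19), (nat_lit 524287), (nat_lit 1), (nat_lit 4),
    fun _ _ => rfl, fun _ => rfl, fun _ _ => rfl, by decide +kernel, eV010_all.1⟩

theorem pV010 : TV010.Pres RV010 (gensW 7) := ⟨CT.ok_spec TV010_ok, lall_iff.1 TV010_rel, by decide +kernel,
  by decide +kernel, by decide +kernel, eV010.bound (ug_rels _) (bound_nil _)⟩

instance instTV010 : TV010.Grp := pV010.grp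

noncomputable def SV011 : List (List Nat) := [[(nat_lit 11), (nat_lit 11)],
  [(nat_lit 13), (nat_lit 13), (nat_lit 10)],
  [(nat_lit 11), (nat_lit 13), (nat_lit 11), (nat_lit 13), (nat_lit 10)]]
noncomputable def RV011 : List (List Nat) := lapp RP (lapp Rka5 (lapp Rro6 SV011))
noncomputable def TV011_c0 : BT (Bx Nat) := (BT.node (nat_lit 1) (BT.leaf (Bx.mk (nat_lit 0x58f5f395acde2662b9ab074a9bb45ed9dbf44c94a44ee12a846ad0a03e78e9a36709922e50a96326088e1e4068c16184880e282840608080))) (BT.leaf (Bx.mk (nat_lit 0xe7cbe7dd7abc79ebd3bf6fffb469c99766df7eb871c58f76fcd9f061bd7ecd8af5aedcb76a5caa54e74fa14664dab52245850e4498d1e041))))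
noncomputable def TV011_c1 : BT (Bx Nat) := (BT.node (nat_lit 1) (BT.leaf (Bx.mk (nat_lit 0x74f19be64fd62b62c17ae7aedbb66ad133970892a446b54a84ea9021347099e247c60b224078e3a6cb962a50319300828406344880e28001))) (BT.leaf (Bx.mk (nat_lit 0xf1e7973ddbff7fd7ab469f9f72e4f5ef1e2efdba75c3838f0dbb33e6b1669539d3ef5f972a449b9762c4b56e1c2af5aa5583028d09b323c6))))
noncomputable def TV011_c3 : BT (Bx Nat) := (BT.node (nat_lit 1) (BT.leaf (Bx.mk (nat_lit 0x50dd7244ac5a297ccd5396c85d2c5af57b040d5c3f4c9ddbc448d92b2c508901e38b95327cc1e101ce9c36682840624513240468c1600302))) (BT.leaf (Bx.mk (nat_lit 0xe1c7b77cf9b265f9f76ecd5aff7fc383af4e5cf1e2f7ebc79d3a37eeaf5a8d09b325cabf7a3c68b12edc870addab3620c0ab529d29f3a4c8))))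
noncomputable def TV011_c5 : BT (Bx Nat) := (BT.node (nat_lit 1) (BT.leaf (Bx.mk (nat_lit 0x66e5d2c5af5f2a68a14b77e997244ac5dbc44e1ab642c97b040ad3a32664d0c1a74f0a28204973e187040a44d9c0460a960248790002c383))) (BT.leaf (Bx.mk (nat_lit 0xf9f7f7febd3973e1c7dfaf1e7b77d3a33e6c9977eedbb356bc3831e2b976f5fab52953a146ddab166b5793223c689167ce9b3254b83021c2))))
noncomputable def TV011_c7 : BT (Bx Nat) := (BT.node (nat_lit 1) (BT.leaf (Bx.mk (nat_lit 0x56ed3327ce113a4abd8235af14b56c9d9aa7eb18a05cf5ba168e5228304869b382c51f1254b070c7828f200ce823464b81284c8801c30404))) (BT.leaf (Bx.mk (nat_lit 0xddbf469f1e7d7bc78b973e9d70e0fdff5eadbb3e7dcb933e6efdb8f0b76aad4bf7a7ce9b32edc93223c6b362bd6870a9d2a3420c0972a2c4))))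
noncomputable def TV011_c9 : BT (Bx Nat) := (BT.node (nat_lit 1) (BT.leaf (Bx.mk (nat_lit 0x7cfd63a56f19b250d13b672e122e46c113d76990b76aa90315eb54a53c7c61a16709921050396326020e064011d36180972a280111e34485))) (BT.leaf (Bx.mk (nat_lit 0xfdffe7df5efc79eddfa75e5cf871ddbf66dd5af469cd9f265c58f061bd7ee5db56ec59ad5ea55a54e8519d3e64d952e4498d1e245850e041))))
noncomputable def TV011_c11 : BT (Bx Nat) := (BT.node (nat_lit 1) (BT.leaf (Bx.mk (nat_lit 0x3e78e9c3668c982e58a9426488901e3868c16284880e1828406080807ef9ebc76e9cb86ed9ab466c98b05eb96ac56a94a84e992a446890a0))) (BT.leaf (Bx.mk (nat_lit 0xbf7aedcb76acd8af5aad4a74a8d09f3a6cc972a4c88f1a2c4870a0c0fffbefcf7ebcf8efdbaf4e7cb8f0dfbb6ecd7ab4e8cf9b2e4c78b0e0))))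
noncomputable def TV011_c13 : BT (Bx Nat) := (BT.node (nat_lit 1) (BT.leaf (Bx.mk (nat_lit 0xfffb9fde3f3cf7dfef6faf1db4f5cfd32f2e1af1eed9ab0e8cd93160bf7a9dda372cd79f6e6dab15a4d58f522d2a12e1ce992a0c88d12140))) (BT.leaf (Bx.mk (nat_lit 0x7cfdd3c68d99b964e173058f55bb50dd3b54ca923146bd12d42a50253c7cd1c28589992460710187459b105c3950c28211063c10d0224005))))
noncomputable def TV011_c14 : BT (Bx Nat) := (BT.node (nat_lit 1) (BT.leaf (Bx.mk (nat_lit 0xfdff97ce1f7c76ddeb67bf3df474cdd7273e3ab16fdbaf069cf971e1bd7e95ca176c569d6a65bb35e4548d56253a32a14f9b2e0498f161c1))) (BT.leaf (Bx.mk (nat_lit 0x7ef9e3a6cd1cb370c982e7ab1dab6ea1aa754998a45e8d6a252852a03e78e1a2c50c93304880e3a30d8b2e20a8714188841e0c6821204280))))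
noncomputable def TV011_w : BT (Bx Nat) := (BT.node (nat_lit 1) (BT.leaf (Bx.mk (nat_lit 0xb57310b753100b97300b57300b95300b75300b71300b51300b97100b57100b95100b75100b73100b531000b97000b57000b95000b75000b93000b73000b53000b13000b91000b71000b51000b310000b90000b70000b50000b30000b100000b005731007531000973000573000953000753000713000513000971000571000951000751000731000531000097000057000095000075000093000073000053000013000091000071000051000031000009000007000005000003000001000000))) (BT.leaf (Bx.mk (nat_lit 0xeb7531db75310eb7530db7530eb7510db7510eb7310db7310eb5310db53100eb7500db7500eb7300db7300eb5300db5300eb7100db7100eb5100db5100eb3100db31000eb7000db7000eb5000db5000eb3000db3000eb1000db10000eb0000db0e75310d753100e75300d75300e75100d75100e73100d73100e53100d531000e75000d75000e73000d73000e53000d53000e71000d71000e51000d51000e31000d310000e70000d70000e50000d50000e30000d30000e10000d100000e00000d))))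
noncomputable def TV011_cols : List (BT (Bx Nat)) := [TV011_c0, TV011_c1, TV011_c1, TV011_c3, TV011_c3, TV011_c5, TV011_c5, TV011_c7, TV011_c7, TV011_c9, TV011_c9, TV011_c11, TV011_c11, TV011_c13, TV011_c14]
noncomputable def TV011_ch (x j : Nat) : Bx Nat := chk TV011_cols x j
noncomputable def TV011_wc (_ j : Nat) : Bx Nat := TV011_w.get j
noncomputable def TV011 : CT := ⟨(nat_lit 128), (nat_lit 7), (nat_lit 127), TV011_ch, (nat_lit 24), (nat_lit 16777215), TV011_wc, (nat_lit 32766)⟩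
theorem TV011_ok : TV011.ok = true := by decide +kernel
theorem TV011_rel : lall TV011.relOK RV011 = true := by decide +kernel
noncomputable def eV011_c0 : BT (Bx Nat) := (BT.leaf (Bx.mk (nat_lit 0x0)))
noncomputable def eV011_c1 : BT (Bx Nat) := (BT.leaf (Bx.mk (nat_lit 0x60463604644997549a7670473704722045c31a5d30453304544047d4047e5845279a7c7997b71a437194418f5891a679196688438884377844c71a33719348846e8846d904626997f69a809be656043c99a2b9992a71040284792997a80f5091a48919471046fa042329a5168f3639a773997861174204567845b8842688425904498116a70420704219be4d8845a884598044279129684706847189046790286845e99a179991678f2768f61991159901398f1291a6c9196b6045578422684686846989a1e8841d99a109990f8841a89a1988418904609045f70445704417043d91a4f9194e8041fa8157811357994a79a4b890248043290f3199a09999089112e8042d9102c9043f9043e9043b7840a9043a90439a0403904309042f9910789a069900598f0481d149041c9041b9040e8040d9040c9040ba8111a0401a810200000)))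
noncomputable def eV011_c2 : BT (Bx Nat) := (BT.leaf (Bx.mk (nat_lit 0x99c6099b5f99c5a99b598056e8056d99c4f99b4e7056c7056b99c4899b4748556694665856799c3f99b3e5945189c7c89b7b79c7879b7759b3b99c3099b2f61472605737954999c2b99b2a2855b88531905809057f8852c99c2699b25315629057e9057d9952459b3551574a052291c3891b37a051f5056f940429057a90579915466854599c1c99b1b7056590576905758854d71c4c99c1799b168855089c1e8851d905719057089c19885185056a815328142d8855488553a050e5055799c1099b0f7853a91461905699056890529785399155e90564905639aa2e9950c9940b9055d9055c90558a0507a815599c0999b08a815280541914409054b9054a905158053d9153c90544905439aa1a89c0699505994049050d9053490533a813699f119052890527a05029052190520a8123805149051390512a0501a810aa810300000)))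
noncomputable def eV011_c3 : BT (Bx Nat) := (BT.leaf (Bx.mk (nat_lit 0x60670606715867b5a87c5067d6287e91278913778867a886798127381372a064678676786756a87f6a8805866562c596065a7864f7864e786357864b7864a60647713486186f71243713442a858a06287123e7133f7283a8125481353a06246ac6d5866e2066292c3b4064d686457865d7865c81842798499981f8126c8136b4a856786228126981368706516866669267a8174712556866368664786527a83ca06136865f686608921470641886576865ea06118862688625906298186a88621886207ac2ca060c8861c8861b9980e8920d7063270616706179a936a8161a060a9123891337a815b906158184c91234913339065078618a0605912309132f998078920682e1e7932a7922b9a9238063da8140a0603a813999209993089062e8062da8131a0602a8127906109060f9061a80619a811da0601a8112a810ba810400000)))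
noncomputable def eV011_c4 : BT (Bx Nat) := (BT.leaf (Bx.mk (nat_lit 0x78769787688875d8875c9965499753807768077551672517738967a897795b15548777487787874b7874a08757996389973791667917664a250816808177f8876c8876ba0729887348873373c4568739887308872fa07279167e9177d4314c9962699725a07231316fa0722507749077c9077b92236207354076a9164891747a071a3875b816718177083c2e8874f8874ea07156876288721887209073b896148223d8871c8871b78740a07129a042a0711722619076e9076d887522965191664917638960d8312d916609175f7874978731a070b996109970fa8165a070aa815e9075a90759a0707a8158a815691644917439070e89606907199163f9173ea814d9b01da07049960999708a814680741a0703a813ca813a9072b9072a9a01f80732a0702a812ca81289071790716a81248071ea0701a8118a8113a810ca810500000)))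
noncomputable def eV011_c5 : BT (Bx Nat) := (BT.leaf (Bx.mk (nat_lit 0x9087f98e809087d98e7e9087b98e7c9087998e7a9087798e789087598e76408589087298e739087098e71408529086d98e6e9086b98e6c6a72e9086898e699086698e67508429086398e64627466085e9085f98e6068e619085c98e5d2884d9085998e5a4a77458e3668824688239085398e5448e6f2081f38e499084e98e4f3275b6881a9084a98e4b308509084798e48588627a7159084398e4458e65a08137273c9083e98e3fa0812688405882982728827279083798e38508576880e9083398e34a080c7272c9082f98e306086aa080b688319082a98e2b6273b7883a788399082598e2670e5670e557a7079082098e2128e51a0805908189081b98e1c70e4ca08049af1d9081698e1770845a0803a8141a813d9080a9080f98e1070e35a0802a8132a812d99e119080898e0970822a0801a811ea8119a8114a810da810600000)))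
noncomputable def eV011_c6 : BT (Bx Nat) := (BT.leaf (Bx.mk (nat_lit 0x4097d5237e4897f4a380489706ad71209691a36832d4b1894a489636a3646a35e5c144889436097b52d7ca093c509606235f7a3306892fa092d2a37a109796232b6092a609416097552376a0928189585a36e5896d609741893472333923318093f82d3e2236192d39423326a33d2c1218892080940a091ea091d7891c8ad1b8092ca09192897822d77a091893617889169093aa09145097393572a09136bd658bf528ad5a7895960955a816fa09119a14688957789108a30f90927a090d2235d6895c389568895b7096c7236ba090ba816a8bd4d589676a366a090aa81629ab3693609889089090c90912a09062095493553a0905a8151a815082d4f8094ea0904a814ca81498894893547a0903a8145a81429ab23a813b8233880937a0902a81359a124a812ea81298892693525a0901a8122a811fa811aa8115a810ea810700000)))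
noncomputable def eV011_c7 : BT (Bx Nat) := (BT.leaf (Bx.mk (nat_lit 0xa0b5e68c61a0b5848b74a0b5248b6fa0b4d30b5ba0b4943950a0b466b46253a7ea0b4258c65a0b3c68b405387ca0b3663857a0b2e60b6a68b6ca0b2c68b31a0b2960b3b63973a0b2878b3a60b7673480a0b2778b39a817fa0b2470c5628b7aa0b2370c55a817d5bb6e7b95d7b45aa0b1f28c51a817b3385438b78a0b1a70c4ca81797b84fa0b1888b1da8177a0b1570b45a817578b48a0b1390b41a817298c4470b71a0b1290b3d98c3fa817058b6780b6480b60a0b0e70c35a816d7ba38a0b0c90b3298c3470b69a0b0b90b2da816b98c30a8168a0b0a88b11a8166a8163a815fa0b0770b22a815ca815978b26a0b0590b1ea815398c2190c4ba0b0490b19a814e98c1ca814aa0b0390b14a814798c17a8143a813e90c2ba0b0290b0da813798c10a8133a812fa812aa0b0190b06a812598c09a8120a811ba8116a810fa810800000)))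
noncomputable def eV011_c8 : BT (Bx Nat) := (BT.leaf (Bx.mk (nat_lit 0x68a61a0a5e48a74a0a5848a6fa0a5230d5ba0a4d43350a0a496a562a0a465247d58a65a0a427b340a0a3c5327b50a57a0a367326aa0a2e6a66b7b231a0a2c60d3ba0a2950a728a53aa0a2860a7560a7f8a439a0a27a818070a56a0a243a47970a55a0a23a817e58a6d68a5c68a5928a51a0a1fa817c20a5338a7770a4ca0a1aa817a68a4e88a1da0a18a817883745a0a15a81767a64790a41a0a13a817398d437267090a3da0a1298d3ea81716a466826638265f70a35a0a0ea816e68a3790a32a0a0c98d337266890a2da0a0ba816c98d2fa816988a11a0a0aa8167a8164a816083722a0a07a815da815a7a62590a1ea0a05a815498d2090d4a90a19a0a04a814f98d1ba814b90a14a0a03a814898d16a8144a813f90d2a90a0da0a02a813898d0fa8134a8130a812b90a06a0a01a812698d08a8121a811ca8117a8110a810900000)))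
noncomputable def eV011_p : BT (Bx Nat) := (BT.leaf (Bx.mk (nat_lit 0x15788abc3c58222c0f14888a43c4d22268f12488923c4622230f118388444421e1e110f078783436221b0f0b8885c3c2d1a16110b0785244291e14890a088503c281a140709c884e3c27119210c9076481b2321918ec8c46460b22119104c7c863e3b1f098f0cc746634431a1d8d08c64663043181d8c0cc54862a3b15118a0cc4c86263b1319898ac4c362443121d890ac4846223311118886c38861c3b0e09868cc3086183b0c158606c2c86163b0b19858ac2c4614430a1d850cc2846141a0721038e81c440e1206190290814740a320515028681084083a0419020a810440642031d018c80c540622030d018280884043a0219010a80844041a0208809040472023101148088404320211010400000000)))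
noncomputable def eV011_e : BT Nat := BT.leaf (nat_lit 0)
noncomputable def eV011_cols : List (BT (Bx Nat)) := [eV011_c0, eV011_c1, eV011_c2, eV011_c3, eV011_c4, eV011_c5, eV011_c6, eV011_c7, eV011_c8]
noncomputable def eV011_ch (x j : Nat) : Bx Nat := chunkG eV011_cols (nat_lit 1) x j
noncomputable def eV011_L (x : Nat) : Bx (Nat → Nat) := lookG eV011_ch (nat_lit 8) (nat_lit 255) (nat_lit 20) (nat_lit 1048575) x
noncomputable def eV011_pc (_ j : Nat) : Bx Nat := eV011_p.get j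
noncomputable def eV011_pb : Bx (Nat → Nat) := lookG eV011_pc (nat_lit 8) (nat_lit 255) (nat_lit 17) (nat_lit 131071) (nat_lit 0)
noncomputable def eV011_rots : BT CW := (BT.node (nat_lit 32) (BT.node (nat_lit 16) (BT.node (nat_lit 8) (BT.node (nat_lit 4) (BT.node (nat_lit 2) (BT.node (nat_lit 1) (BT.leaf ⟨[], (nat_lit 1000000), (nat_lit 0), (nat_lit 0), (nat_lit 0)⟩) (BT.leaf ⟨[], (nat_lit 1000000), (nat_lit 0), (nat_lit 0), (nat_lit 1)⟩)) (BT.node (nat_lit 3) (BT.leaf ⟨[], (nat_lit 1000000), (nat_lit 0), (nat_lit 0), (nat_lit 2)⟩) (BT.leaf ⟨[(nat_lit 1), (nat_lit 1)], (nat_lit 0), (nat_lit 0), (nat_lit 0), (nat_lit 3)⟩))) (BT.node (nat_lit 6) (BT.node (nat_lit 5) (BT.leaf ⟨[(nat_lit 2), (nat_lit 2)], (nat_lit 1), (nat_lit 0), (nat_lit 0), (nat_lit 3)⟩) (BT.leaf ⟨[(nat_lit 3), (nat_lit 3)], (nat_lit 2), (nat_lit 0), (nat_lit 0), (nat_lit 3)⟩)) (BT.node (nat_lit 7) (BT.leaf ⟨[(nat_lit 4), (nat_lit 4)], (nat_lit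 3), (nat_lit 0), (nat_lit 0), (nat_lit 3)⟩) (BT.leaf ⟨[(nat_lit 5), (nat_lit 5)], (nat_lit 4), (nat_lit 0), (nat_lit 0), (nat_lit 3)⟩)))) (BT.node (nat_lit 12) (BT.node (nat_lit 10) (BT.node (nat_lit 9) (BT.leaf ⟨[(nat_lit 6), (nat_lit 6)], (nat_lit 19), (nat_lit 0), (nat_lit 0), (nat_lit 3)⟩) (BT.leaf ⟨[(nat_lit 8), (nat_lit 7)], (nat_lit 22), (nat_lit 1), (nat_lit 0), (nat_lit 3)⟩)) (BT.node (nat_lit 11) (BT.leaf ⟨[(nat_lit 7), (nat_lit 8)], (nat_lit 22), (nat_lit 0), (nat_lit 0), (nat_lit 3)⟩) (BT.leaf ⟨[(nat_lit 7), (nat_lit 7), (nat_lit 5)], (nat_lit 20), (nat_lit 0), (nat_lit 0), (nat_lit 3)⟩))) (BT.node (nat_lit 14) (BT.node (nat_lit 13) (BT.leaf ⟨[(nat_lit 8), (nat_lit 8), (nat_lit 5)], (nat_lit 49), (nat_lit 1), (nat_lit 0), (nat_lit 3)⟩) (BT.leaf ⟨[(nat_lit 5), (nat_lit 7), (nat_lit 7)], (nat_lit 20), (nat_lit 2), (nat_lit 0), (nat_lit 3)⟩)) (BT.node (nat_lit 15) (BT.leaf ⟨[(nat_lit 1), (nat_lit 3), (nat_lit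 1), (nat_lit 3)], (nat_lit 7), (nat_lit 0), (nat_lit 0), (nat_lit 3)⟩) (BT.leaf ⟨[(nat_lit 1), (nat_lit 4), (nat_lit 1), (nat_lit 4)], (nat_lit 8), (nat_lit 0), (nat_lit 0), (nat_lit 3)⟩))))) (BT.node (nat_lit 24) (BT.node (nat_lit 20) (BT.node (nat_lit 18) (BT.node (nat_lit 17) (BT.leaf ⟨[(nat_lit 1), (nat_lit 6), (nat_lit 1), (nat_lit 6)], (nat_lit 11), (nat_lit 1), (nat_lit 0), (nat_lit 3)⟩) (BT.leaf ⟨[(nat_lit 3), (nat_lit 7), (nat_lit 1), (nat_lit 8)], (nat_lit 15), (nat_lit 3), (nat_lit 0), (nat_lit 3)⟩)) (BT.node (nat_lit 19) (BT.leaf ⟨[(nat_lit 3), (nat_lit 8), (nat_lit 1), (nat_lit 7)], (nat_lit 17), (nat_lit 1), (nat_lit 0), (nat_lit 3)⟩) (BT.leaf ⟨[(nat_lit 2), (nat_lit 3), (nat_lit 2), (nat_lit 3)], (nat_lit 9), (nat_lit 0), (nat_lit 0), (nat_lit 3)⟩))) (BT.node (nat_lit 22) (BT.node (nat_lit 21) (BT.leaf ⟨[(nat_lit 2), (nat_lit 4), (nat_lit 2), (nat_lit 4)], (nat_lit 10), (nat_lit 0), (nat_lit 0),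 (nat_lit 3)⟩) (BT.leaf ⟨[(nat_lit 4), (nat_lit 7), (nat_lit 2), (nat_lit 8)], (nat_lit 16), (nat_lit 3), (nat_lit 0), (nat_lit 3)⟩)) (BT.node (nat_lit 23) (BT.leaf ⟨[(nat_lit 4), (nat_lit 8), (nat_lit 2), (nat_lit 7)], (nat_lit 18), (nat_lit 1), (nat_lit 0), (nat_lit 3)⟩) (BT.leaf ⟨[(nat_lit 3), (nat_lit 6), (nat_lit 3), (nat_lit 6)], (nat_lit 13), (nat_lit 1), (nat_lit 0), (nat_lit 3)⟩)))) (BT.node (nat_lit 28) (BT.node (nat_lit 26) (BT.node (nat_lit 25) (BT.leaf ⟨[(nat_lit 1), (nat_lit 8), (nat_lit 3), (nat_lit 7)], (nat_lit 15), (nat_lit 1), (nat_lit 0), (nat_lit 3)⟩) (BT.leaf ⟨[(nat_lit 1), (nat_lit 7), (nat_lit 3), (nat_lit 8)], (nat_lit 17), (nat_lit 3), (nat_lit 0), (nat_lit 3)⟩)) (BT.node (nat_lit 27) (BT.leaf ⟨[(nat_lit 2), (nat_lit 8), (nat_lit 4), (nat_lit 7)], (nat_lit 16), (nat_lit 1), (nat_lit 0), (nat_lit 3)⟩) (BT.leaf ⟨[(nat_lit 2), (nat_lit 7), (nat_lit 4), (nat_lit 8)], (nat_lit 18), (nat_lit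 3), (nat_lit 0), (nat_lit 3)⟩))) (BT.node (nat_lit 30) (BT.node (nat_lit 29) (BT.leaf ⟨[(nat_lit 1), (nat_lit 2), (nat_lit 5), (nat_lit 1), (nat_lit 2)], (nat_lit 5), (nat_lit 2), (nat_lit 0), (nat_lit 3)⟩) (BT.leaf ⟨[(nat_lit 5), (nat_lit 1), (nat_lit 2), (nat_lit 1), (nat_lit 2)], (nat_lit 5), (nat_lit 4), (nat_lit 0), (nat_lit 3)⟩)) (BT.node (nat_lit 31) (BT.leaf ⟨[(nat_lit 2), (nat_lit 1), (nat_lit 2), (nat_lit 1), (nat_lit 5)], (nat_lit 34), (nat_lit 1), (nat_lit 0), (nat_lit 3)⟩) (BT.leaf ⟨[(nat_lit 4), (nat_lit 6), (nat_lit 4), (nat_lit 1), (nat_lit 6)], (nat_lit 14), (nat_lit 1), (nat_lit 0), (nat_lit 3)⟩)))))) (BT.node (nat_lit 48) (BT.node (nat_lit 40) (BT.node (nat_lit 36) (BT.node (nat_lit 34) (BT.node (nat_lit 33) (BT.leaf ⟨[(nat_lit 6), (nat_lit 4), (nat_lit 6), (nat_lit 1), (nat_lit 4)], (nat_lit 43), (nat_lit 2), (nat_lit 0), (nat_lit 3)⟩) (BT.leaf ⟨[(nat_lit 4), (nat_lit 2), (nat_lit 4), (nat_lit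 2)], (nat_lit 10), (nat_lit 1), (nat_lit 0), (nat_lit 3)⟩)) (BT.node (nat_lit 35) (BT.leaf ⟨[(nat_lit 6), (nat_lit 3), (nat_lit 6), (nat_lit 3)], (nat_lit 13), (nat_lit 0), (nat_lit 0), (nat_lit 3)⟩) (BT.leaf ⟨[(nat_lit 8), (nat_lit 3), (nat_lit 7), (nat_lit 1)], (nat_lit 15), (nat_lit 2), (nat_lit 0), (nat_lit 3)⟩))) (BT.node (nat_lit 38) (BT.node (nat_lit 37) (BT.leaf ⟨[(nat_lit 8), (nat_lit 4), (nat_lit 7), (nat_lit 2)], (nat_lit 16), (nat_lit 2), (nat_lit 0), (nat_lit 3)⟩) (BT.leaf ⟨[(nat_lit 8), (nat_lit 5), (nat_lit 8)], (nat_lit 49), (nat_lit 2), (nat_lit 0), (nat_lit 3)⟩)) (BT.node (nat_lit 39) (BT.leaf ⟨[(nat_lit 5), (nat_lit 8), (nat_lit 8)], (nat_lit 49), (nat_lit 0), (nat_lit 0), (nat_lit 3)⟩) (BT.leaf ⟨[(nat_lit 3), (nat_lit 2), (nat_lit 3), (nat_lit 2)], (nat_lit 9), (nat_lit 1), (nat_lit 0), (nat_lit 3)⟩)))) (BT.node (nat_lit 44) (BT.node (nat_lit 42) (BT.node (nat_lit 41) (BT.leaf ⟨[(nat_lit 3),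 (nat_lit 2), (nat_lit 6), (nat_lit 2), (nat_lit 6)], (nat_lit 12), (nat_lit 3), (nat_lit 0), (nat_lit 3)⟩) (BT.leaf ⟨[(nat_lit 2), (nat_lit 6), (nat_lit 3), (nat_lit 2), (nat_lit 6)], (nat_lit 12), (nat_lit 1), (nat_lit 0), (nat_lit 3)⟩)) (BT.node (nat_lit 43) (BT.leaf ⟨[(nat_lit 6), (nat_lit 2), (nat_lit 6), (nat_lit 2), (nat_lit 3)], (nat_lit 41), (nat_lit 2), (nat_lit 0), (nat_lit 3)⟩) (BT.leaf ⟨[(nat_lit 3), (nat_lit 1), (nat_lit 3), (nat_lit 1)], (nat_lit 7), (nat_lit 1), (nat_lit 0), (nat_lit 3)⟩))) (BT.node (nat_lit 46) (BT.node (nat_lit 45) (BT.leaf ⟨[(nat_lit 6), (nat_lit 1), (nat_lit 6), (nat_lit 1)], (nat_lit 11), (nat_lit 0), (nat_lit 0), (nat_lit 3)⟩) (BT.leaf ⟨[(nat_lit 3), (nat_lit 4), (nat_lit 5), (nat_lit 3), (nat_lit 4)], (nat_lit 6), (nat_lit 2), (nat_lit 0), (nat_lit 3)⟩)) (BT.node (nat_lit 47) (BT.leaf ⟨[(nat_lit 5), (nat_lit 3), (nat_lit 4), (nat_lit 3), (nat_lit 4)], (nat_lit 6), (nat_lit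 4), (nat_lit 0), (nat_lit 3)⟩) (BT.leaf ⟨[(nat_lit 4), (nat_lit 3), (nat_lit 4), (nat_lit 3), (nat_lit 5)], (nat_lit 35), (nat_lit 1), (nat_lit 0), (nat_lit 3)⟩))))) (BT.node (nat_lit 56) (BT.node (nat_lit 52) (BT.node (nat_lit 50) (BT.node (nat_lit 49) (BT.leaf ⟨[(nat_lit 4), (nat_lit 1), (nat_lit 4), (nat_lit 1)], (nat_lit 8), (nat_lit 1), (nat_lit 0), (nat_lit 3)⟩) (BT.leaf ⟨[(nat_lit 8), (nat_lit 1), (nat_lit 7), (nat_lit 3)], (nat_lit 17), (nat_lit 2), (nat_lit 0), (nat_lit 3)⟩)) (BT.node (nat_lit 51) (BT.leaf ⟨[(nat_lit 8), (nat_lit 2), (nat_lit 7), (nat_lit 4)], (nat_lit 18), (nat_lit 2), (nat_lit 0), (nat_lit 3)⟩) (BT.leaf ⟨[(nat_lit 7), (nat_lit 4), (nat_lit 8), (nat_lit 2)], (nat_lit 18), (nat_lit 0), (nat_lit 0), (nat_lit 3)⟩))) (BT.node (nat_lit 54) (BT.node (nat_lit 53) (BT.leaf ⟨[(nat_lit 6), (nat_lit 8), (nat_lit 6), (nat_lit 5), (nat_lit 8)], (nat_lit 50), (nat_lit 2), (nat_lit 0), (nat_lit 3)⟩)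 (BT.leaf ⟨[(nat_lit 6), (nat_lit 7), (nat_lit 6), (nat_lit 7), (nat_lit 5)], (nat_lit 21), (nat_lit 0), (nat_lit 0), (nat_lit 3)⟩)) (BT.node (nat_lit 55) (BT.leaf ⟨[(nat_lit 8), (nat_lit 6), (nat_lit 5), (nat_lit 8), (nat_lit 6)], (nat_lit 50), (nat_lit 3), (nat_lit 0), (nat_lit 3)⟩) (BT.leaf ⟨[(nat_lit 7), (nat_lit 1), (nat_lit 8), (nat_lit 3)], (nat_lit 15), (nat_lit 0), (nat_lit 0), (nat_lit 3)⟩)))) (BT.node (nat_lit 60) (BT.node (nat_lit 58) (BT.node (nat_lit 57) (BT.leaf ⟨[(nat_lit 7), (nat_lit 2), (nat_lit 8), (nat_lit 4)], (nat_lit 16), (nat_lit 0), (nat_lit 0), (nat_lit 3)⟩) (BT.leaf ⟨[(nat_lit 7), (nat_lit 3), (nat_lit 8), (nat_lit 1)], (nat_lit 17), (nat_lit 0), (nat_lit 0), (nat_lit 3)⟩)) (BT.node (nat_lit 59) (BT.leaf ⟨[(nat_lit 7), (nat_lit 5), (nat_lit 7)], (nat_lit 20), (nat_lit 1), (nat_lit 0), (nat_lit 3)⟩) (BT.leaf ⟨[(nat_lit 4), (nat_lit 1), (nat_lit 6), (nat_lit 4), (nat_lit 6)], (nat_lit 14),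 (nat_lit 3), (nat_lit 0), (nat_lit 3)⟩))) (BT.node (nat_lit 62) (BT.node (nat_lit 61) (BT.leaf ⟨[(nat_lit 6), (nat_lit 4), (nat_lit 6), (nat_lit 4), (nat_lit 1)], (nat_lit 14), (nat_lit 0), (nat_lit 0), (nat_lit 3)⟩) (BT.leaf ⟨[(nat_lit 1), (nat_lit 4), (nat_lit 6), (nat_lit 4), (nat_lit 6)], (nat_lit 43), (nat_lit 0), (nat_lit 0), (nat_lit 3)⟩)) (BT.node (nat_lit 63) (BT.leaf ⟨[(nat_lit 6), (nat_lit 2), (nat_lit 6), (nat_lit 3), (nat_lit 2)], (nat_lit 12), (nat_lit 0), (nat_lit 0), (nat_lit 3)⟩) (BT.node (nat_lit 64) (BT.leaf ⟨[(nat_lit 2), (nat_lit 6), (nat_lit 2), (nat_lit 3), (nat_lit 6)], (nat_lit 41), (nat_lit 3), (nat_lit 0), (nat_lit 3)⟩) (BT.leaf ⟨[(nat_lit 6), (nat_lit 7), (nat_lit 5), (nat_lit 6), (nat_lit 7)], (nat_lit 21), (nat_lit 2), (nat_lit 0), (nat_lit 3)⟩))))))))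
noncomputable def eV011_hcs : List CW := []
noncomputable def eV011_H (x j : Nat) : Bx (Nat → Nat → Nat) := mkH eV011_L eV011_pb.1 eV011_e.get (lmap CW.w eV011_hcs) (nat_lit 128) (nat_lit 129) (nat_lit 9) (nat_lit 256) (nat_lit 32768) (nat_lit 16383) x (eV011_rots.get j)
noncomputable def eV011_F (x b : Nat) : Bool := blkOK eV011_H eV011_ch (nat_lit 129) (nat_lit 256) (nat_lit 128) (nat_lit 8) (nat_lit 255) (nat_lit 20) (nat_lit 1048575) x b

theorem eV011_k0_0 : allFrom (eV011_F (nat_lit 0)) (nat_lit 0) (nat_lit 4) = true := by decide +kernel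
theorem eV011_k1_0 : allFrom (eV011_F (nat_lit 1)) (nat_lit 0) (nat_lit 4) = true := by decide +kernel
theorem eV011_k2_0 : allFrom (eV011_F (nat_lit 2)) (nat_lit 0) (nat_lit 4) = true := by decide +kernel
theorem eV011_k3_0 : allFrom (eV011_F (nat_lit 3)) (nat_lit 0) (nat_lit 4) = true := by decide +kernel
theorem eV011_k4_0 : allFrom (eV011_F (nat_lit 4)) (nat_lit 0) (nat_lit 4) = true := by decide +kernel
theorem eV011_k5_0 : allFrom (eV011_F (nat_lit 5)) (nat_lit 0) (nat_lit 4) = true := by decide +kernel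
theorem eV011_k6_0 : allFrom (eV011_F (nat_lit 6)) (nat_lit 0) (nat_lit 4) = true := by decide +kernel
theorem eV011_k7_0 : allFrom (eV011_F (nat_lit 7)) (nat_lit 0) (nat_lit 4) = true := by decide +kernel
theorem eV011_k8_0 : allFrom (eV011_F (nat_lit 8)) (nat_lit 0) (nat_lit 4) = true := by decide +kernel

theorem eV011_all : Cov eV011_F 4 9 0 := by
  have h := Cov.zero eV011_F 4
  have h := h.blk (b := 4) eV011_k0_0 rfl
  have h := h.next (y := 1) rfl rfl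
  have h := h.blk (b := 4) eV011_k1_0 rfl
  have h := h.next (y := 2) rfl rfl
  have h := h.blk (b := 4) eV011_k2_0 rfl
  have h := h.next (y := 3) rfl rfl
  have h := h.blk (b := 4) eV011_k3_0 rfl
  have h := h.next (y := 4) rfl rfl
  have h := h.blk (b := 4) eV011_k4_0 rfl
  have h := h.next (y := 5) rfl rfl
  have h := h.blk (b := 4) eV011_k5_0 rfl
  have h := h.next (y := 6) rfl rfl
  have h := h.blk (b := 4) eV011_k6_0 rfl
  have h := h.next (y := 7) rfl rfl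
  have h := h.blk (b := 4) eV011_k7_0 rfl
  have h := h.next (y := 8) rfl rfl
  have h := h.blk (b := 4) eV011_k8_0 rfl
  have h := h.next (y := 9) rfl rfl
  exact h

theorem eV011 : Enum RV011 [] (gensW 7) 128 :=
  ⟨eV011_cols, eV011_ch, eV011_L, eV011_H, eV011_pb.1, eV011_e.get, [(nat_lit 0), (nat_lit 1), (nat_lit 3), (nat_lit 5), (nat_lit 7), (nat_lit 9), (nat_lit 11), (nat_lit 13), (nat_lit 14)], (nat_lit 63), (nat_lit 7), eV011_rots, eV011_hcs,
    (nat_lit 129), (nat_lit 9), (nat_lit 256), (nat_lit 128), (nat_lit 32768), (nat_lit 16383), (nat_lit 8), (nat_lit 255), (nat_lit 20), (nat_lit 1048575), (nat_lit 1), (nat_lit 4),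
    fun _ _ => rfl, fun _ => rfl, fun _ _ => rfl, by decide +kernel, eV011_all.1⟩

theorem pV011 : TV011.Pres RV011 (gensW 7) := ⟨CT.ok_spec TV011_ok, lall_iff.1 TV011_rel, by decide +kernel,
  by decide +kernel, by decide +kernel, eV011.bound (ug_rels _) (bound_nil _)⟩

instance instTV011 : TV011.Grp := pV011.grp

noncomputable def SV110 : List (List Nat) := [[(nat_lit 11), (nat_lit 11), (nat_lit 10)],
  [(nat_lit 13), (nat_lit 13), (nat_lit 10)],
  [(nat_lit 11), (nat_lit 13), (nat_lit 11), (nat_lit 13)]]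
noncomputable def RV110 : List (List Nat) := lapp RP (lapp Rka5 (lapp Rro6 SV110))
noncomputable def TV110_c0 : BT (Bx Nat) := (BT.node (nat_lit 1) (BT.leaf (Bx.mk (nat_lit 0x66c9c396ad1e3d56a9dba7ef922550a562d6ed972f4c9d831448d0213e78e9a36709922e50a96326088e1e4068c16184880e282840608080))) (BT.leaf (Bx.mk (nat_lit 0xe5cfefcd5afcf8e9d7b77fdff4e8cb936ecf5ef8f0c78b7eecf9b0e0bd7ecd8af5aedcb76a5caa54e74fa14664dab52245850e4498d1e041))))
noncomputable def TV110_c1 : BT (Bx Nat) := (BT.node (nat_lit 1) (BT.leaf (Bx.mk (nat_lit 0x78f5f3f6ad193360c5dba70e5b3752a13a648957ae5ab152b42811a2347099e247c60b224078e3a6cb962a50319300828406344880e28001))) (BT.leaf (Bx.mk (nat_lit 0xf1e7973ddbff7fd7ab469f9f72e4f5ef1e2efdba75c3838f0dbb33e6b1669539d3ef5f972a449b9762c4b56e1c2af5aa5583028d09b323c6))))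
noncomputable def TV110_c3 : BT (Bx Nat) := (BT.node (nat_lit 1) (BT.leaf (Bx.mk (nat_lit 0x5cbd42970e5d3b468993368d50a07cfd5aa5ab1e3d4a913a66ed98b02c508901e38b95327cc1e101ce9c36682840624513240468c1600302))) (BT.leaf (Bx.mk (nat_lit 0xe1c7b77cf9b265f9f76ecd5aff7fc383af4e5cf1e2f7ebc79d3a37eeaf5a8d09b325cabf7a3c68b12edc870addab3620c0ab529d29f3a4c8))))
noncomputable def TV110_c5 : BT (Bx Nat) := (BT.node (nat_lit 1) (BT.leaf (Bx.mk (nat_lit 0x70e59335cbdf3f56a942978f52a474ed1a26ed9a3542818b05ab13a62664d0c1a74f0a28204973e187040a44d9c0460a960248790002c383))) (BT.leaf (Bx.mk (nat_lit 0xf9f7f7febd3973e1c7dfaf1e7b77d3a33e6c9977eedbb356bc3831e2b976f5fab52953a146ddab166b5793223c689167ce9b3254b83021c2))))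
noncomputable def TV110_c7 : BT (Bx Nat) := (BT.node (nat_lit 1) (BT.leaf (Bx.mk (nat_lit 0x60c5b374e9922578f56ac54adf3f4281ab464cd1a276e9c3952a17ae304869b382c51f1254b070c7828f200ce823464b81284c8801c30404))) (BT.leaf (Bx.mk (nat_lit 0xddbf469f1e7d7bc78b973e9d70e0fdff5eadbb3e7dcb933e6efdb8f0b76aad4bf7a7ce9b32edc93223c6b362bd6870a9d2a3420c0972a2c4))))
noncomputable def TV110_c9 : BT (Bx Nat) := (BT.node (nat_lit 1) (BT.leaf (Bx.mk (nat_lit 0x7cfde3d74edc396cdda3564cd8315cbd62d54ad4294c9d225448d0213c7c61a16709921050396326020e064011d36180972a280111e34485))) (BT.leaf (Bx.mk (nat_lit 0xfdffe7df5efc79eddfa75e5cf871ddbf66dd5af469cd9f265c58f061bd7ee5db56ec59ad5ea55a54e8519d3e64d952e4498d1e245850e041))))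
noncomputable def TV110_c11 : BT (Bx Nat) := (BT.node (nat_lit 1) (BT.leaf (Bx.mk (nat_lit 0x3c7cd1c28589992460710187459b105c3950c28211063c10d02240057ef99bd62f1cb75eed6ba70d94b54ed12b260ad1ae58a90a84c91120))) (BT.leaf (Bx.mk (nat_lit 0xbd7ee5db56ec59ad5ea55a54e8519d3e64d952e4498d1e245850e041fffbefcf7ebcf8efdbaf4e7cb8f0dfbb6ecd7ab4e8cf9b2e4c78b0e0))))
noncomputable def TV110_c12 : BT (Bx Nat) := (BT.node (nat_lit 1) (BT.leaf (Bx.mk (nat_lit 0x3e78e1a2c50c93304880e3a30d8b2e20a8714188841e0c68212042807cfd93c60f5c365ce963b72dd4344cd523362a912f5aad0294e951a1))) (BT.leaf (Bx.mk (nat_lit 0xbf7aedcb76acd8af5aad4a74a8d09f3a6cc972a4c88f1a2c4870a0c0fdffe7df5efc79eddfa75e5cf871ddbf66dd5af469cd9f265c58f061))))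
noncomputable def TV110_c13 : BT (Bx Nat) := (BT.node (nat_lit 1) (BT.leaf (Bx.mk (nat_lit 0xfffbefcf7ebcf8efdbaf4e7cb8f0dfbb6ecd7ab4e8cf9b2e4c78b0e0bf7a9dda372cd79f6e6dab15a4d58f522d2a12e1ce992a0c88d12140))) (BT.leaf (Bx.mk (nat_lit 0x7cfde3d74edc396cdda3564cd8315cbd62d54ad4294c9d225448d0213c7cd1c28589992460710187459b105c3950c28211063c10d0224005))))
noncomputable def TV110_c14 : BT (Bx Nat) := (BT.node (nat_lit 1) (BT.leaf (Bx.mk (nat_lit 0xfdffe7df5efc79eddfa75e5cf871ddbf66dd5af469cd9f265c58f061bd7e95ca176c569d6a65bb35e4548d56253a32a14f9b2e0498f161c1))) (BT.leaf (Bx.mk (nat_lit 0x7ef9ebc76e9cb86ed9ab466c98b05eb96ac56a94a84e992a446890a03e78e1a2c50c93304880e3a30d8b2e20a8714188841e0c6821204280))))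
noncomputable def TV110_w : BT (Bx Nat) := (BT.node (nat_lit 1) (BT.leaf (Bx.mk (nat_lit 0xc75310b753100c75300b75300c75100b75100c73100b73100c53100b531000c75000b75000c73000b73000c53000b53000c71000b71000c51000b51000c31000b310000c70000b70000c50000b50000c30000b30000c10000b100000c00000b005731007531000973000573000953000753000713000513000971000571000951000751000731000531000097000057000095000075000093000073000053000013000091000071000051000031000009000007000005000003000001000000))) (BT.leaf (Bx.mk (nat_lit 0xeb7531db75310eb7530db7530eb7510db7510eb7310db7310eb5310db53100eb7500db7500eb7300db7300eb5300db5300eb7100db7100eb5100db5100eb3100db31000eb7000db7000eb5000db5000eb3000db3000eb1000db10000eb0000db0e75310d753100e75300d75300e75100d75100e73100d73100e53100d531000e75000d75000e73000d73000e53000d53000e71000d71000e51000d51000e31000d310000e70000d70000e50000d50000e30000d30000e10000d100000e00000d))))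
noncomputable def TV110_cols : List (BT (Bx Nat)) := [TV110_c0, TV110_c1, TV110_c1, TV110_c3, TV110_c3, TV110_c5, TV110_c5, TV110_c7, TV110_c7, TV110_c9, TV110_c9, TV110_c11, TV110_c12, TV110_c13, TV110_c14]
noncomputable def TV110_ch (x j : Nat) : Bx Nat := chk TV110_cols x j
noncomputable def TV110_wc (_ j : Nat) : Bx Nat := TV110_w.get j
noncomputable def TV110 : CT := ⟨(nat_lit 128), (nat_lit 7), (nat_lit 127), TV110_ch, (nat_lit 24), (nat_lit 16777215), TV110_wc, (nat_lit 32766)⟩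
theorem TV110_ok : TV110.ok = true := by decide +kernel
theorem TV110_rel : lall TV110.relOK RV110 = true := by decide +kernel
noncomputable def eV110_c0 : BT (Bx Nat) := (BT.leaf (Bx.mk (nat_lit 0x0)))
noncomputable def eV110_c1 : BT (Bx Nat) := (BT.leaf (Bx.mk (nat_lit 0x40467404682047520476384743847328460284615215a5225b2a27d2a17e4227c4217b5224b5214c5a16a5a2696843f6843e5223b5213c504705046f4a17f4a280404437a2327a1315164731659321793227a5a14f5a24e4965c4045d484774847828462704526842a684296185150425504267c158584554044a5045f5045e484494847148472497505164d5962e484637a21a7a1195952d495667961579514515277226e7216d3982b4846b4846c6a222684217a2127a1116841e6841d6971c6841b704657046450417504185044850444404243043d722577215660423484405a1535a2544972c696286043a715397a20a7a1097173671835604347163370446704455982f597305840b7044270441804037043870437797087980769706796057950462c16704207041f704107040f6040e7040d7040c88113804018810200000)))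
noncomputable def eV110_c2 : BT (Bx Nat) := (BT.leaf (Bx.mk (nat_lit 0x7a4657a3647a45f7a35e605706056f7a4577a3565056e5056d7a44f7a34e624696236a7a4467a3456a47c6a37b5a3785a4777a4387a33758573585747a4327a33168539705807057f6853379c2c7a42a7a3297057e7057d79c28805247243f7233e8052369c507057a7057971c4d7a4207a31f505494854a605587057670575685557a41a7a31951c5159c526a4226852170572705716a41c6851b61c3a61b34805106855b6855a8050f7a4127a3115854271b667056c7056b685307052f5854171c637056870567737367b53579c0d79b0c705628050870561705607055d805077a40a7a3098815c881596054871b47705547055368518705176054471c437054c7054b7371e7b51d6a40679c0579b047050e7053c7053b881408813d7ae137052e7052d8050270526705258812b88127605167051570514805018810b8810300000)))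
noncomputable def eV110_c3 : BT (Bx Nat) := (BT.leaf (Bx.mk (nat_lit 0x40671406723867b3867c41a7d4197e59a78599775067a506794997449a7340676406754b37f4b3804065e4065f5865758656586545865351a4e5194f5194b51a4c8062e5194551a46533423334d6195b61a5a4996f49a704b3504b34a58661586604b34953b286196e61a6d3a02c6196c61a6b50623506244065d486694866a2866248667486684065c406595b34380615486644866569916506484866380613706306862a686297332f68626686255bb338060d686206861f79f107a00f69f0e5063a506195061a7b4406863d881668060b30655706187193f71a3e48658733177193c71a3b5a05159f525861b806057193871a3779f087a00769f066382259a31599327b42b68627606448814780603881417990a79a0970636706356063488139806028812d70612706117061e7061d6061c8812180601881148810c8810400000)))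
noncomputable def eV110_c4 : BT (Bx Nat) := (BT.leaf (Bx.mk (nat_lit 0x5876c5876b687616876079d5b79e5a607766077551e7351d7469d7a69e794877748778587545875379d3f79e3e71d6a71e6961d8061e7f6876e6876d6873c6873b4874168738687378072d8072b71d7e71e7d79d2a79e298072751e407077c7077b7313d8071e71d4f71e4e8071d61d7261e7163e36740358071868757687568071768726687255072f6073069d1663144687206871f587478071480713531664875c707707076f6875971d6871e6769d0e63c3471d6571e645875268751587398070c79d1279e116af4959e4a8070b8816380708881627075f7075e807078815d71d4c71e4b507107070f69d067071c71d4671e4588158881557ba218070479d0a79e09881508814d60748807038814388142707327073159e247af236073a80702881338812e7071a707198812c8812860722807018811b881158810d8810500000)))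
noncomputable def eV110_c5 : BT (Bx Nat) := (BT.leaf (Bx.mk (nat_lit 0x7087f792807087d7927e7087b7927c708797927a70877792787087579276708737927470871792727086f792707086d7926e7086b7926c708697926a7086779268408637086479265492664085d70860792617085e7925f49262508597085a7925b5a95c50855708567925759258708537925470851791525084d7084e7924f592507084b7924c708497914a8081552943708457924680814488476292e6292d5083d7083e7923f5a9407083b7923c8080d52933708377923870835791368080c4883970831792327082f7913058842588415082850827708297922a5922c5a92b70825792267082379124808057081b7081f792207081d7911e808047b921708197921a70817791188080388148881447080b70811792127080f79110808028813a881347ad13708097920a708077910880801881228811c881168810e8810600000)))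
noncomputable def eV110_c6 : BT (Bx Nat) := (BT.leaf (Bx.mk (nat_lit 0x1a67d18d7e225801267f2a6723a5715266b6256c626537a55442668525676264b7a54c30d7b3267c6266472565626377a5385a67a58d79626317a53248d754a67618a5d6a67068d6f2c26220a666263b7253c626457254620d6338d47626257a52638a4350d336261f7a5204a6396a67868d7780a1b68a2150d42626197a51a5262e6a67468d7380a1570a4878d4a442596a65f68d5e4a62b30a5c7b04d4a64050d2d626117a5125a6416a66168d604a62c426586a66e68d6d80a0c70a3478d366bf556a66a68d6980a0b68a134a6507b63d50d0d50d14626097a50a7263a726446a65b68d5a80a0570a2278d2470d526a65768d5680a0470a1c78d1e881516a64f68d4e80a0370a1678d18881497b62770d306a63f68d3e80a0270a0e78d107b028881358812f6a62a68d2980a0170a0678d08881238811d881178810f8810700000)))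
noncomputable def eV110_c7 : BT (Bx Nat) := (BT.leaf (Bx.mk (nat_lit 0x1897e0897d1097f1098028971289725096c5096b609546095340967409686094c6094b2097c3097b60965609646093860937589794897a609326093138976489752c3626896f589701895d209636093c6093b609466094520e6638e4360926609253894738939609206091f609337097758978689218091b4092e6091a60919709427097358974709488091578e493095c6895e5895f6892744359489505093d4094160912609117092d689605896168928409557096d5896e709348090c78e3548958709695896a689138090b4894d489404093a409446090a609097090d709147095a5895b709228090578e2370e5170956589577091c8090478e1d881527094e5894f709168090378e178814a4892b70e2f7093e5893f7090e8090278e0f4892c8813688130709295892a709068090178e07881248811e88118881108810800000)))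
noncomputable def eV110_c8 : BT (Bx Nat) := (BT.leaf (Bx.mk (nat_lit 0x80c6348f6680c5d48c6280c5958c5c80c5558c5880c516935280c4d58c5080c496934a80c4348c4780c3d58c4080c356933680c3348c3980c2f6933080c2e58c425288080c2d58c418817f52a7e80c2858c2c80c2758c2b8817d6287c80c23693248817b62a7a80c1d6931e8817980c1b68c2160c788817762a7680c17693188817580c1570c4860c748817378f4c50c7280c1470c4478f468817160c6860c656287080c0f693108816f80c0d70c3a78f3c50c6c80c0c70c3460c6e8816d78f388816b80c0b68c1360c6a88169881678816462a616285f80c0769308881608815e80c0570c2260c5b8815a78f2670f5480c0470c1c60c578815678f208815380c0370c1660c4f8814e78f1a8814b8814570f3280c0270c0e60c3f8813e78f128813b881378813180c0170c0660c2a8812978f0a881258811f88119881118810900000)))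
noncomputable def eV110_c9 : BT (Bx Nat) := (BT.leaf (Bx.mk (nat_lit 0x48b6680b6348b6280b5d58b5c80b5958b5880b556945280b5158b5080b4d6944a80b495ab4780b4358b4080b3d6943680b355bd3980b336943080b2f6a74280b2e40b7f6b24180b2d8818052b7d58b2c80b2858b2b80b278817e6277b6942480b238817c62b796941e80b1d8817a68b2180b1b60b778817862b756941880b178817670b4880b1560b73881747904b5147170b4480b14790458817261467614646276f6941080b0f8817070b3a80b0d7903b5146b70b3480b0c60b6d8816e790378816c68b1380b0b60b698816a881688816562b606275e6940880b07881618815f70b2280b0560b5a8815b790257105370b1c80b0460b56881577901f8815470b1680b0360b4e8814f790198814c881467103170b0e80b0260b3e8813f790118813c881388813270b0680b0160b298812a7900988126881208811a881128810a00000)))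
noncomputable def eV110_p : BT (Bx Nat) := (BT.leaf (Bx.mk (nat_lit 0x158c9ac6445d262e9116498b24455262a9114498a2444d262691124989244432621910f4987a4435261a910cc9866442f2617910b8985c442e0e16930b4885a232b119412ca0864e4b27219388c9026464b23219184c78463a4b1d218e88c6c9636431b1d8d8cc60462e4b17218b88c54962a43151d8a8cc54562a1b14258a10c5056282313118986c40261e4b0f218784c34961a430d158686c309618430c1d860cc305618230b258590c2c7616330b1185868204410120725039081c440e1205250290814740a3205150286810940842041d020c8105408220325019080c7406320315018880c34060a02250110808740432021501088083404110124809040472023101148088404320211010400000000)))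
noncomputable def eV110_e : BT Nat := BT.leaf (nat_lit 0)
noncomputable def eV110_cols : List (BT (Bx Nat)) := [eV110_c0, eV110_c1, eV110_c2, eV110_c3, eV110_c4, eV110_c5, eV110_c6, eV110_c7, eV110_c8, eV110_c9]
noncomputable def eV110_ch (x j : Nat) : Bx Nat := chunkG eV110_cols (nat_lit 1) x j
noncomputable def eV110_L (x : Nat) : Bx (Nat → Nat) := lookG eV110_ch (nat_lit 8) (nat_lit 255) (nat_lit 20) (nat_lit 1048575) x
noncomputable def eV110_pc (_ j : Nat) : Bx Nat := eV110_p.get j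
noncomputable def eV110_pb : Bx (Nat → Nat) := lookG eV110_pc (nat_lit 8) (nat_lit 255) (nat_lit 17) (nat_lit 131071) (nat_lit 0)
noncomputable def eV110_rots : BT CW := (BT.node (nat_lit 33) (BT.node (nat_lit 16) (BT.node (nat_lit 8) (BT.node (nat_lit 4) (BT.node (nat_lit 2) (BT.node (nat_lit 1) (BT.leaf ⟨[], (nat_lit 1000000), (nat_lit 0), (nat_lit 0), (nat_lit 0)⟩) (BT.leaf ⟨[], (nat_lit 1000000), (nat_lit 0), (nat_lit 0), (nat_lit 1)⟩)) (BT.node (nat_lit 3) (BT.leaf ⟨[], (nat_lit 1000000), (nat_lit 0), (nat_lit 0), (nat_lit 2)⟩) (BT.leaf ⟨[(nat_lit 1), (nat_lit 1)], (nat_lit 0), (nat_lit 0), (nat_lit 0), (nat_lit 3)⟩))) (BT.node (nat_lit 6) (BT.node (nat_lit 5) (BT.leaf ⟨[(nat_lit 2), (nat_lit 2)], (nat_lit 1), (nat_lit 0), (nat_lit 0), (nat_lit 3)⟩) (BT.leaf ⟨[(nat_lit 3), (nat_lit 3)], (nat_lit 2), (nat_lit 0), (nat_lit 0), (nat_lit 3)⟩)) (BT.node (nat_lit 7) (BT.leaf ⟨[(nat_lit 4), (nat_lit 4)], (nat_lit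 3), (nat_lit 0), (nat_lit 0), (nat_lit 3)⟩) (BT.leaf ⟨[(nat_lit 5), (nat_lit 5)], (nat_lit 4), (nat_lit 0), (nat_lit 0), (nat_lit 3)⟩)))) (BT.node (nat_lit 12) (BT.node (nat_lit 10) (BT.node (nat_lit 9) (BT.leaf ⟨[(nat_lit 7), (nat_lit 6)], (nat_lit 23), (nat_lit 1), (nat_lit 0), (nat_lit 3)⟩) (BT.leaf ⟨[(nat_lit 6), (nat_lit 7)], (nat_lit 23), (nat_lit 0), (nat_lit 0), (nat_lit 3)⟩)) (BT.node (nat_lit 11) (BT.leaf ⟨[(nat_lit 9), (nat_lit 8)], (nat_lit 22), (nat_lit 1), (nat_lit 0), (nat_lit 3)⟩) (BT.leaf ⟨[(nat_lit 8), (nat_lit 9)], (nat_lit 22), (nat_lit 0), (nat_lit 0), (nat_lit 3)⟩))) (BT.node (nat_lit 14) (BT.node (nat_lit 13) (BT.leaf ⟨[(nat_lit 6), (nat_lit 6), (nat_lit 5)], (nat_lit 19), (nat_lit 0), (nat_lit 0), (nat_lit 3)⟩) (BT.leaf ⟨[(nat_lit 7), (nat_lit 7), (nat_lit 5)], (nat_lit 48), (nat_lit 1), (nat_lit 0), (nat_lit 3)⟩)) (BT.node (nat_lit 15) (BT.leaf ⟨[(nat_lit 8), (nat_lit 8), (nat_lit 5)],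 (nat_lit 20), (nat_lit 0), (nat_lit 0), (nat_lit 3)⟩) (BT.leaf ⟨[(nat_lit 9), (nat_lit 9), (nat_lit 5)], (nat_lit 49), (nat_lit 1), (nat_lit 0), (nat_lit 3)⟩))))) (BT.node (nat_lit 24) (BT.node (nat_lit 20) (BT.node (nat_lit 18) (BT.node (nat_lit 17) (BT.leaf ⟨[(nat_lit 5), (nat_lit 6), (nat_lit 6)], (nat_lit 19), (nat_lit 2), (nat_lit 0), (nat_lit 3)⟩) (BT.leaf ⟨[(nat_lit 5), (nat_lit 8), (nat_lit 8)], (nat_lit 20), (nat_lit 2), (nat_lit 0), (nat_lit 3)⟩)) (BT.node (nat_lit 19) (BT.leaf ⟨[(nat_lit 8), (nat_lit 5), (nat_lit 8)], (nat_lit 20), (nat_lit 1), (nat_lit 0), (nat_lit 3)⟩) (BT.leaf ⟨[(nat_lit 9), (nat_lit 5), (nat_lit 9)], (nat_lit 49), (nat_lit 2), (nat_lit 0), (nat_lit 3)⟩))) (BT.node (nat_lit 22) (BT.node (nat_lit 21) (BT.leaf ⟨[(nat_lit 1), (nat_lit 3), (nat_lit 1), (nat_lit 3)], (nat_lit 7), (nat_lit 0), (nat_lit 0), (nat_lit 3)⟩) (BT.leaf ⟨[(nat_lit 1), (nat_lit 4), (nat_lit 1), (nat_lit 4)], (nat_lit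 8), (nat_lit 0), (nat_lit 0), (nat_lit 3)⟩)) (BT.node (nat_lit 23) (BT.leaf ⟨[(nat_lit 1), (nat_lit 6), (nat_lit 1), (nat_lit 7)], (nat_lit 11), (nat_lit 3), (nat_lit 0), (nat_lit 3)⟩) (BT.leaf ⟨[(nat_lit 1), (nat_lit 7), (nat_lit 1), (nat_lit 6)], (nat_lit 11), (nat_lit 1), (nat_lit 0), (nat_lit 3)⟩)))) (BT.node (nat_lit 28) (BT.node (nat_lit 26) (BT.node (nat_lit 25) (BT.leaf ⟨[(nat_lit 3), (nat_lit 8), (nat_lit 1), (nat_lit 9)], (nat_lit 15), (nat_lit 3), (nat_lit 0), (nat_lit 3)⟩) (BT.leaf ⟨[(nat_lit 3), (nat_lit 9), (nat_lit 1), (nat_lit 8)], (nat_lit 17), (nat_lit 1), (nat_lit 0), (nat_lit 3)⟩)) (BT.node (nat_lit 27) (BT.leaf ⟨[(nat_lit 2), (nat_lit 3), (nat_lit 2), (nat_lit 3)], (nat_lit 9), (nat_lit 0), (nat_lit 0), (nat_lit 3)⟩) (BT.leaf ⟨[(nat_lit 2), (nat_lit 4), (nat_lit 2), (nat_lit 4)], (nat_lit 10), (nat_lit 0), (nat_lit 0), (nat_lit 3)⟩))) (BT.node (nat_lit 30) (BT.node (nat_lit 29) (BT.leaf ⟨[(nat_lit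 4), (nat_lit 8), (nat_lit 2), (nat_lit 9)], (nat_lit 16), (nat_lit 3), (nat_lit 0), (nat_lit 3)⟩) (BT.leaf ⟨[(nat_lit 4), (nat_lit 9), (nat_lit 2), (nat_lit 8)], (nat_lit 18), (nat_lit 1), (nat_lit 0), (nat_lit 3)⟩)) (BT.node (nat_lit 31) (BT.leaf ⟨[(nat_lit 3), (nat_lit 6), (nat_lit 3), (nat_lit 7)], (nat_lit 13), (nat_lit 3), (nat_lit 0), (nat_lit 3)⟩) (BT.node (nat_lit 32) (BT.leaf ⟨[(nat_lit 3), (nat_lit 7), (nat_lit 3), (nat_lit 6)], (nat_lit 13), (nat_lit 1), (nat_lit 0), (nat_lit 3)⟩) (BT.leaf ⟨[(nat_lit 1), (nat_lit 9), (nat_lit 3), (nat_lit 8)], (nat_lit 15), (nat_lit 1), (nat_lit 0), (nat_lit 3)⟩))))))) (BT.node (nat_lit 50) (BT.node (nat_lit 41) (BT.node (nat_lit 37) (BT.node (nat_lit 35) (BT.node (nat_lit 34) (BT.leaf ⟨[(nat_lit 1), (nat_lit 8), (nat_lit 3), (nat_lit 9)], (nat_lit 17), (nat_lit 3), (nat_lit 0), (nat_lit 3)⟩) (BT.leaf ⟨[(nat_lit 2), (nat_lit 9), (nat_lit 4), (nat_lit 8)], (nat_lit 16),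 (nat_lit 1), (nat_lit 0), (nat_lit 3)⟩)) (BT.node (nat_lit 36) (BT.leaf ⟨[(nat_lit 2), (nat_lit 8), (nat_lit 4), (nat_lit 9)], (nat_lit 18), (nat_lit 3), (nat_lit 0), (nat_lit 3)⟩) (BT.leaf ⟨[(nat_lit 6), (nat_lit 8), (nat_lit 6), (nat_lit 8)], (nat_lit 21), (nat_lit 0), (nat_lit 0), (nat_lit 3)⟩))) (BT.node (nat_lit 39) (BT.node (nat_lit 38) (BT.leaf ⟨[(nat_lit 6), (nat_lit 5), (nat_lit 6)], (nat_lit 19), (nat_lit 1), (nat_lit 0), (nat_lit 3)⟩) (BT.leaf ⟨[(nat_lit 9), (nat_lit 4), (nat_lit 8), (nat_lit 2)], (nat_lit 16), (nat_lit 2), (nat_lit 0), (nat_lit 3)⟩)) (BT.node (nat_lit 40) (BT.leaf ⟨[(nat_lit 8), (nat_lit 4), (nat_lit 9), (nat_lit 2)], (nat_lit 18), (nat_lit 0), (nat_lit 0), (nat_lit 3)⟩) (BT.leaf ⟨[(nat_lit 5), (nat_lit 9), (nat_lit 9)], (nat_lit 49), (nat_lit 0), (nat_lit 0), (nat_lit 3)⟩)))) (BT.node (nat_lit 45) (BT.node (nat_lit 43) (BT.node (nat_lit 42) (BT.leaf ⟨[(nat_lit 8), (nat_lit 2), (nat_lit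 9), (nat_lit 4)], (nat_lit 16), (nat_lit 0), (nat_lit 0), (nat_lit 3)⟩) (BT.leaf ⟨[(nat_lit 9), (nat_lit 2), (nat_lit 8), (nat_lit 4)], (nat_lit 18), (nat_lit 2), (nat_lit 0), (nat_lit 3)⟩)) (BT.node (nat_lit 44) (BT.leaf ⟨[(nat_lit 1), (nat_lit 2), (nat_lit 5), (nat_lit 1), (nat_lit 2)], (nat_lit 5), (nat_lit 2), (nat_lit 0), (nat_lit 3)⟩) (BT.leaf ⟨[(nat_lit 5), (nat_lit 1), (nat_lit 2), (nat_lit 1), (nat_lit 2)], (nat_lit 5), (nat_lit 4), (nat_lit 0), (nat_lit 3)⟩))) (BT.node (nat_lit 47) (BT.node (nat_lit 46) (BT.leaf ⟨[(nat_lit 2), (nat_lit 1), (nat_lit 2), (nat_lit 1), (nat_lit 5)], (nat_lit 34), (nat_lit 1), (nat_lit 0), (nat_lit 3)⟩) (BT.leaf ⟨[(nat_lit 4), (nat_lit 7), (nat_lit 4), (nat_lit 1), (nat_lit 6)], (nat_lit 14), (nat_lit 1), (nat_lit 0), (nat_lit 3)⟩)) (BT.node (nat_lit 48) (BT.leaf ⟨[(nat_lit 6), (nat_lit 4), (nat_lit 7), (nat_lit 1), (nat_lit 4)], (nat_lit 43), (nat_lit 2), (nat_lit 0), (nat_lit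 3)⟩) (BT.node (nat_lit 49) (BT.leaf ⟨[(nat_lit 4), (nat_lit 2), (nat_lit 4), (nat_lit 2)], (nat_lit 10), (nat_lit 1), (nat_lit 0), (nat_lit 3)⟩) (BT.leaf ⟨[(nat_lit 9), (nat_lit 3), (nat_lit 8), (nat_lit 1)], (nat_lit 15), (nat_lit 2), (nat_lit 0), (nat_lit 3)⟩)))))) (BT.node (nat_lit 58) (BT.node (nat_lit 54) (BT.node (nat_lit 52) (BT.node (nat_lit 51) (BT.leaf ⟨[(nat_lit 3), (nat_lit 2), (nat_lit 3), (nat_lit 2)], (nat_lit 9), (nat_lit 1), (nat_lit 0), (nat_lit 3)⟩) (BT.leaf ⟨[(nat_lit 3), (nat_lit 2), (nat_lit 6), (nat_lit 2), (nat_lit 7)], (nat_lit 12), (nat_lit 3), (nat_lit 0), (nat_lit 3)⟩)) (BT.node (nat_lit 53) (BT.leaf ⟨[(nat_lit 2), (nat_lit 7), (nat_lit 3), (nat_lit 2), (nat_lit 6)], (nat_lit 12), (nat_lit 1), (nat_lit 0), (nat_lit 3)⟩) (BT.leaf ⟨[(nat_lit 6), (nat_lit 2), (nat_lit 7), (nat_lit 2), (nat_lit 3)], (nat_lit 41), (nat_lit 2), (nat_lit 0), (nat_lit 3)⟩))) (BT.node (nat_lit 56) (BT.node (nat_lit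 55) (BT.leaf ⟨[(nat_lit 2), (nat_lit 3), (nat_lit 6), (nat_lit 2), (nat_lit 7)], (nat_lit 41), (nat_lit 0), (nat_lit 0), (nat_lit 3)⟩) (BT.leaf ⟨[(nat_lit 3), (nat_lit 4), (nat_lit 5), (nat_lit 3), (nat_lit 4)], (nat_lit 6), (nat_lit 2), (nat_lit 0), (nat_lit 3)⟩)) (BT.node (nat_lit 57) (BT.leaf ⟨[(nat_lit 5), (nat_lit 3), (nat_lit 4), (nat_lit 3), (nat_lit 4)], (nat_lit 6), (nat_lit 4), (nat_lit 0), (nat_lit 3)⟩) (BT.leaf ⟨[(nat_lit 4), (nat_lit 3), (nat_lit 4), (nat_lit 3), (nat_lit 5)], (nat_lit 35), (nat_lit 1), (nat_lit 0), (nat_lit 3)⟩)))) (BT.node (nat_lit 62) (BT.node (nat_lit 60) (BT.node (nat_lit 59) (BT.leaf ⟨[(nat_lit 3), (nat_lit 1), (nat_lit 3), (nat_lit 1)], (nat_lit 7), (nat_lit 1), (nat_lit 0), (nat_lit 3)⟩) (BT.leaf ⟨[(nat_lit 4), (nat_lit 1), (nat_lit 4), (nat_lit 1)], (nat_lit 8), (nat_lit 1), (nat_lit 0), (nat_lit 3)⟩)) (BT.node (nat_lit 61) (BT.leaf ⟨[(nat_lit 9), (nat_lit 1), (nat_lit 8),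 (nat_lit 3)], (nat_lit 17), (nat_lit 2), (nat_lit 0), (nat_lit 3)⟩) (BT.leaf ⟨[(nat_lit 4), (nat_lit 1), (nat_lit 6), (nat_lit 4), (nat_lit 7)], (nat_lit 14), (nat_lit 3), (nat_lit 0), (nat_lit 3)⟩))) (BT.node (nat_lit 64) (BT.node (nat_lit 63) (BT.leaf ⟨[(nat_lit 6), (nat_lit 4), (nat_lit 7), (nat_lit 4), (nat_lit 1)], (nat_lit 14), (nat_lit 0), (nat_lit 0), (nat_lit 3)⟩) (BT.leaf ⟨[(nat_lit 4), (nat_lit 7), (nat_lit 1), (nat_lit 4), (nat_lit 6)], (nat_lit 43), (nat_lit 3), (nat_lit 0), (nat_lit 3)⟩)) (BT.node (nat_lit 65) (BT.leaf ⟨[(nat_lit 1), (nat_lit 4), (nat_lit 6), (nat_lit 4), (nat_lit 7)], (nat_lit 43), (nat_lit 0), (nat_lit 0), (nat_lit 3)⟩) (BT.node (nat_lit 66) (BT.leaf ⟨[(nat_lit 6), (nat_lit 3), (nat_lit 7), (nat_lit 3)], (nat_lit 13), (nat_lit 0), (nat_lit 0), (nat_lit 3)⟩) (BT.leaf ⟨[(nat_lit 7), (nat_lit 3), (nat_lit 6), (nat_lit 3)], (nat_lit 13), (nat_lit 2), (nat_lit 0), (nat_lit 3)⟩))))))))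
noncomputable def eV110_hcs : List CW := []
noncomputable def eV110_H (x j : Nat) : Bx (Nat → Nat → Nat) := mkH eV110_L eV110_pb.1 eV110_e.get (lmap CW.w eV110_hcs) (nat_lit 128) (nat_lit 129) (nat_lit 10) (nat_lit 256) (nat_lit 32768) (nat_lit 16383) x (eV110_rots.get j)
noncomputable def eV110_F (x b : Nat) : Bool := blkOK eV110_H eV110_ch (nat_lit 129) (nat_lit 256) (nat_lit 128) (nat_lit 8) (nat_lit 255) (nat_lit 20) (nat_lit 1048575) x b

theorem eV110_k0_0 : allFrom (eV110_F (nat_lit 0)) (nat_lit 0) (nat_lit 4) = true := by decide +kernel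
theorem eV110_k1_0 : allFrom (eV110_F (nat_lit 1)) (nat_lit 0) (nat_lit 4) = true := by decide +kernel
theorem eV110_k2_0 : allFrom (eV110_F (nat_lit 2)) (nat_lit 0) (nat_lit 4) = true := by decide +kernel
theorem eV110_k3_0 : allFrom (eV110_F (nat_lit 3)) (nat_lit 0) (nat_lit 4) = true := by decide +kernel
theorem eV110_k4_0 : allFrom (eV110_F (nat_lit 4)) (nat_lit 0) (nat_lit 4) = true := by decide +kernel
theorem eV110_k5_0 : allFrom (eV110_F (nat_lit 5)) (nat_lit 0) (nat_lit 4) = true := by decide +kernel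
theorem eV110_k6_0 : allFrom (eV110_F (nat_lit 6)) (nat_lit 0) (nat_lit 4) = true := by decide +kernel
theorem eV110_k7_0 : allFrom (eV110_F (nat_lit 7)) (nat_lit 0) (nat_lit 4) = true := by decide +kernel
theorem eV110_k8_0 : allFrom (eV110_F (nat_lit 8)) (nat_lit 0) (nat_lit 4) = true := by decide +kernel
theorem eV110_k9_0 : allFrom (eV110_F (nat_lit 9)) (nat_lit 0) (nat_lit 4) = true := by decide +kernel

theorem eV110_all : Cov eV110_F 4 10 0 := by
  have h := Cov.zero eV110_F 4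
  have h := h.blk (b := 4) eV110_k0_0 rfl
  have h := h.next (y := 1) rfl rfl
  have h := h.blk (b := 4) eV110_k1_0 rfl
  have h := h.next (y := 2) rfl rfl
  have h := h.blk (b := 4) eV110_k2_0 rfl
  have h := h.next (y := 3) rfl rfl
  have h := h.blk (b := 4) eV110_k3_0 rfl
  have h := h.next (y := 4) rfl rfl
  have h := h.blk (b := 4) eV110_k4_0 rfl
  have h := h.next (y := 5) rfl rfl
  have h := h.blk (b := 4) eV110_k5_0 rfl
  have h := h.next (y := 6) rfl rfl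
  have h := h.blk (b := 4) eV110_k6_0 rfl
  have h := h.next (y := 7) rfl rfl
  have h := h.blk (b := 4) eV110_k7_0 rfl
  have h := h.next (y := 8) rfl rfl
  have h := h.blk (b := 4) eV110_k8_0 rfl
  have h := h.next (y := 9) rfl rfl
  have h := h.blk (b := 4) eV110_k9_0 rfl
  have h := h.next (y := 10) rfl rfl
  exact h

theorem eV110 : Enum RV110 [] (gensW 7) 128 :=
  ⟨eV110_cols, eV110_ch, eV110_L, eV110_H, eV110_pb.1, eV110_e.get, [(nat_lit 0), (nat_lit 1), (nat_lit 3), (nat_lit 5), (nat_lit 7), (nat_lit 9), (nat_lit 11), (nat_lit 12), (nat_lit 13), (nat_lit 14)], (nat_lit 31), (nat_lit 7), eV110_rots, eV110_hcs,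
    (nat_lit 129), (nat_lit 10), (nat_lit 256), (nat_lit 128), (nat_lit 32768), (nat_lit 16383), (nat_lit 8), (nat_lit 255), (nat_lit 20), (nat_lit 1048575), (nat_lit 1), (nat_lit 4),
    fun _ _ => rfl, fun _ => rfl, fun _ _ => rfl, by decide +kernel, eV110_all.1⟩

theorem pV110 : TV110.Pres RV110 (gensW 7) := ⟨CT.ok_spec TV110_ok, lall_iff.1 TV110_rel, by decide +kernel,
  by decide +kernel, by decide +kernel, eV110.bound (ug_rels _) (bound_nil _)⟩

instance instTV110 : TV110.Grp := pV110.grp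


end CF.Gb
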