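import Cfsg.Agent.Gb.T1

/-! Extensions of `2^{1+4}_+` by a four-group or a dihedral group. -/

set_option autoImplicit false
set_option maxRecDepth 1000000
set_option maxHeartbeats 0
set_option Elab.async false

namespace CF.Gb

open CF.Comp CF.Cod

noncomputable def SS000 : List (List Nat) := [[(nat_lit 11), (nat_lit 11)],
  [(nat_lit 13), (nat_lit 13)],
  [(nat_lit 11), (nat_lit 13), (nat_lit 11), (nat_lit 13)]]
noncomputable def RS000 : List (List Nat) := lapp RP (lapp Rs15 (lapp Rs26 SS000))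
noncomputable def TS000_c0 : BT (Bx Nat) := (BT.node (nat_lit 1) (BT.leaf (Bx.mk (nat_lit 0x46bd4ba56f1cae44d13b666c12327ce14217699ead6aa92b17edd6203e78e9a36709922e50a96326088e1e4068c16184880e282840608080))) (BT.leaf (Bx.mk (nat_lit 0xd9f7f7ce3ebceedb9baeae7c3df2d3e3bffc9d37e2cfdb2ebc3a31e083267dc896a9d2911a3cab3625cebb42143a352f57ab5a2db9936fc0))))
noncomputable def TS000_c1 : BT (Bx Nat) := (BT.node (nat_lit 1) (BT.leaf (Bx.mk (nat_lit 0x6a9d2af608d4b654e1fb242d16bb78ad8a05cddca67ca1ea274919ac347099e247c60b224078e3a6cb962a50319300828406344880e28001))) (BT.leaf (Bx.mk (nat_lit 0xe7e7d6cdbf7f6ae9a34f7ff9b764cbc7dfcc5e3af6c3cb7f0c1af3e381163c1af261d1b7366429f12c4aa71ab559142d4bbb3af52b352e5f))))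
noncomputable def TS000_c3 : BT (Bx Nat) := (BT.node (nat_lit 1) (BT.leaf (Bx.mk (nat_lit 0x76ad5387ec96bc408d72f44e90a768d5ca67cf522560b14296ccd8b72c508901e38b95327cc1e101ce9c36682840624513240468c1600302))) (BT.leaf (Bx.mk (nat_lit 0xd7ef372fde317acbbf863dbf34f5ed9f9eaffb38e0ddf7be1e9e7268a95a24e8742447a77a95faf5665a97720519f06359b12615db71654d))))
noncomputable def TS000_c5 : BT (Bx Nat) := (BT.node (nat_lit 1) (BT.leaf (Bx.mk (nat_lit 0x40953a16ea51b176b56225e91c2a6699b3550c1d2b7ab9f3272d1e3f2664d0c1a74f0a28204973e187040a44d9c0460a960248790002c383))) (BT.leaf (Bx.mk (nat_lit 0xf5f39fee5ff66be3c37eefbefbf6ebd3379f18b2e4c7b74e8cfab061ab1e2cfa10e4d69562fd283526dbb92e8c09d5ecc6bd22ec2b5129cc))))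
noncomputable def TS000_c7 : BT (Bx Nat) := (BT.node (nat_lit 1) (BT.leaf (Bx.mk (nat_lit 0x64e112b74ed33e429da3554fd0235cbd62d78cd4296ce522560f5bb1304869b382c51f1254b070c7828f200ce823464b81284c8801c30404))) (BT.leaf (Bx.mk (nat_lit 0xd1df764cbc7a69fdcf579ed87d6cdbf77f0c1d7c7fcd9fdfcc58f96baf228518112b41bf66353a926e5d85321ce8b1e95e95565da9b3ec5b))))
noncomputable def TS000_c9 : BT (Bx Nat) := (BT.node (nat_lit 1) (BT.leaf (Bx.mk (nat_lit 0x7cfd63a56f19b250d13b672e122e46c113d76990b76aa90315eb54a53c7c61a16709921050396326020e064011d36180972a280111e34485))) (BT.leaf (Bx.mk (nat_lit 0xfdff67ad7f39f2d1d33f6f3e326ec7c317df79b0f7ebab071dfb74e5bd7e65a97729d291523d6b36224e874215db71a0d7ab2a0519f364c5))))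
noncomputable def TS000_c11 : BT (Bx Nat) := (BT.node (nat_lit 1) (BT.leaf (Bx.mk (nat_lit 0x3e78e9c3668c982e58a9426488901e3868c16284880e1828406080807ef9ebc76e9cb86ed9ab466c98b05eb96ac56a94a84e992a446890a0))) (BT.leaf (Bx.mk (nat_lit 0xbf7aedcb76acd8af5aad4a74a8d09f3a6cc972a4c88f1a2c4870a0c0fffbefcf7ebcf8efdbaf4e7cb8f0dfbb6ecd7ab4e8cf9b2e4c78b0e0))))
noncomputable def TS000_c13 : BT (Bx Nat) := (BT.node (nat_lit 1) (BT.leaf (Bx.mk (nat_lit 0xfffbefcf7ebcf8efdbaf4e7cb8f0dfbb6ecd7ab4e8cf9b2e4c78b0e0bf7aedcb76acd8af5aad4a74a8d09f3a6cc972a4c88f1a2c4870a0c0))) (BT.leaf (Bx.mk (nat_lit 0x7ef9ebc76e9cb86ed9ab466c98b05eb96ac56a94a84e992a446890a03e78e9c3668c982e58a9426488901e3868c16284880e182840608080))))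
noncomputable def TS000_w : BT (Bx Nat) := (BT.node (nat_lit 1) (BT.leaf (Bx.mk (nat_lit 0xb57310b753100b97300b57300b95300b75300b71300b51300b97100b57100b95100b75100b73100b531000b97000b57000b95000b75000b93000b73000b53000b13000b91000b71000b51000b310000b90000b70000b50000b30000b100000b005731007531000973000573000953000753000713000513000971000571000951000751000731000531000097000057000095000075000093000073000053000013000091000071000051000031000009000007000005000003000001000000))) (BT.leaf (Bx.mk (nat_lit 0xdb5731db75310db9730db5730db9530db7530db7130db5130db9710db5710db9510db7510db7310db53100db9700db5700db9500db7500db9300db7300db5300db1300db9100db7100db5100db31000db9000db7000db5000db3000db10000db0d57310d753100d97300d57300d95300d75300d71300d51300d97100d57100d95100d75100d73100d531000d97000d57000d95000d75000d93000d73000d53000d13000d91000d71000d51000d310000d90000d70000d50000d30000d100000d))))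
noncomputable def TS000_cols : List (BT (Bx Nat)) := [TS000_c0, TS000_c1, TS000_c1, TS000_c3, TS000_c3, TS000_c5, TS000_c5, TS000_c7, TS000_c7, TS000_c9, TS000_c9, TS000_c11, TS000_c11, TS000_c13, TS000_c13]
noncomputable def TS000_ch (x j : Nat) : Bx Nat := chk TS000_cols x j
noncomputable def TS000_wc (_ j : Nat) : Bx Nat := TS000_w.get j
noncomputable def TS000 : CT := ⟨(nat_lit 128), (nat_lit 7), (nat_lit 127), TS000_ch, (nat_lit 24), (nat_lit 16777215), TS000_wc, (nat_lit 32766)⟩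
theorem TS000_ok : TS000.ok = true := by decide +kernel
theorem TS000_rel : lall TS000.relOK RS000 = true := by decide +kernel
noncomputable def eS000_c0 : BT (Bx Nat) := (BT.leaf (Bx.mk (nat_lit 0x0)))
noncomputable def eS000_c1 : BT (Bx Nat) := (BT.leaf (Bx.mk (nat_lit 0x70c717047992c59804676847820c66a2c5d78c7f7157c78462a8475b157628b6f4846030b6468480a2c382047478b44a846cb156db8425b0c27b0b269954988b7d1847b68b5028472395408427748b5250c73b0b21b841e9847a5842e4842fb841c8847ea8b4738b3c58b3a58435b8418a2c23404615043460465b84176043778b2baac4248c3bb841490468a041da0458a0c2288c297046e78433a044c6042830463a3420b0c11b0b10304574044b50456b840e9847068b4eb840d60c5558c5181543a842aa0b1aa041950c5b60c5c90416a04157044db15328044568c41a846aa8469c016bb84089845398446a845f9843fb8407c015ea8c48c015aa841398431a8b30c0154c014f98c2da8c2cc014ab151ba8409a843ea843db8403c0139c0136a1106b0c05b0b04b1112c0124c011f9840ca840ba840ac010fb8401c010200000)))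
noncomputable def eS000_c2 : BT (Bx Nat) := (BT.leaf (Bx.mk (nat_lit 0x60d7e9a46d585809187a30d76105708857db85498856f88e532857c78560a8573b247420e6c8856618e7b91878a052c9057f18572a395e58d3b9055aa8564b852394071a8d37b246828d30a185db0d21818756854c9856b9856258e42b851c98d699853848d4fa32268055588d566853380577ab02e60546b8517405587054738d3970e5fa854398524c0179a853f7bf4e68d51a0d1aa0519b244b5055c90516a0515b14488053188d2da852f5056ab850e3054da1859a056588513a852b9851b70e54a051d88e3e20563b243ca05528053da8e6eb18359051fb0e0bb0d0aa851898557b8508a334ac0167a850da8561b85079b32aa8514ab032c015ba143498545a8d44b2427c015098e41a8e40b181e90e3698506b0e05b0d04a850cc013ab1422b120fa8529a8528b8502c0125c0120a1212a8511a8510b8501c0109c010300000)))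
noncomputable def eS000_c3 : BT (Bx Nat) := (BT.leaf (Bx.mk (nat_lit 0x6067a41f73a867db1b7e306641067769f805066082e7219f7b81f6891b4939d6d3867f7867889d5d8865391b6c7863e306748866f3863c5863ab86247867688659a8662b862239b7c28629b1b66b862059b79b861f49f2f80671b861d9861ea9f4a91d67b861b9062593a27b861869d3591f7051d3fb86177414651f3471d36aae436062a38639a065a8867559f2eb861368650a8640b8611a064d61f3261f12b21454865281d6eb860f41d6bb860e6416a41f4ba2e23b860d6864e606544864fa862b58642a862cb860b4065e5064891f0cb2131b1b3369d4c31f63b860988656b860899d57c016998638c0165b8607c0161c015fa1d5bc015ca8614c0158a8615b8605c0155c0151a2106b211ab1b1cc014758641c0144b8603c013dc013bc01378862dc0130b8602c0128c0126c012198616c0119b8601c0110c010ac010400000)))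
noncomputable def eS000_c4 : BT (Bx Nat) := (BT.leaf (Bx.mk (nat_lit 0x707759a3625aa602a5722076650778a276ca87775bc7bb2379a27717bc80b8738907592077d987761876f22570b8728a275d9877aaa554b87246872bb8723a87642aa7ca375cb23672873d9077f3874f5077e907477a5339876d98765a87566aa359bc739872128739b235b7871ca076b93d49b871762a2aab12e42561a874c90726b274eb87144873b88753b87139a55fa071f88712a8741a231e62537b2244b871090736b870f32563b870e52a4aa872f32557c0174587429a53f6075aa87327075eb27348870ca872db233aa0750b2230b870a7256958751b8709c016eb87089b64da8718c016ac0168b8707a3658a870daa74698743a871b82a55b271d98706a8716b2325c0152b2219b8704c014bc014892a45b8703c0140c013ec013cb132092531b8702c012cc0129c0127c0122a221ab8701c0115c0111c010bc010500000)))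
noncomputable def eS000_c5 : BT (Bx Nat) := (BT.leaf (Bx.mk (nat_lit 0x50870788640887b817772087311a7e89a5381a7289a607887daa67479a6fa08762977c788799a938597807087522063aa6689a9499084a588335bb2fa086da886290859908588177f1886eb17675bb42808786bb2e8882499a2388821a1a268a63c99a669a0659081c83b4d2973969a3b8087aa884c19a3681a4732037aa91778856b2652988189906b9086ca081f78850a2913b8811a8840a082750861b8810b20448b52a73b29697288085a60854a882b20855908712884f10851a9a0eaa90d63b6aa2620b880ba882c508696085fb880ab2030b173a8083f6883e6083da9a439885ba88149105e9085da881b9205c98832aa648a9a08aa90799757b2622b8805a8815a174ba084eb8804b2019b172598846b8803c0145c0141a8809a0835a0834b8802c0131c012db100fa081ea081db8801c011ac0116c0112c010cc010600000)))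
noncomputable def eS000_c6 : BT (Bx Nat) := (BT.leaf (Bx.mk (nat_lit 0x544698895ea0f561096b90f55b0f4db894b789548095ba094ab893cb893a9095a80939a0f3bb0f35b0f2fb0f2b5165cb8927b89251b87d79662489809894388f33a8f576093da0924b89217096a78941a0f260892d9387fb0f1e4896e88f789b874b0f1c4c328a09669897e8897c83879b0f18a09195893e9893098940b8916a897bb8915c017aab877b0f14a89453892cb8912b284818937a2868b891080f61a2b4fb890f60f5168f65c017698972c01758b873b0f0e20f44a8929a8971b890c80967b890ba2820a2850a8970b890a10f5f41647a896fb8909b163640958c016d98960c016cab864b0f08a891ac016398931a8911a895db8906a8959b8905b2822aa852a8953b8904c014ec014ca8949b8903c0146b161fc0142c013fa8938b8902c0134c0132c012ec012aa8923b8901c011dc011bc0117c0113c010dc010700000)))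
noncomputable def eS000_c7 : BT (Bx Nat) := (BT.leaf (Bx.mk (nat_lit 0xb8a5fb8a5cb8a52b8a50b8a4fb8a4c99e4e78a51b8a48b8a4778a65a1e3f90a58b8a37b8a36b8a34b8a2eb8a2a41c5e88a61a9e4608a3068a311be2d99e4288a32b8a2283e76b8a21a1e24b8a2093e6db8a1fc018038a6eb8a1dc017f88a4538a28b8a1b9be74b8a1ab8a1998a406c53eb8a17c017e83e79c017dc017c90a7ab8a15c017b98a1628a2cb8a13c0178c0177a0a6c92f5b29939b8a1090a6892f27a2d5598a7560a547af3c70a3da8a29a0a0f20a44b8a0dc0173c0172b8a0cc0171b8a0b9196771e6a11e6bb8a0ac017010a6931c4ab8a09c016fb1c3b41e5a88a41a8a11a8a1298a63b8a07c0166c0164c0162c0160b8a06c015db8a05c0159c0157c0156b8a04c0153a194bc014db8a03c0149b1925b1c26c0143a993ab8a02c0138c0135c0133c012fc012bb8a01c0123c011ec011cc0118c0114c010ec010800000)))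
noncomputable def eS000_p : BT (Bx Nat) := (BT.leaf (Bx.mk (nat_lit 0x117c78b83c521e280f13c78983c4b1a2485120788e3c3c1a1d0d0e0486e3c361e1a0f0b878543c2811938cc94664a0b24119206c8c464613221d9106c84764233201d9006c7c763e1b1e058e8ec743638131c058d8ec6c36343b191d8c06c60162e3b17118b86c5c262e0b16198a8ec546628231405898ec4c46261b1219888ac4436203b1019880ac40461e330f118786c38461c1b0e098702c34761a1b0d05860ec3066163b0b19858ac2c36143b0a19850ac2846123b09198488c24341022080d0404820140e3a0711038681c240e0a061d030c814740a32051502868107408320415020880c7406320315018880c34060a021d010c808540422020d010440472023101148088404320211010400000000)))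
noncomputable def eS000_e : BT Nat := BT.leaf (nat_lit 0)
noncomputable def eS000_cols : List (BT (Bx Nat)) := [eS000_c0, eS000_c1, eS000_c2, eS000_c3, eS000_c4, eS000_c5, eS000_c6, eS000_c7]
noncomputable def eS000_ch (x j : Nat) : Bx Nat := chunkG eS000_cols (nat_lit 1) x j
noncomputable def eS000_L (x : Nat) : Bx (Nat → Nat) := lookG eS000_ch (nat_lit 8) (nat_lit 255) (nat_lit 20) (nat_lit 1048575) x
noncomputable def eS000_pc (_ j : Nat) : Bx Nat := eS000_p.get j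
noncomputable def eS000_pb : Bx (Nat → Nat) := lookG eS000_pc (nat_lit 8) (nat_lit 255) (nat_lit 17) (nat_lit 131071) (nat_lit 0)
noncomputable def eS000_rots : BT CW := (BT.node (nat_lit 34) (BT.node (nat_lit 17) (BT.node (nat_lit 8) (BT.node (nat_lit 4) (BT.node (nat_lit 2) (BT.node (nat_lit 1) (BT.leaf ⟨[], (nat_lit 1000000), (nat_lit 0), (nat_lit 0), (nat_lit 0)⟩) (BT.leaf ⟨[], (nat_lit 1000000), (nat_lit 0), (nat_lit 0), (nat_lit 1)⟩)) (BT.node (nat_lit 3) (BT.leaf ⟨[], (nat_lit 1000000), (nat_lit 0), (nat_lit 0), (nat_lit 2)⟩) (BT.leaf ⟨[(nat_lit 1), (nat_lit 1)], (nat_lit 0), (nat_lit 0), (nat_lit 0), (nat_lit 3)⟩))) (BT.node (nat_lit 6) (BT.node (nat_lit 5) (BT.leaf ⟨[(nat_lit 2), (nat_lit 2)], (nat_lit 1), (nat_lit 0), (nat_lit 0), (nat_lit 3)⟩) (BT.leaf ⟨[(nat_lit 3), (nat_lit 3)], (nat_lit 2), (nat_lit 0), (nat_lit 0), (nat_lit 3)⟩)) (BT.node (nat_lit 7) (BT.leaf ⟨[(nat_lit 4), (nat_lit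 4)], (nat_lit 3), (nat_lit 0), (nat_lit 0), (nat_lit 3)⟩) (BT.leaf ⟨[(nat_lit 5), (nat_lit 5)], (nat_lit 4), (nat_lit 0), (nat_lit 0), (nat_lit 3)⟩)))) (BT.node (nat_lit 12) (BT.node (nat_lit 10) (BT.node (nat_lit 9) (BT.leaf ⟨[(nat_lit 6), (nat_lit 6)], (nat_lit 19), (nat_lit 0), (nat_lit 0), (nat_lit 3)⟩) (BT.leaf ⟨[(nat_lit 7), (nat_lit 7)], (nat_lit 20), (nat_lit 0), (nat_lit 0), (nat_lit 3)⟩)) (BT.node (nat_lit 11) (BT.leaf ⟨[(nat_lit 1), (nat_lit 3), (nat_lit 1), (nat_lit 3)], (nat_lit 7), (nat_lit 0), (nat_lit 0), (nat_lit 3)⟩) (BT.leaf ⟨[(nat_lit 1), (nat_lit 4), (nat_lit 1), (nat_lit 4)], (nat_lit 8), (nat_lit 0), (nat_lit 0), (nat_lit 3)⟩))) (BT.node (nat_lit 14) (BT.node (nat_lit 13) (BT.leaf ⟨[(nat_lit 2), (nat_lit 3), (nat_lit 2), (nat_lit 3)], (nat_lit 9), (nat_lit 0), (nat_lit 0), (nat_lit 3)⟩) (BT.leaf ⟨[(nat_lit 2), (nat_lit 4), (nat_lit 2), (nat_lit 4)], (nat_lit 10), (nat_lit 0),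 (nat_lit 0), (nat_lit 3)⟩)) (BT.node (nat_lit 15) (BT.leaf ⟨[(nat_lit 6), (nat_lit 7), (nat_lit 6), (nat_lit 7)], (nat_lit 21), (nat_lit 0), (nat_lit 0), (nat_lit 3)⟩) (BT.node (nat_lit 16) (BT.leaf ⟨[(nat_lit 5), (nat_lit 1), (nat_lit 2), (nat_lit 1), (nat_lit 2)], (nat_lit 5), (nat_lit 4), (nat_lit 0), (nat_lit 3)⟩) (BT.leaf ⟨[(nat_lit 1), (nat_lit 5), (nat_lit 2), (nat_lit 1), (nat_lit 2)], (nat_lit 34), (nat_lit 4), (nat_lit 0), (nat_lit 3)⟩)))))) (BT.node (nat_lit 25) (BT.node (nat_lit 21) (BT.node (nat_lit 19) (BT.node (nat_lit 18) (BT.leaf ⟨[(nat_lit 2), (nat_lit 1), (nat_lit 2), (nat_lit 1), (nat_lit 5)], (nat_lit 34), (nat_lit 1), (nat_lit 0), (nat_lit 3)⟩) (BT.leaf ⟨[(nat_lit 4), (nat_lit 2), (nat_lit 6), (nat_lit 1), (nat_lit 6)], (nat_lit 11), (nat_lit 3), (nat_lit 0), (nat_lit 3)⟩)) (BT.node (nat_lit 20) (BT.leaf ⟨[(nat_lit 2), (nat_lit 4), (nat_lit 6), (nat_lit 1), (nat_lit 6)], (nat_lit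 40), (nat_lit 0), (nat_lit 0), (nat_lit 3)⟩) (BT.leaf ⟨[(nat_lit 1), (nat_lit 6), (nat_lit 4), (nat_lit 2), (nat_lit 6)], (nat_lit 11), (nat_lit 1), (nat_lit 0), (nat_lit 3)⟩))) (BT.node (nat_lit 23) (BT.node (nat_lit 22) (BT.leaf ⟨[(nat_lit 6), (nat_lit 1), (nat_lit 6), (nat_lit 2), (nat_lit 4)], (nat_lit 40), (nat_lit 2), (nat_lit 0), (nat_lit 3)⟩) (BT.leaf ⟨[(nat_lit 5), (nat_lit 2), (nat_lit 7), (nat_lit 2), (nat_lit 7)], (nat_lit 16), (nat_lit 3), (nat_lit 0), (nat_lit 3)⟩)) (BT.node (nat_lit 24) (BT.leaf ⟨[(nat_lit 2), (nat_lit 7), (nat_lit 5), (nat_lit 2), (nat_lit 7)], (nat_lit 16), (nat_lit 1), (nat_lit 0), (nat_lit 3)⟩) (BT.leaf ⟨[(nat_lit 7), (nat_lit 2), (nat_lit 7), (nat_lit 2), (nat_lit 5)], (nat_lit 45), (nat_lit 2), (nat_lit 0), (nat_lit 3)⟩)))) (BT.node (nat_lit 29) (BT.node (nat_lit 27) (BT.node (nat_lit 26) (BT.leaf ⟨[(nat_lit 5), (nat_lit 7), (nat_lit 2), (nat_lit 7), (nat_lit 2)],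 (nat_lit 45), (nat_lit 1), (nat_lit 0), (nat_lit 3)⟩) (BT.leaf ⟨[(nat_lit 3), (nat_lit 7), (nat_lit 4), (nat_lit 2), (nat_lit 7)], (nat_lit 17), (nat_lit 1), (nat_lit 0), (nat_lit 3)⟩)) (BT.node (nat_lit 28) (BT.leaf ⟨[(nat_lit 7), (nat_lit 3), (nat_lit 7), (nat_lit 2), (nat_lit 4)], (nat_lit 46), (nat_lit 2), (nat_lit 0), (nat_lit 3)⟩) (BT.leaf ⟨[(nat_lit 3), (nat_lit 2), (nat_lit 3), (nat_lit 2)], (nat_lit 9), (nat_lit 1), (nat_lit 0), (nat_lit 3)⟩))) (BT.node (nat_lit 31) (BT.node (nat_lit 30) (BT.leaf ⟨[(nat_lit 7), (nat_lit 6), (nat_lit 7), (nat_lit 6)], (nat_lit 21), (nat_lit 1), (nat_lit 0), (nat_lit 3)⟩) (BT.leaf ⟨[(nat_lit 3), (nat_lit 1), (nat_lit 3), (nat_lit 1)], (nat_lit 7), (nat_lit 1), (nat_lit 0), (nat_lit 3)⟩)) (BT.node (nat_lit 32) (BT.leaf ⟨[(nat_lit 5), (nat_lit 3), (nat_lit 4), (nat_lit 3), (nat_lit 4)], (nat_lit 6), (nat_lit 4), (nat_lit 0), (nat_lit 3)⟩) (BT.node (nat_lit 33)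 (BT.leaf ⟨[(nat_lit 3), (nat_lit 5), (nat_lit 4), (nat_lit 3), (nat_lit 4)], (nat_lit 35), (nat_lit 4), (nat_lit 0), (nat_lit 3)⟩) (BT.leaf ⟨[(nat_lit 4), (nat_lit 3), (nat_lit 4), (nat_lit 3), (nat_lit 5)], (nat_lit 35), (nat_lit 1), (nat_lit 0), (nat_lit 3)⟩))))))) (BT.node (nat_lit 51) (BT.node (nat_lit 42) (BT.node (nat_lit 38) (BT.node (nat_lit 36) (BT.node (nat_lit 35) (BT.leaf ⟨[(nat_lit 4), (nat_lit 2), (nat_lit 7), (nat_lit 3), (nat_lit 7)], (nat_lit 17), (nat_lit 3), (nat_lit 0), (nat_lit 3)⟩) (BT.leaf ⟨[(nat_lit 2), (nat_lit 4), (nat_lit 7), (nat_lit 3), (nat_lit 7)], (nat_lit 46), (nat_lit 0), (nat_lit 0), (nat_lit 3)⟩)) (BT.node (nat_lit 37) (BT.leaf ⟨[(nat_lit 4), (nat_lit 1), (nat_lit 4), (nat_lit 1)], (nat_lit 8), (nat_lit 1), (nat_lit 0), (nat_lit 3)⟩) (BT.leaf ⟨[(nat_lit 5), (nat_lit 4), (nat_lit 6), (nat_lit 4), (nat_lit 6)], (nat_lit 14), (nat_lit 3), (nat_lit 0), (nat_lit 3)⟩)))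 (BT.node (nat_lit 40) (BT.node (nat_lit 39) (BT.leaf ⟨[(nat_lit 4), (nat_lit 6), (nat_lit 5), (nat_lit 4), (nat_lit 6)], (nat_lit 14), (nat_lit 1), (nat_lit 0), (nat_lit 3)⟩) (BT.leaf ⟨[(nat_lit 6), (nat_lit 4), (nat_lit 6), (nat_lit 4), (nat_lit 5)], (nat_lit 43), (nat_lit 2), (nat_lit 0), (nat_lit 3)⟩)) (BT.node (nat_lit 41) (BT.leaf ⟨[(nat_lit 5), (nat_lit 6), (nat_lit 4), (nat_lit 6), (nat_lit 4)], (nat_lit 43), (nat_lit 1), (nat_lit 0), (nat_lit 3)⟩) (BT.leaf ⟨[(nat_lit 4), (nat_lit 2), (nat_lit 4), (nat_lit 2)], (nat_lit 10), (nat_lit 1), (nat_lit 0), (nat_lit 3)⟩)))) (BT.node (nat_lit 46) (BT.node (nat_lit 44) (BT.node (nat_lit 43) (BT.leaf ⟨[(nat_lit 6), (nat_lit 1), (nat_lit 6), (nat_lit 4), (nat_lit 2)], (nat_lit 11), (nat_lit 0), (nat_lit 0), (nat_lit 3)⟩) (BT.leaf ⟨[(nat_lit 1), (nat_lit 6), (nat_lit 2), (nat_lit 4), (nat_lit 6)], (nat_lit 40), (nat_lit 3), (nat_lit 0), (nat_lit 3)⟩)) (BT.node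 (nat_lit 45) (BT.leaf ⟨[(nat_lit 7), (nat_lit 3), (nat_lit 7), (nat_lit 4), (nat_lit 2)], (nat_lit 17), (nat_lit 0), (nat_lit 0), (nat_lit 3)⟩) (BT.leaf ⟨[(nat_lit 3), (nat_lit 7), (nat_lit 2), (nat_lit 4), (nat_lit 7)], (nat_lit 46), (nat_lit 3), (nat_lit 0), (nat_lit 3)⟩))) (BT.node (nat_lit 48) (BT.node (nat_lit 47) (BT.leaf ⟨[(nat_lit 7), (nat_lit 2), (nat_lit 7), (nat_lit 5), (nat_lit 2)], (nat_lit 16), (nat_lit 0), (nat_lit 0), (nat_lit 3)⟩) (BT.leaf ⟨[(nat_lit 2), (nat_lit 6), (nat_lit 1), (nat_lit 6), (nat_lit 4)], (nat_lit 11), (nat_lit 4), (nat_lit 0), (nat_lit 3)⟩)) (BT.node (nat_lit 49) (BT.leaf ⟨[(nat_lit 4), (nat_lit 6), (nat_lit 1), (nat_lit 6), (nat_lit 2)], (nat_lit 40), (nat_lit 1), (nat_lit 0), (nat_lit 3)⟩) (BT.node (nat_lit 50) (BT.leaf ⟨[(nat_lit 2), (nat_lit 7), (nat_lit 2), (nat_lit 5), (nat_lit 7)], (nat_lit 45), (nat_lit 3), (nat_lit 0), (nat_lit 3)⟩) (BT.leaf ⟨[(nat_lit 2),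 (nat_lit 1), (nat_lit 2), (nat_lit 5), (nat_lit 1)], (nat_lit 5), (nat_lit 1), (nat_lit 0), (nat_lit 3)⟩)))))) (BT.node (nat_lit 60) (BT.node (nat_lit 55) (BT.node (nat_lit 53) (BT.node (nat_lit 52) (BT.leaf ⟨[(nat_lit 1), (nat_lit 2), (nat_lit 1), (nat_lit 5), (nat_lit 2)], (nat_lit 34), (nat_lit 2), (nat_lit 0), (nat_lit 3)⟩) (BT.leaf ⟨[(nat_lit 5), (nat_lit 2), (nat_lit 1), (nat_lit 2), (nat_lit 1)], (nat_lit 34), (nat_lit 0), (nat_lit 0), (nat_lit 3)⟩)) (BT.node (nat_lit 54) (BT.leaf ⟨[(nat_lit 4), (nat_lit 3), (nat_lit 4), (nat_lit 5), (nat_lit 3)], (nat_lit 6), (nat_lit 1), (nat_lit 0), (nat_lit 3)⟩) (BT.leaf ⟨[(nat_lit 4), (nat_lit 3), (nat_lit 5), (nat_lit 4), (nat_lit 3)], (nat_lit 35), (nat_lit 3), (nat_lit 0), (nat_lit 3)⟩))) (BT.node (nat_lit 57) (BT.node (nat_lit 56) (BT.leaf ⟨[(nat_lit 6), (nat_lit 4), (nat_lit 2), (nat_lit 6), (nat_lit 1)], (nat_lit 11), (nat_lit 2), (nat_lit 0), (nat_lit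 3)⟩) (BT.leaf ⟨[(nat_lit 2), (nat_lit 1), (nat_lit 5), (nat_lit 2), (nat_lit 1)], (nat_lit 34), (nat_lit 3), (nat_lit 0), (nat_lit 3)⟩)) (BT.node (nat_lit 58) (BT.leaf ⟨[(nat_lit 3), (nat_lit 4), (nat_lit 3), (nat_lit 5), (nat_lit 4)], (nat_lit 35), (nat_lit 2), (nat_lit 0), (nat_lit 3)⟩) (BT.node (nat_lit 59) (BT.leaf ⟨[(nat_lit 5), (nat_lit 4), (nat_lit 3), (nat_lit 4), (nat_lit 3)], (nat_lit 35), (nat_lit 0), (nat_lit 0), (nat_lit 3)⟩) (BT.leaf ⟨[(nat_lit 4), (nat_lit 7), (nat_lit 3), (nat_lit 7), (nat_lit 2)], (nat_lit 46), (nat_lit 1), (nat_lit 0), (nat_lit 3)⟩))))) (BT.node (nat_lit 64) (BT.node (nat_lit 62) (BT.node (nat_lit 61) (BT.leaf ⟨[(nat_lit 4), (nat_lit 6), (nat_lit 4), (nat_lit 5), (nat_lit 6)], (nat_lit 43), (nat_lit 3), (nat_lit 0), (nat_lit 3)⟩) (BT.leaf ⟨[(nat_lit 7), (nat_lit 4), (nat_lit 2), (nat_lit 7), (nat_lit 3)], (nat_lit 17), (nat_lit 2), (nat_lit 0), (nat_lit 3)⟩)) (BT.node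 (nat_lit 63) (BT.leaf ⟨[(nat_lit 2), (nat_lit 5), (nat_lit 7), (nat_lit 2), (nat_lit 7)], (nat_lit 45), (nat_lit 0), (nat_lit 0), (nat_lit 3)⟩) (BT.leaf ⟨[(nat_lit 2), (nat_lit 7), (nat_lit 2), (nat_lit 7), (nat_lit 5)], (nat_lit 16), (nat_lit 4), (nat_lit 0), (nat_lit 3)⟩))) (BT.node (nat_lit 66) (BT.node (nat_lit 65) (BT.leaf ⟨[(nat_lit 3), (nat_lit 4), (nat_lit 3), (nat_lit 4), (nat_lit 5)], (nat_lit 6), (nat_lit 0), (nat_lit 0), (nat_lit 3)⟩) (BT.leaf ⟨[(nat_lit 1), (nat_lit 2), (nat_lit 1), (nat_lit 2), (nat_lit 5)], (nat_lit 5), (nat_lit 0), (nat_lit 0), (nat_lit 3)⟩)) (BT.node (nat_lit 67) (BT.leaf ⟨[(nat_lit 6), (nat_lit 4), (nat_lit 6), (nat_lit 5), (nat_lit 4)], (nat_lit 14), (nat_lit 0), (nat_lit 0), (nat_lit 3)⟩) (BT.node (nat_lit 68) (BT.leaf ⟨[(nat_lit 6), (nat_lit 5), (nat_lit 4), (nat_lit 6), (nat_lit 4)], (nat_lit 14), (nat_lit 2), (nat_lit 0), (nat_lit 3)⟩) (BT.leaf ⟨[(nat_lit 7),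 (nat_lit 5), (nat_lit 2), (nat_lit 7), (nat_lit 2)], (nat_lit 16), (nat_lit 2), (nat_lit 0), (nat_lit 3)⟩))))))))
noncomputable def eS000_hcs : List CW := []
noncomputable def eS000_H (x j : Nat) : Bx (Nat → Nat → Nat) := mkH eS000_L eS000_pb.1 eS000_e.get (lmap CW.w eS000_hcs) (nat_lit 128) (nat_lit 129) (nat_lit 8) (nat_lit 256) (nat_lit 32768) (nat_lit 16383) x (eS000_rots.get j)
noncomputable def eS000_F (x b : Nat) : Bool := blkOK eS000_H eS000_ch (nat_lit 129) (nat_lit 256) (nat_lit 128) (nat_lit 8) (nat_lit 255) (nat_lit 20) (nat_lit 1048575) x b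

theorem eS000_k0_0 : allFrom (eS000_F (nat_lit 0)) (nat_lit 0) (nat_lit 4) = true := by decide +kernel
theorem eS000_k1_0 : allFrom (eS000_F (nat_lit 1)) (nat_lit 0) (nat_lit 4) = true := by decide +kernel
theorem eS000_k2_0 : allFrom (eS000_F (nat_lit 2)) (nat_lit 0) (nat_lit 4) = true := by decide +kernel
theorem eS000_k3_0 : allFrom (eS000_F (nat_lit 3)) (nat_lit 0) (nat_lit 4) = true := by decide +kernel
theorem eS000_k4_0 : allFrom (eS000_F (nat_lit 4)) (nat_lit 0) (nat_lit 4) = true := by decide +kernel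
theorem eS000_k5_0 : allFrom (eS000_F (nat_lit 5)) (nat_lit 0) (nat_lit 4) = true := by decide +kernel
theorem eS000_k6_0 : allFrom (eS000_F (nat_lit 6)) (nat_lit 0) (nat_lit 4) = true := by decide +kernel
theorem eS000_k7_0 : allFrom (eS000_F (nat_lit 7)) (nat_lit 0) (nat_lit 4) = true := by decide +kernel

theorem eS000_all : Cov eS000_F 4 8 0 := by
  have h := Cov.zero eS000_F 4
  have h := h.blk (b := 4) eS000_k0_0 rfl
  have h := h.next (y := 1) rfl rfl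
  have h := h.blk (b := 4) eS000_k1_0 rfl
  have h := h.next (y := 2) rfl rfl
  have h := h.blk (b := 4) eS000_k2_0 rfl
  have h := h.next (y := 3) rfl rfl
  have h := h.blk (b := 4) eS000_k3_0 rfl
  have h := h.next (y := 4) rfl rfl
  have h := h.blk (b := 4) eS000_k4_0 rfl
  have h := h.next (y := 5) rfl rfl
  have h := h.blk (b := 4) eS000_k5_0 rfl
  have h := h.next (y := 6) rfl rfl
  have h := h.blk (b := 4) eS000_k6_0 rfl
  have h := h.next (y := 7) rfl rfl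
  have h := h.blk (b := 4) eS000_k7_0 rfl
  have h := h.next (y := 8) rfl rfl
  exact h

theorem eS000 : Enum RS000 [] (gensW 7) 128 :=
  ⟨eS000_cols, eS000_ch, eS000_L, eS000_H, eS000_pb.1, eS000_e.get, [(nat_lit 0), (nat_lit 1), (nat_lit 3), (nat_lit 5), (nat_lit 7), (nat_lit 9), (nat_lit 11), (nat_lit 13)], (nat_lit 127), (nat_lit 7), eS000_rots, eS000_hcs,
    (nat_lit 129), (nat_lit 8), (nat_lit 256), (nat_lit 128), (nat_lit 32768), (nat_lit 16383), (nat_lit 8), (nat_lit 255), (nat_lit 20), (nat_lit 1048575), (nat_lit 1), (nat_lit 4),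
    fun _ _ => rfl, fun _ => rfl, fun _ _ => rfl, by decide +kernel, eS000_all.1⟩

theorem pS000 : TS000.Pres RS000 (gensW 7) := ⟨CT.ok_spec TS000_ok, lall_iff.1 TS000_rel, by decide +kernel,
  by decide +kernel, by decide +kernel, eS000.bound (ug_rels _) (bound_nil _)⟩

instance instTS000 : TS000.Grp := pS000.grp

noncomputable def SS110 : List (List Nat) := [[(nat_lit 11), (nat_lit 11), (nat_lit 10)],
  [(nat_lit 13), (nat_lit 13), (nat_lit 10)],
  [(nat_lit 11), (nat_lit 13), (nat_lit 11), (nat_lit 13)]]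
noncomputable def RS110 : List (List Nat) := lapp RP (lapp Rs15 (lapp Rs26 SS110))
noncomputable def TS110_c0 : BT (Bx Nat) := (BT.node (nat_lit 1) (BT.leaf (Bx.mk (nat_lit 0x4e99ebc76e9c396ad1bb6448d8b04a916ac56a94a87ef97ae64cd0213e78e9a36709922e50a96326088e1e4068c16184880e282840608080))) (BT.leaf (Bx.mk (nat_lit 0xe5cfefcd5afcf8e9d7b77fdff4e8cb936ecf5ef8f0c78b7eecf9b0e0870ae5d972acd8af5aad48d1e4c89f3a6ccb76a8d0a54e2c4bf7a041))))
noncomputable def TS110_c1 : BT (Bx Nat) := (BT.node (nat_lit 1) (BT.leaf (Bx.mk (nat_lit 0x5ab13a66ed91a276e98b04281ab456a9fbe5eb92a47af14a872e19b2347099e247c60b224078e3a6cb962a50319300828406344880e28001))) (BT.leaf (Bx.mk (nat_lit 0xf1e7973ddbff7fd7ab469f9f72e4f5ef1e2efdba75c3838f0dbb33e681061438b1234793225ca99367cea342953ab52bd6b166ddab976f5f))))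
noncomputable def TS110_c3 : BT (Bx Nat) := (BT.node (nat_lit 1) (BT.leaf (Bx.mk (nat_lit 0x62c1bb64c9d2a47af162d56a9fbe4085a3566c912374edcb850a572f2c508901e38b95327cc1e101ce9c36682840624513240468c1600302))) (BT.leaf (Bx.mk (nat_lit 0xe1c7b77cf9b265f9f76ecd5aff7fc383af4e5cf1e2f7ebc79d3a37eeb56ea55bd7e74f9936e5d9126347b166b57850e953a146041952e245))))
noncomputable def TS110_c5 : BT (Bx Nat) := (BT.node (nat_lit 1) (BT.leaf (Bx.mk (nat_lit 0x40851234a9132752a15aa58b57ae62c19336ad1bb670e5dba78f5f3f2664d0c1a74f0a28204973e187040a44d9c0460a960248790002c383))) (BT.leaf (Bx.mk (nat_lit 0xf9f7f7febd3973e1c7dfaf1e7b77d3a33e6c9977eedbb356bc3831e29b323c6af5a1c2b76a8d08302ad4972afde9f3a2c4bb724c8b3629d2))))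
noncomputable def TS110_c7 : BT (Bx Nat) := (BT.node (nat_lit 1) (BT.leaf (Bx.mk (nat_lit 0x6cdd83158b552b7cfd3274895e3d448dd3b70e502168d59335cbd429304869b382c51f1254b070c7828f200ce823464b81284c8801c30404))) (BT.leaf (Bx.mk (nat_lit 0xddbf469f1e7d7bc78b973e9d70e0fdff5eadbb3e7dcb933e6efdb8f09f3a4c8b362dda850e9d2ab52041bf7a54b9936edc8916347ad5e851))))
noncomputable def TS110_c9 : BT (Bx Nat) := (BT.node (nat_lit 1) (BT.leaf (Bx.mk (nat_lit 0x7cfde3d74edc396cdda3564cd8315cbd62d54ad4294c9d225448d0213c7c61a16709921050396326020e064011d36180972a280111e34485))) (BT.leaf (Bx.mk (nat_lit 0xfdffe7df5efc79eddfa75e5cf871ddbf66dd5af469cd9f265c58f061bd7ee5db56ec59ad5ea55a54e8519d3e64d952e4498d1e245850e041))))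
noncomputable def TS110_c11 : BT (Bx Nat) := (BT.node (nat_lit 1) (BT.leaf (Bx.mk (nat_lit 0x3c7cd1c28589992460710187459b105c3950c28211063c10d02240057ef99bd62f1cb75eed6ba70d94b54ed12b260ad1ae58a90a84c91120))) (BT.leaf (Bx.mk (nat_lit 0xbd7ee5db56ec59ad5ea55a54e8519d3e64d952e4498d1e245850e041fffbefcf7ebcf8efdbaf4e7cb8f0dfbb6ecd7ab4e8cf9b2e4c78b0e0))))
noncomputable def TS110_c12 : BT (Bx Nat) := (BT.node (nat_lit 1) (BT.leaf (Bx.mk (nat_lit 0x3e78e1a2c50c93304880e3a30d8b2e20a8714188841e0c68212042807cfd93c60f5c365ce963b72dd4344cd523362a912f5aad0294e951a1))) (BT.leaf (Bx.mk (nat_lit 0xbf7aedcb76acd8af5aad4a74a8d09f3a6cc972a4c88f1a2c4870a0c0fdffe7df5efc79eddfa75e5cf871ddbf66dd5af469cd9f265c58f061))))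
noncomputable def TS110_c13 : BT (Bx Nat) := (BT.node (nat_lit 1) (BT.leaf (Bx.mk (nat_lit 0xfffbefcf7ebcf8efdbaf4e7cb8f0dfbb6ecd7ab4e8cf9b2e4c78b0e0bf7a9dda372cd79f6e6dab15a4d58f522d2a12e1ce992a0c88d12140))) (BT.leaf (Bx.mk (nat_lit 0x7cfde3d74edc396cdda3564cd8315cbd62d54ad4294c9d225448d0213c7cd1c28589992460710187459b105c3950c28211063c10d0224005))))
noncomputable def TS110_c14 : BT (Bx Nat) := (BT.node (nat_lit 1) (BT.leaf (Bx.mk (nat_lit 0xfdffe7df5efc79eddfa75e5cf871ddbf66dd5af469cd9f265c58f061bd7e95ca176c569d6a65bb35e4548d56253a32a14f9b2e0498f161c1))) (BT.leaf (Bx.mk (nat_lit 0x7ef9ebc76e9cb86ed9ab466c98b05eb96ac56a94a84e992a446890a03e78e1a2c50c93304880e3a30d8b2e20a8714188841e0c6821204280))))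
noncomputable def TS110_w : BT (Bx Nat) := (BT.node (nat_lit 1) (BT.leaf (Bx.mk (nat_lit 0xc75310b753100c75300b75300c75100b75100c73100b73100c53100b531000c75000b75000c73000b73000c53000b53000c71000b71000c51000b51000c31000b310000c70000b70000c50000b50000c30000b30000c10000b100000c00000b005731007531000973000573000953000753000713000513000971000571000951000751000731000531000097000057000095000075000093000073000053000013000091000071000051000031000009000007000005000003000001000000))) (BT.leaf (Bx.mk (nat_lit 0xeb7531db75310eb7530db7530eb7510db7510eb7310db7310eb5310db53100eb7500db7500eb7300db7300eb5300db5300eb7100db7100eb5100db5100eb3100db31000eb7000db7000eb5000db5000eb3000db3000eb1000db10000eb0000db0e75310d753100e75300d75300e75100d75100e73100d73100e53100d531000e75000d75000e73000d73000e53000d53000e71000d71000e51000d51000e31000d310000e70000d70000e50000d50000e30000d30000e10000d100000e00000d))))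
noncomputable def TS110_cols : List (BT (Bx Nat)) := [TS110_c0, TS110_c1, TS110_c1, TS110_c3, TS110_c3, TS110_c5, TS110_c5, TS110_c7, TS110_c7, TS110_c9, TS110_c9, TS110_c11, TS110_c12, TS110_c13, TS110_c14]
noncomputable def TS110_ch (x j : Nat) : Bx Nat := chk TS110_cols x j
noncomputable def TS110_wc (_ j : Nat) : Bx Nat := TS110_w.get j
noncomputable def TS110 : CT := ⟨(nat_lit 128), (nat_lit 7), (nat_lit 127), TS110_ch, (nat_lit 24), (nat_lit 16777215), TS110_wc, (nat_lit 32766)⟩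
theorem TS110_ok : TS110.ok = true := by decide +kernel
theorem TS110_rel : lall TS110.relOK RS110 = true := by decide +kernel
noncomputable def eS110_c0 : BT (Bx Nat) := (BT.leaf (Bx.mk (nat_lit 0x0)))
noncomputable def eS110_c1 : BT (Bx Nat) := (BT.leaf (Bx.mk (nat_lit 0x1046628ab39ef9b0b08d6895745db399811a8108d25967034237b47d2163e8e8047c5823da8116d86cb45047838b3b8a114d108ae7047e328be9a55e822cf2d155c2423f865601d2ab2d1f2b5cf952a10e9508725845675b2abe1069f0832c846854ab92e11c5c08cac963648b36985581c08bec043518b373c5855e2a289152550b0fbe104922a4ca16207c208941075f0820c84765423a925479f081eb04315821a385489c0842a0430502199010a4d2a5cd041c7020dac558962ac2cbf2865f16b0116192aa8bb64354b1fbe102976c88a96407c2049810f58086ef8408642322c118c92c7cc04387c203a21135108a0d04187420bb61109d2a829844c4c227901118b2c94d963c74b1dc0057a002bad962478f91ba102dd08a4e84517c201c0053a0029700149800a2b87019e2c0af150478e0b4004ca0025f0012c80093b61039d081ae840c80089be10060020400000)))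
noncomputable def eS110_c2 : BT (Bx Nat) := (BT.leaf (Bx.mk (nat_lit 0x20576442baa26190d9cc6e857a502bcbca5f156ef69055a482ad8b3e0126efeb85695c2b53a15c100adef297245bb88f390510a76c222a71095b135cd86ee8c974664ba42c5d1da2e948057e302bea2153910a969853d69a9f3614c9a0a5e5051d4e6bba6dde0b9a3ce172270290a414a460a5cd051c7028db0150992e78e85406cba1a45d8970a7ed854448bb0b2159560a30c0567542b33015a140a2ee224c682a7b2614860adcf2950610a6b2157d452c0c055148c36b88845c4224b052c64293bc6035e2e18e85206cb92b9117986e3ed85266e22e8e6155f0a10b9d386c2b5ae15b132eacf850769a9bb888c1a0a66c850f68288361561d2eaef29345c298941564b30b8d985474c29ba8825c4214b984954c22b61419e300af1704742873614e5b0a74d982368c123c744dd0a6ce85357c281361465c0a350012d80094387459d0a2ae85147c280c0042e0020600000)))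
noncomputable def eS110_c3 : BT (Bx Nat) := (BT.leaf (Bx.mk (nat_lit 0x2317e318be861a00b0cfec06715433920c5bd846e098669498b52e199140cc69065a651adad21ed98ef8b86793c33d0a18d915aa4c23666d1b3a219dd446f0f862468335ae19b1f0c46c2d76556bab520c5a8e686b1381831ba6c535362a0f861860339a68dd1f0c2ee86537c30aa904a06625ad31167932c2019b5f0c269065d7c30924187d20cbcf8611483103e1840a623ad412b6a0953e183c90c3cc863a7431cba18edf0c1aa2d2f5169910b49cd0c58d2d0e7932134c511e4686606601d8af8cc5b9f0c16c86617c3052618fd90cc4f86094c3203e182050caa7233d6432432191df0c0e986561c31f341869d0c3300168800b2ba186df0c0a9ad4b4d6a714c51490c92e26067931136c499e464b0015c800acb21952002aef8603800a8c0053e002990014a800a33218f200282f86028009ac004ce002610012e80094b6187200242f86018008a4004320020800000)))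
noncomputable def eS110_c4 : BT (Bx Nat) := (BT.leaf (Bx.mk (nat_lit 0x2076945835221ddcd3cf0f87487c3a3b0a19d30ecc6077d49ebf1e1dd140ee682c765563abe1cadf0e54da86b3c3b60e79453646a8306f683b8201dfc57b00d872e5c3bd28c1e5a0e52a2c5b543ad2c1ccda0e60e2b1d7150f2ac13d5609862c3d4c3b22cb18c90e7cc8716743aa24c1288588cf27577c38a3e1c4c60edcf8712503af201c95f0e22a075d40393221d598586f0017c800bd8e1d5585870b2c2f59619321c39d0e78da8395839d14c164b0eb8f27417c3862ec0fda0e80b87455c3a4be1c2d20edaf870a5d3b12a1d0df0e12dbd61543a23909a1d0e20dac17800b94005c5b84cadc00f7190c22b12d1589ceab0771504361c19d0e38da8195d80d361d7db0ec0f27217c3822c1c7da0e40d87276839634c161f0e0700153800a94005420029af1e2d6839434b109f0e050013b8009b4004d200262d872370392389c89f0e030011b8008ac004360020a00000)))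
noncomputable def eS110_c5 : BT (Bx Nat) := (BT.leaf (Bx.mk (nat_lit 0xe887f789403a21f5e24fcc117b5c43e3a21e5e24f4e88777893c3a21d5e24ece88737893a3045c5710e4e886f789383a21b5e22dce886b789363a21a5e24d4c8865744333c499da4ad0e8863789323a2185e24c4e885f788b0322175a36bc550597442d3c496c910b8f881574429ba2155e22acf8814792abab2cd9a246ac084d4c92624452d972a09084f444272941196968ae88477892426212951092e8843789223e2035d1076e883f789203a20f5e227cf880c792a0ba20e5e2474e88377889c282149910a2c8831649183528bda7268c083364419350ca5b2250c9127744153c48ad9105cd082d604163a2095e244ce8823788923e2015d1036e881f789103a2075e223cf880479290ba2065e2434e88177888c3e200e002b10015474405ba2045e2424e880f788883e200a002850013c78d89ba2025e2414e8807788843e2006002450011c8008b40043a0020c00000)))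
noncomputable def eS110_c6 : BT (Bx Nat) := (BT.leaf (Bx.mk (nat_lit 0xd9a6178cb11e2974d14bcb9a5064526ac292d3789c88a4c44d27b668fde3280d9a3978c9d3068d191462c8a2f5cd193e28a59345cd1a44686a1ac64c14346698a356cd12bc6499514a2d9a1f78c90386a01c1afef8a1b705109c29f8e14fa38a3b6cd0cbc646871482d332c185233e2851d14a8f0d56105252a2925414d0c337b4053c2469e9a5cf890a775453c8a295d6146cd9a1178c890a294d314a4c9a6b6ccb63634a0614b8e1a76706babe2831d1478f0d3e2052cb869d1c1ae6f8a0b70509bc8115414cacb3714c5353029c1a5ce4a9a6960537b029b9b3484c8a156cd04bc642a002dae3c0d74d2c38699dc1accf8a05745113c3491d1ac0e1a64706b1be2811d1438f0d1e800afb8696dc1ab4f8a037450b3c3461e404f001557469c386921c1a8ef8a02745073c3441c5c5b0013d8009bb868adc1a54f8a01745033c3422002470011d8008bc0043e0020e00000)))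
noncomputable def eS110_c7 : BT (Bx Nat) := (BT.leaf (Bx.mk (nat_lit 0xd89626c4b09eed78f1cbac894d5c4a822253961c968bb4f4e626362501b127ed893a6c49cb224c581268cbb3264717b2ecb9f1252d0943604a228eccd41260a8e516c4933624955766ad89206c48fba25fda1300e09217c48d9cedf508afc3bb416c48d3624649a476e092719da53a2551f1228f0e551872328ed15698cab097c404bba425e5a68f693b785e2bd0aed4d668a4d89126c4888f155dd126cc896c644b5b424b481cb2e8975684bb3a24f1f1218f0e3d21dae3a25cda12e8e09137c485aed125476d0b89724c4b4ac25bda68e2a896a6a2b83025b5b121ac89586c485362426002dcd09427448aba2599a12cee89227c482bc388dd1cbee8963684b23a2471f1208f0e1d800b03a2569a12b6e89167c481bc385da6859001567471bba251da1290e890e7c4813c383db12510013e8009c3a24a9a1256e89067c480bc381e002490011e8008c4004420021000000)))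
noncomputable def eS110_c8 : BT (Bx Nat) := (BT.leaf (Bx.mk (nat_lit 0xf8c5f709b03e3164926b8b0c65506343e311932694f8c45549a4be30f5c267cf8c377099c312555526acf8c29649972a30bd52664f8c2868996be309d82658a8c7c7c611b84c91518f6f8c1d7098f3e306dc1842d8c80800bf8e30ec5188240c7e7c60bb84c62002fad3a3310625ae3dc9626e2c8c311062730e93d8269ada4514c99b0a315d9186aa13520c629a431e9418f0f8c0f709884005e6002eef8c0d746213c3d10618bcf8c0c7461e3631da002eaf0f401862ebe302dc1826d8c74800b9bc9131c18a0d8c546498aa831b9a1828e935858636b031c1918d8b8c6a7c603b84c22002df0016b800b4be3015d1844d8c67800b33c3c99d1ec4f8c047460e363192002c6f0f20800b0be300dd182cd8c5b800ad3c3c69e4860e0c347479d3e3009d181cd8c48800a3bc3c4a002870013f8009cbe3005d180cd8c2b800953c3c2a0024b0011f8008cc004460021200000)))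
noncomputable def eS110_c9 : BT (Bx Nat) := (BT.leaf (Bx.mk (nat_lit 0xe14607c5af925171f16b2b146858832a65129f168ca94497c5a2b850f9f167ae14387c59bac2d59516aac942e7c594aa50c978c5ed142d7c5943050b1f164ea947b70a123e2c8d75ef8e141e7c58eb82c85f1636d8b7f800c00e51047207640b7d70a0c3e2c5e002fce0b301a327282dc5716e4e103410a25a62d31a16a0eb8355c5a90a514d716a2e8b361482ba42de5416eee14107c587c005ea002f0e8b427c586bc410c628bae8b3c7c586362dd6002ecf103f2232f382c4df1616d8b73800ba242d3da5e9aeb814645ac282db5a28a8e8b1558a37302dbd916d6b8b6970a043e2c1e002e10016c800b53a2c89f160ad8b66800b3bc4095d20c2e8b1c7c582362d8e002c8f101f800b13a2c59f1606d8b5a800adbc406581666daf317481cba2c39f1604d8b47800a43c404600289001408009d3a2c19f1602d8b2a80095bc40260024d001208008d40044a0021400000)))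
noncomputable def eS110_p : BT (Bx Nat) := (BT.leaf (Bx.mk (nat_lit 0x117c98be4459262c91120488e2446262311114988a443d261e910dc986e432b119508ca4965243291d948cca096504327259390c9036464b23219186c74963a431b258d90c6c7636331a058c82c60362e4b17218b86c54562a1b141d8a0cc5056282313118986c4846241b12058888c4436220b100d8802c3c961e430f0d8782c34961a430d158686c309618430c1d860cc305618230b258590c2c7616330b11858682844141a0a05048882434120a080d0404820140e4a0721038681c240e0a05250290814740a3205150286810940842041d020c8105408220325019080c7406320315018880c34060a02250110808740432021501088083404110124809040472023101148088404320211010400000000)))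
noncomputable def eS110_e : BT Nat := BT.leaf (nat_lit 0)
noncomputable def eS110_cols : List (BT (Bx Nat)) := [eS110_c0, eS110_c1, eS110_c2, eS110_c3, eS110_c4, eS110_c5, eS110_c6, eS110_c7, eS110_c8, eS110_c9]
noncomputable def eS110_ch (x j : Nat) : Bx Nat := chunkG eS110_cols (nat_lit 1) x j
noncomputable def eS110_L (x : Nat) : Bx (Nat → Nat) := lookG eS110_ch (nat_lit 8) (nat_lit 255) (nat_lit 21) (nat_lit 2097151) x
noncomputable def eS110_pc (_ j : Nat) : Bx Nat := eS110_p.get j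
noncomputable def eS110_pb : Bx (Nat → Nat) := lookG eS110_pc (nat_lit 8) (nat_lit 255) (nat_lit 17) (nat_lit 131071) (nat_lit 0)
noncomputable def eS110_rots : BT CW := (BT.node (nat_lit 41) (BT.node (nat_lit 20) (BT.node (nat_lit 10) (BT.node (nat_lit 5) (BT.node (nat_lit 2) (BT.node (nat_lit 1) (BT.leaf ⟨[], (nat_lit 1000000), (nat_lit 0), (nat_lit 0), (nat_lit 0)⟩) (BT.leaf ⟨[], (nat_lit 1000000), (nat_lit 0), (nat_lit 0), (nat_lit 1)⟩)) (BT.node (nat_lit 3) (BT.leaf ⟨[], (nat_lit 1000000), (nat_lit 0), (nat_lit 0), (nat_lit 2)⟩) (BT.node (nat_lit 4) (BT.leaf ⟨[(nat_lit 1), (nat_lit 1)], (nat_lit 0), (nat_lit 0), (nat_lit 0), (nat_lit 3)⟩) (BT.leaf ⟨[(nat_lit 2), (nat_lit 2)], (nat_lit 1), (nat_lit 0), (nat_lit 0), (nat_lit 3)⟩)))) (BT.node (nat_lit 7) (BT.node (nat_lit 6) (BT.leaf ⟨[(nat_lit 3), (nat_lit 3)], (nat_lit 2), (nat_lit 0), (nat_lit 0), (nat_lit 3)⟩) (BT.leaf ⟨[(nat_lit 4), (nat_lit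 4)], (nat_lit 3), (nat_lit 0), (nat_lit 0), (nat_lit 3)⟩)) (BT.node (nat_lit 8) (BT.leaf ⟨[(nat_lit 5), (nat_lit 5)], (nat_lit 4), (nat_lit 0), (nat_lit 0), (nat_lit 3)⟩) (BT.node (nat_lit 9) (BT.leaf ⟨[(nat_lit 7), (nat_lit 6)], (nat_lit 23), (nat_lit 1), (nat_lit 0), (nat_lit 3)⟩) (BT.leaf ⟨[(nat_lit 6), (nat_lit 7)], (nat_lit 23), (nat_lit 0), (nat_lit 0), (nat_lit 3)⟩))))) (BT.node (nat_lit 15) (BT.node (nat_lit 12) (BT.node (nat_lit 11) (BT.leaf ⟨[(nat_lit 9), (nat_lit 8)], (nat_lit 22), (nat_lit 1), (nat_lit 0), (nat_lit 3)⟩) (BT.leaf ⟨[(nat_lit 8), (nat_lit 9)], (nat_lit 22), (nat_lit 0), (nat_lit 0), (nat_lit 3)⟩)) (BT.node (nat_lit 13) (BT.leaf ⟨[(nat_lit 6), (nat_lit 6), (nat_lit 5)], (nat_lit 19), (nat_lit 0), (nat_lit 0), (nat_lit 3)⟩) (BT.node (nat_lit 14) (BT.leaf ⟨[(nat_lit 7), (nat_lit 7), (nat_lit 5)], (nat_lit 48), (nat_lit 1), (nat_lit 0), (nat_lit 3)⟩) (BT.leaf ⟨[(nat_lit 8), (nat_lit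 8), (nat_lit 5)], (nat_lit 20), (nat_lit 0), (nat_lit 0), (nat_lit 3)⟩)))) (BT.node (nat_lit 17) (BT.node (nat_lit 16) (BT.leaf ⟨[(nat_lit 9), (nat_lit 9), (nat_lit 5)], (nat_lit 49), (nat_lit 1), (nat_lit 0), (nat_lit 3)⟩) (BT.leaf ⟨[(nat_lit 5), (nat_lit 6), (nat_lit 6)], (nat_lit 19), (nat_lit 2), (nat_lit 0), (nat_lit 3)⟩)) (BT.node (nat_lit 18) (BT.leaf ⟨[(nat_lit 5), (nat_lit 8), (nat_lit 8)], (nat_lit 20), (nat_lit 2), (nat_lit 0), (nat_lit 3)⟩) (BT.node (nat_lit 19) (BT.leaf ⟨[(nat_lit 8), (nat_lit 5), (nat_lit 8)], (nat_lit 20), (nat_lit 1), (nat_lit 0), (nat_lit 3)⟩) (BT.leaf ⟨[(nat_lit 9), (nat_lit 5), (nat_lit 9)], (nat_lit 49), (nat_lit 2), (nat_lit 0), (nat_lit 3)⟩)))))) (BT.node (nat_lit 30) (BT.node (nat_lit 25) (BT.node (nat_lit 22) (BT.node (nat_lit 21) (BT.leaf ⟨[(nat_lit 1), (nat_lit 3), (nat_lit 1), (nat_lit 3)], (nat_lit 7), (nat_lit 0), (nat_lit 0), (nat_lit 3)⟩) (BT.leaf ⟨[(nat_lit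 1), (nat_lit 4), (nat_lit 1), (nat_lit 4)], (nat_lit 8), (nat_lit 0), (nat_lit 0), (nat_lit 3)⟩)) (BT.node (nat_lit 23) (BT.leaf ⟨[(nat_lit 2), (nat_lit 3), (nat_lit 2), (nat_lit 3)], (nat_lit 9), (nat_lit 0), (nat_lit 0), (nat_lit 3)⟩) (BT.node (nat_lit 24) (BT.leaf ⟨[(nat_lit 2), (nat_lit 4), (nat_lit 2), (nat_lit 4)], (nat_lit 10), (nat_lit 0), (nat_lit 0), (nat_lit 3)⟩) (BT.leaf ⟨[(nat_lit 6), (nat_lit 8), (nat_lit 6), (nat_lit 8)], (nat_lit 21), (nat_lit 0), (nat_lit 0), (nat_lit 3)⟩)))) (BT.node (nat_lit 27) (BT.node (nat_lit 26) (BT.leaf ⟨[(nat_lit 6), (nat_lit 5), (nat_lit 6)], (nat_lit 19), (nat_lit 1), (nat_lit 0), (nat_lit 3)⟩) (BT.leaf ⟨[(nat_lit 5), (nat_lit 1), (nat_lit 2), (nat_lit 1), (nat_lit 2)], (nat_lit 5), (nat_lit 4), (nat_lit 0), (nat_lit 3)⟩)) (BT.node (nat_lit 28) (BT.leaf ⟨[(nat_lit 1), (nat_lit 5), (nat_lit 2), (nat_lit 1), (nat_lit 2)], (nat_lit 34), (nat_lit 4), (nat_lit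 0), (nat_lit 3)⟩) (BT.node (nat_lit 29) (BT.leaf ⟨[(nat_lit 2), (nat_lit 1), (nat_lit 2), (nat_lit 1), (nat_lit 5)], (nat_lit 34), (nat_lit 1), (nat_lit 0), (nat_lit 3)⟩) (BT.leaf ⟨[(nat_lit 4), (nat_lit 2), (nat_lit 6), (nat_lit 1), (nat_lit 7)], (nat_lit 11), (nat_lit 3), (nat_lit 0), (nat_lit 3)⟩))))) (BT.node (nat_lit 35) (BT.node (nat_lit 32) (BT.node (nat_lit 31) (BT.leaf ⟨[(nat_lit 1), (nat_lit 7), (nat_lit 4), (nat_lit 2), (nat_lit 6)], (nat_lit 11), (nat_lit 1), (nat_lit 0), (nat_lit 3)⟩) (BT.leaf ⟨[(nat_lit 6), (nat_lit 1), (nat_lit 7), (nat_lit 2), (nat_lit 4)], (nat_lit 40), (nat_lit 2), (nat_lit 0), (nat_lit 3)⟩)) (BT.node (nat_lit 33) (BT.leaf ⟨[(nat_lit 2), (nat_lit 8), (nat_lit 2), (nat_lit 9), (nat_lit 5)], (nat_lit 16), (nat_lit 4), (nat_lit 0), (nat_lit 3)⟩) (BT.node (nat_lit 34) (BT.leaf ⟨[(nat_lit 2), (nat_lit 9), (nat_lit 2), (nat_lit 5), (nat_lit 8)], (nat_lit 45), (nat_lit 3),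 (nat_lit 0), (nat_lit 3)⟩) (BT.leaf ⟨[(nat_lit 3), (nat_lit 9), (nat_lit 4), (nat_lit 2), (nat_lit 8)], (nat_lit 17), (nat_lit 1), (nat_lit 0), (nat_lit 3)⟩)))) (BT.node (nat_lit 38) (BT.node (nat_lit 36) (BT.leaf ⟨[(nat_lit 8), (nat_lit 3), (nat_lit 9), (nat_lit 2), (nat_lit 4)], (nat_lit 46), (nat_lit 2), (nat_lit 0), (nat_lit 3)⟩) (BT.node (nat_lit 37) (BT.leaf ⟨[(nat_lit 5), (nat_lit 3), (nat_lit 4), (nat_lit 3), (nat_lit 4)], (nat_lit 6), (nat_lit 4), (nat_lit 0), (nat_lit 3)⟩) (BT.leaf ⟨[(nat_lit 3), (nat_lit 5), (nat_lit 4), (nat_lit 3), (nat_lit 4)], (nat_lit 35), (nat_lit 4), (nat_lit 0), (nat_lit 3)⟩))) (BT.node (nat_lit 39) (BT.leaf ⟨[(nat_lit 4), (nat_lit 3), (nat_lit 4), (nat_lit 3), (nat_lit 5)], (nat_lit 35), (nat_lit 1), (nat_lit 0), (nat_lit 3)⟩) (BT.node (nat_lit 40) (BT.leaf ⟨[(nat_lit 4), (nat_lit 2), (nat_lit 8), (nat_lit 3), (nat_lit 9)], (nat_lit 17), (nat_lit 3), (nat_lit 0),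 (nat_lit 3)⟩) (BT.leaf ⟨[(nat_lit 2), (nat_lit 4), (nat_lit 8), (nat_lit 3), (nat_lit 9)], (nat_lit 46), (nat_lit 0), (nat_lit 0), (nat_lit 3)⟩))))))) (BT.node (nat_lit 61) (BT.node (nat_lit 51) (BT.node (nat_lit 46) (BT.node (nat_lit 43) (BT.node (nat_lit 42) (BT.leaf ⟨[(nat_lit 4), (nat_lit 6), (nat_lit 4), (nat_lit 7), (nat_lit 5)], (nat_lit 14), (nat_lit 4), (nat_lit 0), (nat_lit 3)⟩) (BT.leaf ⟨[(nat_lit 4), (nat_lit 7), (nat_lit 4), (nat_lit 5), (nat_lit 6)], (nat_lit 43), (nat_lit 3), (nat_lit 0), (nat_lit 3)⟩)) (BT.node (nat_lit 44) (BT.leaf ⟨[(nat_lit 4), (nat_lit 1), (nat_lit 4), (nat_lit 1)], (nat_lit 8), (nat_lit 1), (nat_lit 0), (nat_lit 3)⟩) (BT.node (nat_lit 45) (BT.leaf ⟨[(nat_lit 3), (nat_lit 1), (nat_lit 3), (nat_lit 1)], (nat_lit 7), (nat_lit 1), (nat_lit 0), (nat_lit 3)⟩) (BT.leaf ⟨[(nat_lit 6), (nat_lit 4), (nat_lit 7), (nat_lit 5), (nat_lit 4)], (nat_lit 14), (nat_lit 0), (nat_lit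 0), (nat_lit 3)⟩)))) (BT.node (nat_lit 48) (BT.node (nat_lit 47) (BT.leaf ⟨[(nat_lit 9), (nat_lit 4), (nat_lit 2), (nat_lit 8), (nat_lit 3)], (nat_lit 17), (nat_lit 2), (nat_lit 0), (nat_lit 3)⟩) (BT.leaf ⟨[(nat_lit 4), (nat_lit 2), (nat_lit 4), (nat_lit 2)], (nat_lit 10), (nat_lit 1), (nat_lit 0), (nat_lit 3)⟩)) (BT.node (nat_lit 49) (BT.leaf ⟨[(nat_lit 3), (nat_lit 2), (nat_lit 3), (nat_lit 2)], (nat_lit 9), (nat_lit 1), (nat_lit 0), (nat_lit 3)⟩) (BT.node (nat_lit 50) (BT.leaf ⟨[(nat_lit 4), (nat_lit 7), (nat_lit 5), (nat_lit 4), (nat_lit 6)], (nat_lit 14), (nat_lit 1), (nat_lit 0), (nat_lit 3)⟩) (BT.leaf ⟨[(nat_lit 6), (nat_lit 4), (nat_lit 7), (nat_lit 4), (nat_lit 5)], (nat_lit 43), (nat_lit 2), (nat_lit 0), (nat_lit 3)⟩))))) (BT.node (nat_lit 56) (BT.node (nat_lit 53) (BT.node (nat_lit 52) (BT.leaf ⟨[(nat_lit 7), (nat_lit 4), (nat_lit 5), (nat_lit 6), (nat_lit 4)], (nat_lit 43), (nat_lit 4),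 (nat_lit 0), (nat_lit 3)⟩) (BT.leaf ⟨[(nat_lit 2), (nat_lit 6), (nat_lit 1), (nat_lit 7), (nat_lit 4)], (nat_lit 11), (nat_lit 4), (nat_lit 0), (nat_lit 3)⟩)) (BT.node (nat_lit 54) (BT.leaf ⟨[(nat_lit 1), (nat_lit 7), (nat_lit 2), (nat_lit 4), (nat_lit 6)], (nat_lit 40), (nat_lit 3), (nat_lit 0), (nat_lit 3)⟩) (BT.node (nat_lit 55) (BT.leaf ⟨[(nat_lit 2), (nat_lit 9), (nat_lit 5), (nat_lit 2), (nat_lit 8)], (nat_lit 16), (nat_lit 1), (nat_lit 0), (nat_lit 3)⟩) (BT.leaf ⟨[(nat_lit 9), (nat_lit 2), (nat_lit 5), (nat_lit 8), (nat_lit 2)], (nat_lit 45), (nat_lit 4), (nat_lit 0), (nat_lit 3)⟩)))) (BT.node (nat_lit 58) (BT.node (nat_lit 57) (BT.leaf ⟨[(nat_lit 5), (nat_lit 9), (nat_lit 9)], (nat_lit 49), (nat_lit 0), (nat_lit 0), (nat_lit 3)⟩) (BT.leaf ⟨[(nat_lit 8), (nat_lit 2), (nat_lit 9), (nat_lit 5), (nat_lit 2)], (nat_lit 16), (nat_lit 0), (nat_lit 0), (nat_lit 3)⟩)) (BT.node (nat_lit 59) (BT.leaf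 ⟨[(nat_lit 7), (nat_lit 5), (nat_lit 7)], (nat_lit 48), (nat_lit 2), (nat_lit 0), (nat_lit 3)⟩) (BT.node (nat_lit 60) (BT.leaf ⟨[(nat_lit 6), (nat_lit 1), (nat_lit 7), (nat_lit 4), (nat_lit 2)], (nat_lit 11), (nat_lit 0), (nat_lit 0), (nat_lit 3)⟩) (BT.leaf ⟨[(nat_lit 4), (nat_lit 8), (nat_lit 3), (nat_lit 9), (nat_lit 2)], (nat_lit 46), (nat_lit 1), (nat_lit 0), (nat_lit 3)⟩)))))) (BT.node (nat_lit 71) (BT.node (nat_lit 66) (BT.node (nat_lit 63) (BT.node (nat_lit 62) (BT.leaf ⟨[(nat_lit 1), (nat_lit 2), (nat_lit 5), (nat_lit 1), (nat_lit 2)], (nat_lit 5), (nat_lit 2), (nat_lit 0), (nat_lit 3)⟩) (BT.leaf ⟨[(nat_lit 1), (nat_lit 2), (nat_lit 1), (nat_lit 2), (nat_lit 5)], (nat_lit 5), (nat_lit 0), (nat_lit 0), (nat_lit 3)⟩)) (BT.node (nat_lit 64) (BT.leaf ⟨[(nat_lit 4), (nat_lit 6), (nat_lit 1), (nat_lit 7), (nat_lit 2)], (nat_lit 40), (nat_lit 1), (nat_lit 0), (nat_lit 3)⟩) (BT.node (nat_lit 65) (BT.leaf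 ⟨[(nat_lit 3), (nat_lit 9), (nat_lit 2), (nat_lit 4), (nat_lit 8)], (nat_lit 46), (nat_lit 3), (nat_lit 0), (nat_lit 3)⟩) (BT.leaf ⟨[(nat_lit 4), (nat_lit 3), (nat_lit 4), (nat_lit 5), (nat_lit 3)], (nat_lit 6), (nat_lit 1), (nat_lit 0), (nat_lit 3)⟩)))) (BT.node (nat_lit 68) (BT.node (nat_lit 67) (BT.leaf ⟨[(nat_lit 5), (nat_lit 4), (nat_lit 3), (nat_lit 4), (nat_lit 3)], (nat_lit 35), (nat_lit 0), (nat_lit 0), (nat_lit 3)⟩) (BT.leaf ⟨[(nat_lit 2), (nat_lit 1), (nat_lit 2), (nat_lit 5), (nat_lit 1)], (nat_lit 5), (nat_lit 1), (nat_lit 0), (nat_lit 3)⟩)) (BT.node (nat_lit 69) (BT.leaf ⟨[(nat_lit 7), (nat_lit 4), (nat_lit 2), (nat_lit 6), (nat_lit 1)], (nat_lit 11), (nat_lit 2), (nat_lit 0), (nat_lit 3)⟩) (BT.node (nat_lit 70) (BT.leaf ⟨[(nat_lit 9), (nat_lit 7), (nat_lit 9), (nat_lit 7)], (nat_lit 50), (nat_lit 0), (nat_lit 0), (nat_lit 3)⟩) (BT.leaf ⟨[(nat_lit 3), (nat_lit 4), (nat_lit 5), (nat_lit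 3), (nat_lit 4)], (nat_lit 6), (nat_lit 2), (nat_lit 0), (nat_lit 3)⟩))))) (BT.node (nat_lit 76) (BT.node (nat_lit 73) (BT.node (nat_lit 72) (BT.leaf ⟨[(nat_lit 3), (nat_lit 4), (nat_lit 3), (nat_lit 4), (nat_lit 5)], (nat_lit 6), (nat_lit 0), (nat_lit 0), (nat_lit 3)⟩) (BT.leaf ⟨[(nat_lit 8), (nat_lit 6), (nat_lit 8), (nat_lit 6)], (nat_lit 21), (nat_lit 1), (nat_lit 0), (nat_lit 3)⟩)) (BT.node (nat_lit 74) (BT.leaf ⟨[(nat_lit 5), (nat_lit 2), (nat_lit 1), (nat_lit 2), (nat_lit 1)], (nat_lit 34), (nat_lit 0), (nat_lit 0), (nat_lit 3)⟩) (BT.node (nat_lit 75) (BT.leaf ⟨[(nat_lit 5), (nat_lit 7), (nat_lit 7)], (nat_lit 48), (nat_lit 0), (nat_lit 0), (nat_lit 3)⟩) (BT.leaf ⟨[(nat_lit 7), (nat_lit 9), (nat_lit 7), (nat_lit 9)], (nat_lit 50), (nat_lit 1), (nat_lit 0), (nat_lit 3)⟩)))) (BT.node (nat_lit 79) (BT.node (nat_lit 77) (BT.leaf ⟨[(nat_lit 2), (nat_lit 5), (nat_lit 8), (nat_lit 2), (nat_lit 9)],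 (nat_lit 45), (nat_lit 0), (nat_lit 0), (nat_lit 3)⟩) (BT.node (nat_lit 78) (BT.leaf ⟨[(nat_lit 2), (nat_lit 4), (nat_lit 6), (nat_lit 1), (nat_lit 7)], (nat_lit 40), (nat_lit 0), (nat_lit 0), (nat_lit 3)⟩) (BT.leaf ⟨[(nat_lit 2), (nat_lit 8), (nat_lit 3), (nat_lit 9), (nat_lit 4)], (nat_lit 17), (nat_lit 4), (nat_lit 0), (nat_lit 3)⟩))) (BT.node (nat_lit 80) (BT.leaf ⟨[(nat_lit 5), (nat_lit 8), (nat_lit 2), (nat_lit 9), (nat_lit 2)], (nat_lit 45), (nat_lit 1), (nat_lit 0), (nat_lit 3)⟩) (BT.node (nat_lit 81) (BT.leaf ⟨[(nat_lit 1), (nat_lit 2), (nat_lit 1), (nat_lit 5), (nat_lit 2)], (nat_lit 34), (nat_lit 2), (nat_lit 0), (nat_lit 3)⟩) (BT.leaf ⟨[(nat_lit 7), (nat_lit 5), (nat_lit 4), (nat_lit 6), (nat_lit 4)], (nat_lit 14), (nat_lit 2), (nat_lit 0), (nat_lit 3)⟩))))))))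
noncomputable def eS110_hcs : List CW := []
noncomputable def eS110_H (x j : Nat) : Bx (Nat → Nat → Nat) := mkH eS110_L eS110_pb.1 eS110_e.get (lmap CW.w eS110_hcs) (nat_lit 128) (nat_lit 129) (nat_lit 10) (nat_lit 256) (nat_lit 32768) (nat_lit 16383) x (eS110_rots.get j)
noncomputable def eS110_F (x b : Nat) : Bool := blkOK eS110_H eS110_ch (nat_lit 129) (nat_lit 256) (nat_lit 128) (nat_lit 8) (nat_lit 255) (nat_lit 21) (nat_lit 2097151) x b

theorem eS110_k0_0 : allFrom (eS110_F (nat_lit 0)) (nat_lit 0) (nat_lit 4) = true := by decide +kernel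
theorem eS110_k1_0 : allFrom (eS110_F (nat_lit 1)) (nat_lit 0) (nat_lit 4) = true := by decide +kernel
theorem eS110_k2_0 : allFrom (eS110_F (nat_lit 2)) (nat_lit 0) (nat_lit 4) = true := by decide +kernel
theorem eS110_k3_0 : allFrom (eS110_F (nat_lit 3)) (nat_lit 0) (nat_lit 4) = true := by decide +kernel
theorem eS110_k4_0 : allFrom (eS110_F (nat_lit 4)) (nat_lit 0) (nat_lit 4) = true := by decide +kernel
theorem eS110_k5_0 : allFrom (eS110_F (nat_lit 5)) (nat_lit 0) (nat_lit 4) = true := by decide +kernel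
theorem eS110_k6_0 : allFrom (eS110_F (nat_lit 6)) (nat_lit 0) (nat_lit 4) = true := by decide +kernel
theorem eS110_k7_0 : allFrom (eS110_F (nat_lit 7)) (nat_lit 0) (nat_lit 4) = true := by decide +kernel
theorem eS110_k8_0 : allFrom (eS110_F (nat_lit 8)) (nat_lit 0) (nat_lit 4) = true := by decide +kernel
theorem eS110_k9_0 : allFrom (eS110_F (nat_lit 9)) (nat_lit 0) (nat_lit 4) = true := by decide +kernel

theorem eS110_all : Cov eS110_F 4 10 0 := by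
  have h := Cov.zero eS110_F 4
  have h := h.blk (b := 4) eS110_k0_0 rfl
  have h := h.next (y := 1) rfl rfl
  have h := h.blk (b := 4) eS110_k1_0 rfl
  have h := h.next (y := 2) rfl rfl
  have h := h.blk (b := 4) eS110_k2_0 rfl
  have h := h.next (y := 3) rfl rfl
  have h := h.blk (b := 4) eS110_k3_0 rfl
  have h := h.next (y := 4) rfl rfl
  have h := h.blk (b := 4) eS110_k4_0 rfl
  have h := h.next (y := 5) rfl rfl
  have h := h.blk (b := 4) eS110_k5_0 rfl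
  have h := h.next (y := 6) rfl rfl
  have h := h.blk (b := 4) eS110_k6_0 rfl
  have h := h.next (y := 7) rfl rfl
  have h := h.blk (b := 4) eS110_k7_0 rfl
  have h := h.next (y := 8) rfl rfl
  have h := h.blk (b := 4) eS110_k8_0 rfl
  have h := h.next (y := 9) rfl rfl
  have h := h.blk (b := 4) eS110_k9_0 rfl
  have h := h.next (y := 10) rfl rfl
  exact h

theorem eS110 : Enum RS110 [] (gensW 7) 128 :=
  ⟨eS110_cols, eS110_ch, eS110_L, eS110_H, eS110_pb.1, eS110_e.get, [(nat_lit 0), (nat_lit 1), (nat_lit 3), (nat_lit 5), (nat_lit 7), (nat_lit 9), (nat_lit 11), (nat_lit 12), (nat_lit 13), (nat_lit 14)], (nat_lit 31), (nat_lit 7), eS110_rots, eS110_hcs,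
    (nat_lit 129), (nat_lit 10), (nat_lit 256), (nat_lit 128), (nat_lit 32768), (nat_lit 16383), (nat_lit 8), (nat_lit 255), (nat_lit 21), (nat_lit 2097151), (nat_lit 1), (nat_lit 4),
    fun _ _ => rfl, fun _ => rfl, fun _ _ => rfl, by decide +kernel, eS110_all.1⟩

theorem pS110 : TS110.Pres RS110 (gensW 7) := ⟨CT.ok_spec TS110_ok, lall_iff.1 TS110_rel, by decide +kernel,
  by decide +kernel, by decide +kernel, eS110.bound (ug_rels _) (bound_nil _)⟩

instance instTS110 : TS110.Grp := pS110.grp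

noncomputable def SS100 : List (List Nat) := [[(nat_lit 11), (nat_lit 11), (nat_lit 10)],
  [(nat_lit 13), (nat_lit 13)],
  [(nat_lit 11), (nat_lit 13), (nat_lit 11), (nat_lit 13)]]
noncomputable def RS100 : List (List Nat) := lapp RP (lapp Rs15 (lapp Rs26 SS100))
noncomputable def TS100_c0 : BT (Bx Nat) := (BT.node (nat_lit 1) (BT.leaf (Bx.mk (nat_lit 0x4e99ebc76e9c396ad1bb6448d8b04a916ac56a94a87ef97ae64cd0213e78e9a36709922e50a96326088e1e4068c16184880e282840608080))) (BT.leaf (Bx.mk (nat_lit 0xe5cfefcd5afcf8e9d7b77fdff4e8cb936ecf5ef8f0c78b7eecf9b0e083267dc896a9d2911a3cab3625cebb42143a352f57ab5a2db9936fc0))))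
noncomputable def TS100_c1 : BT (Bx Nat) := (BT.node (nat_lit 1) (BT.leaf (Bx.mk (nat_lit 0x5ab13a66ed91a276e98b04281ab456a9fbe5eb92a47af14a872e19b2347099e247c60b224078e3a6cb962a50319300828406344880e28001))) (BT.leaf (Bx.mk (nat_lit 0xf1e7973ddbff7fd7ab469f9f72e4f5ef1e2efdba75c3838f0dbb33e681163c1af261d1b7366429f12c4aa71ab559142d4bbb3af52b352e5f))))
noncomputable def TS100_c3 : BT (Bx Nat) := (BT.node (nat_lit 1) (BT.leaf (Bx.mk (nat_lit 0x62c1bb64c9d2a47af162d56a9fbe4085a3566c912374edcb850a572f2c508901e38b95327cc1e101ce9c36682840624513240468c1600302))) (BT.leaf (Bx.mk (nat_lit 0xe1c7b77cf9b265f9f76ecd5aff7fc383af4e5cf1e2f7ebc79d3a37eea95a24e8742447a77a95faf5665a97720519f06359b12615db71654d))))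
noncomputable def TS100_c5 : BT (Bx Nat) := (BT.node (nat_lit 1) (BT.leaf (Bx.mk (nat_lit 0x40851234a9132752a15aa58b57ae62c19336ad1bb670e5dba78f5f3f2664d0c1a74f0a28204973e187040a44d9c0460a960248790002c383))) (BT.leaf (Bx.mk (nat_lit 0xf9f7f7febd3973e1c7dfaf1e7b77d3a33e6c9977eedbb356bc3831e2ab1e2cfa10e4d69562fd283526dbb92e8c09d5ecc6bd22ec2b5129cc))))
noncomputable def TS100_c7 : BT (Bx Nat) := (BT.node (nat_lit 1) (BT.leaf (Bx.mk (nat_lit 0x6cdd83158b552b7cfd3274895e3d448dd3b70e502168d59335cbd429304869b382c51f1254b070c7828f200ce823464b81284c8801c30404))) (BT.leaf (Bx.mk (nat_lit 0xddbf469f1e7d7bc78b973e9d70e0fdff5eadbb3e7dcb933e6efdb8f0af228518112b41bf66353a926e5d85321ce8b1e95e95565da9b3ec5b))))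
noncomputable def TS100_c9 : BT (Bx Nat) := (BT.node (nat_lit 1) (BT.leaf (Bx.mk (nat_lit 0x7cfde3d74edc396cdda3564cd8315cbd62d54ad4294c9d225448d0213c7c61a16709921050396326020e064011d36180972a280111e34485))) (BT.leaf (Bx.mk (nat_lit 0xfdffe7df5efc79eddfa75e5cf871ddbf66dd5af469cd9f265c58f061bd7e65a97729d291523d6b36224e874215db71a0d7ab2a0519f364c5))))
noncomputable def TS100_c11 : BT (Bx Nat) := (BT.node (nat_lit 1) (BT.leaf (Bx.mk (nat_lit 0x3c7cd1c28589992460710187459b105c3950c28211063c10d02240057ef99bd62f1cb75eed6ba70d94b54ed12b260ad1ae58a90a84c91120))) (BT.leaf (Bx.mk (nat_lit 0xbf7ae5aad52cd3b14a84ebb32dcbaf22ac7951a8c49f0e6c293062c0fdff97ce1f7c76ddeb67bf3df474cdd7273e3ab16fdbaf069cf971e1))))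
noncomputable def TS100_c12 : BT (Bx Nat) := (BT.node (nat_lit 1) (BT.leaf (Bx.mk (nat_lit 0x3e78e1a2c50c93304880e3a30d8b2e20a8714188841e0c68212042807cfd93c60f5c365ce963b72dd4344cd523362a912f5aad0294e951a1))) (BT.leaf (Bx.mk (nat_lit 0xbd7ed5ca95a9d9a56275099765db915e3d58d2a251873e14d8326045fffb9fde3f3cf7dfef6faf1db4f5cfd32f2e1af1eed9ab0e8cd93160))))
noncomputable def TS100_c13 : BT (Bx Nat) := (BT.node (nat_lit 1) (BT.leaf (Bx.mk (nat_lit 0xfffbefcf7ebcf8efdbaf4e7cb8f0dfbb6ecd7ab4e8cf9b2e4c78b0e0bf7aedcb76acd8af5aad4a74a8d09f3a6cc972a4c88f1a2c4870a0c0))) (BT.leaf (Bx.mk (nat_lit 0x7ef9ebc76e9cb86ed9ab466c98b05eb96ac56a94a84e992a446890a03e78e9c3668c982e58a9426488901e3868c16284880e182840608080))))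
noncomputable def TS100_w : BT (Bx Nat) := (BT.node (nat_lit 1) (BT.leaf (Bx.mk (nat_lit 0xc75310b753100c75300b75300c75100b75100c73100b73100c53100b531000c75000b75000c73000b73000c53000b53000c71000b71000c51000b51000c31000b310000c70000b70000c50000b50000c30000b30000c10000b100000c00000b005731007531000973000573000953000753000713000513000971000571000951000751000731000531000097000057000095000075000093000073000053000013000091000071000051000031000009000007000005000003000001000000))) (BT.leaf (Bx.mk (nat_lit 0xdc7531db75310dc7530db7530dc7510db7510dc7310db7310dc5310db53100dc7500db7500dc7300db7300dc5300db5300dc7100db7100dc5100db5100dc3100db31000dc7000db7000dc5000db5000dc3000db3000dc1000db10000dc0000db0d57310d753100d97300d57300d95300d75300d71300d51300d97100d57100d95100d75100d73100d531000d97000d57000d95000d75000d93000d73000d53000d13000d91000d71000d51000d310000d90000d70000d50000d30000d100000d))))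
noncomputable def TS100_cols : List (BT (Bx Nat)) := [TS100_c0, TS100_c1, TS100_c1, TS100_c3, TS100_c3, TS100_c5, TS100_c5, TS100_c7, TS100_c7, TS100_c9, TS100_c9, TS100_c11, TS100_c12, TS100_c13, TS100_c13]
noncomputable def TS100_ch (x j : Nat) : Bx Nat := chk TS100_cols x j
noncomputable def TS100_wc (_ j : Nat) : Bx Nat := TS100_w.get j
noncomputable def TS100 : CT := ⟨(nat_lit 128), (nat_lit 7), (nat_lit 127), TS100_ch, (nat_lit 24), (nat_lit 16777215), TS100_wc, (nat_lit 32766)⟩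
theorem TS100_ok : TS100.ok = true := by decide +kernel
theorem TS100_rel : lall TS100.relOK RS100 = true := by decide +kernel
noncomputable def eS100_c0 : BT (Bx Nat) := (BT.leaf (Bx.mk (nat_lit 0x0)))
noncomputable def eS100_c1 : BT (Bx Nat) := (BT.leaf (Bx.mk (nat_lit 0x51060cb2626046b704674907428f6d7106e90f73584666106adb2422843f4047c88479f042ce902ee8f2dd1a536847a2047bb90516b97e58477404497044e7ba7d60f78f042293938f0421c047fc8f5248480e0f5080446804448043cf041cdb22acb226a0f337104ce324b60445f0417c846fc0461b046cd845fc103079068a043b68457d8456b842f49069e9013e8f128975e68f558905df0410d04767841af040f30f7560f1bf040e8905ca9a4dd8f1ed841d884645842529029c8419d841898458c3a24c3928b844fc0f4ae0471e0470f8172f0409d045a20436b8431f0408c045961037b8432f0407f8165f8163c8416e0415d043ae0f39f815b5843e80f41d1035e1034f8154d1020e9a1fe040ae0448e0447f0403f8143f8140f813dd9706e9005e8f04e9714f812bf8127f8123d040de040ce040bf8111f0401f810200000)))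
noncomputable def eS100_c2 : BT (Bx Nat) := (BT.leaf (Bx.mk (nat_lit 0x40576b85757125a81259e057bea87c88551e0578ea879885534cd80c377fb0566a856dc426570545b0563e056eea86fb4573e056af0526ea86c54a3970534d9d2ab9d74b8572f0521b9170c9142c113eb113fc9141db72da855cb115d9053b6857e7857d7054341d36cb137e054db852b9457761d1a91d7a7471bd911ed851dea855b052548529c8519d8518b853ac1135e053879171f051079258c0562c055fa8516a8560b856198515e05339925bc124848569ea846c055638557b854779268e9d3ca8527c0523e920ce910be051cd055ef0509c3f54d05675124bf0508b1832f816bb914cf0507cb131e0517f8164c050ec850fd054fe114eea82e6855058552d124ae1249e9d22b1240a123dd0506e9205e9104e050df8144d121fc9220e9811e0530e052ff0502f812cf8128f8124d9814e0513e0512f0501f810af810300000)))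
noncomputable def eS100_c3 : BT (Bx Nat) := (BT.leaf (Bx.mk (nat_lit 0x4227e6867d386807237f3866c3a26aa8666a866faa26e8a26dc065a39f5988651986538234682344f062bb4379a0678806774237cb9f603067b4063072348d9f62b1f7a80638d0622e2354d0667f0620b066bf061fc862cbc32ef061c9223cca37630675e344d606324863172243d8663a1f73f061691f74f0615e0649f0613d8658c1f244a228ca214ea54f68668f061178672f06107867168655db42af060f89f1acb426f060e6061b8865be0633e0634f060c8a3655a32308627ca30dea53ae9f3b6a357522564a269f060ab065df0609d225ef8170d0642f06084064b13436c063ff0607b864c50637da264e0617f8161f815fe0618f0605f815c6a23d80640da506ea51ee9f21f8152f8150c064af814ef0603f8147f8145f8141f813ec0635f8139f0602f812ff812df8129f8125d0619f811df0601f8112f810bf810400000)))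
noncomputable def eS100_c4 : BT (Bx Nat) := (BT.leaf (Bx.mk (nat_lit 0x507661876d827778077af0742c27628c67df073faa7607877e48774087735467612d75e295bf072b90733f072ad27672297ff0726e076aea76b5194782e2fc876e5c680a293be075d92d3cb877bd0729a0778c872582943ea764a0721d8772bab53caa51b872ddab1adaa1bf071772d45b075a34636c075960737c0714e074ada722b2d415a93eea64ef0712f071148769f071068754e07387875ef817ca874cba931f81795074bba9328876398765c070de0735ea7446ad5028752ea639f070b9a970b073db0740f070a78768f0709c3c58e071cf8171f816fdbc61e070fd2915f816cd3c5fd3b0edae16d074daad5ce2b07daa08d0706e0719ea72cd0756d0757ea61df0704f8155d0723c8727cad4ff0703f8149f8148f8146e9928c8724ca93af0702f8134f8130f812ed071fd8720da61ef0701f8118f8113f810cf810500000)))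
noncomputable def eS100_c5 : BT (Bx Nat) := (BT.leaf (Bx.mk (nat_lit 0xd087fd95805087d5b67eb08797887898877b8e7c81c7ba157ad0875d9576d0873d9574b0854a883b80838b086ca8e6ab0866b8e6fe0867a086ee0868e8e69e9c6bb956da882bb082d90846d0860c085fd9562ca461c8821d0e5868e4368845d0859d955ac885de0856e8e57c081cb9672d085161c50d955358852f0813e0849d882ee084be8e4cf0812ea44ea1530a1c2f995637155be08336085cd083f9363ea953dd954288841a0840c8810b1571f080ce08348c970e0836e8e37f080bea439e9c44e0831e8e329884898847e364db8e64e0817b1665d0826cbd25d0e24c0e23d952ac0829c8828b8827c8809d0e5ee081fe8e20f0805e0818c8e55e081ae8e1bf0804ea41de9c2ce0815e8e16f0803f814ff814ae080ad0e3ce080ee8e0ff0802f813af8135e9611d0e22e0807e8e08f0801f811ef8119f8114f810df810600000)))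
noncomputable def eS100_c6 : BT (Bx Nat) := (BT.leaf (Bx.mk (nat_lit 0xd935de935850c7270a54c0a467b85c70a5b98a6398a43d934578a70e9338d8a44e933368a7da8a6b80c75c0a2e98a65b0a64ba14dc8c3bd8a2bf0a25c2129b0a71d932da8c6ac136690a7cd0a5e80a2fe932190a47d9360d217f7217868a77c8a55e931ce0a80f0a18d8a1dd135948a7ed8a2c41334e931760a39caf276213edaf6ff0a12e0a4ae8c4c71341a0a4088a61c2c79a0a7ae0c7370a7bd0a3c6a14ea8a30e931068c4990a48d933fd1367d0c2438c52e0a76f0a0be0a35e8c3768a50e0a74f0a0ad8a11e9b3d88a5fc2c6cb8a6de0c51b136ed0a22b8a69d213ac0a13e9309f8168db80ce214fd9326e0a62f0a05e0a1ee8c20e0c57e0a5af0a04e0a19e8c1bf8156e0a53f0a03e0a14e8c16e9b23f814be0c32e0a42f0a02e0a0de8c0fdac28f8136f8131e0a2af0a01e0a06e8c08f811ff811af8115f810ef810700000)))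
noncomputable def eS100_c7 : BT (Bx Nat) := (BT.leaf (Bx.mk (nat_lit 0xe9458c895d50d5473e7298d6378d43a9445b89466895c70d5be943878970e9433d89444897ebcb6780d76d094da892bc142db892eb0d71a0965c3e29f0925c893bb8964a0d6eb946da4079e942190d47d095e93e2fd9462d09807097b7c07ae941cc8955e097fd891df0918d145a7c07de941730939d892c71434d892360941b096ce094af0912e8d4b6093e9be3d9945fcb07cd0977e0d74a4078e941068949ab048d093c5894ee0930d9442c096bc892868d50e0975e0935f090be8d3638952e0973d8911f090ab30408be61cb06fd0966e0d53e406ae9409b8968d090cc094fd0922f8169c893ae0913d942ae0960e091ef0905e8d1fe0d56e0959e0919f0904e8d1af8157e0951e0914f0903e8d15cb027f814ce0d31e093fe090df0902e8d0ed0924f8137f8132e0926e0906f0901e8d07f8120f811bf8116f810ff810800000)))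
noncomputable def eS100_c8 : BT (Bx Nat) := (BT.leaf (Bx.mk (nat_lit 0xf0b57f0b56f0b52f0b508c161f0b41f0b4098b5ff0b3ef0b3df0b37f0b36f0b32f0b3134439a8b3a70b35d444cf0b29f0b27bc44bb8b28f0b25dc12ba4465f0b24f0b2398b68c0b4f80b2ff0b2080b7cf0b1fa4879f0b1ef0b1dd0b4968b48f0b1bf0b1af0b18f8180f817fd0b1998b34f0b16f817ef0b15f817dcb56464443f0b12c8b6fb0b6ccb52edb35c7415bb3546a8b47e0b30d8b1158b4ef0b0ff817bf817af0b0ef8178f8177f0b0df0b0cb417128b72f0b0bf8176f81757c470a4c54f0b0af8174f8173ea0458c163c0b4ae0b13e0b14d0b69f0b08f816ec1e6bf816df0b07f816af8167f8166f0b06f0b05f8162f8160f815ef815df0b04f815af8159d9e55f8158f0b03f8153f8151e9e2cea02df814de1e44f0b02f8142f813ff813cf813bf8138f8133f0b01f812af8126f8122f8121f811cf8117f8110f810900000)))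
noncomputable def eS100_p : BT (Bx Nat) := (BT.leaf (Bx.mk (nat_lit 0x115c88ac445222281110848824440221f890f8887a4437221b110c88862432c059588cac36542329219390c98464c132521928ec9466484323219102c8426420b20219006c7c863e1b1e218e90c7036380b1b218d10c6086303b18198b88c5c162c43160d8a90c5436262b130d8910c4876243312158908c4446221b10118806c4026200b0f218786c3c161c430e0d8702c348618430c158606c2c86163b0b19858ac2c4614430a1d850cc2846141a0911048682424120a0821040682024100a0721038681c240e0a06210290814740a320515028681084083a0419020a810440642031d018c80c540622030d018280884043a0219010a80844041a0208809040472023101148088404320211010400000000)))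
noncomputable def eS100_e : BT Nat := BT.leaf (nat_lit 0)
noncomputable def eS100_cols : List (BT (Bx Nat)) := [eS100_c0, eS100_c1, eS100_c2, eS100_c3, eS100_c4, eS100_c5, eS100_c6, eS100_c7, eS100_c8]
noncomputable def eS100_ch (x j : Nat) : Bx Nat := chunkG eS100_cols (nat_lit 1) x j
noncomputable def eS100_L (x : Nat) : Bx (Nat → Nat) := lookG eS100_ch (nat_lit 8) (nat_lit 255) (nat_lit 20) (nat_lit 1048575) x
noncomputable def eS100_pc (_ j : Nat) : Bx Nat := eS100_p.get j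
noncomputable def eS100_pb : Bx (Nat → Nat) := lookG eS100_pc (nat_lit 8) (nat_lit 255) (nat_lit 17) (nat_lit 131071) (nat_lit 0)
noncomputable def eS100_rots : BT CW := (BT.node (nat_lit 38) (BT.node (nat_lit 19) (BT.node (nat_lit 9) (BT.node (nat_lit 4) (BT.node (nat_lit 2) (BT.node (nat_lit 1) (BT.leaf ⟨[], (nat_lit 1000000), (nat_lit 0), (nat_lit 0), (nat_lit 0)⟩) (BT.leaf ⟨[], (nat_lit 1000000), (nat_lit 0), (nat_lit 0), (nat_lit 1)⟩)) (BT.node (nat_lit 3) (BT.leaf ⟨[], (nat_lit 1000000), (nat_lit 0), (nat_lit 0), (nat_lit 2)⟩) (BT.leaf ⟨[(nat_lit 1), (nat_lit 1)], (nat_lit 0), (nat_lit 0), (nat_lit 0), (nat_lit 3)⟩))) (BT.node (nat_lit 6) (BT.node (nat_lit 5) (BT.leaf ⟨[(nat_lit 2), (nat_lit 2)], (nat_lit 1), (nat_lit 0), (nat_lit 0), (nat_lit 3)⟩) (BT.leaf ⟨[(nat_lit 3), (nat_lit 3)], (nat_lit 2), (nat_lit 0), (nat_lit 0), (nat_lit 3)⟩)) (BT.node (nat_lit 7) (BT.leaf ⟨[(nat_lit 4), (nat_lit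 4)], (nat_lit 3), (nat_lit 0), (nat_lit 0), (nat_lit 3)⟩) (BT.node (nat_lit 8) (BT.leaf ⟨[(nat_lit 5), (nat_lit 5)], (nat_lit 4), (nat_lit 0), (nat_lit 0), (nat_lit 3)⟩) (BT.leaf ⟨[(nat_lit 7), (nat_lit 6)], (nat_lit 23), (nat_lit 1), (nat_lit 0), (nat_lit 3)⟩))))) (BT.node (nat_lit 14) (BT.node (nat_lit 11) (BT.node (nat_lit 10) (BT.leaf ⟨[(nat_lit 6), (nat_lit 7)], (nat_lit 23), (nat_lit 0), (nat_lit 0), (nat_lit 3)⟩) (BT.leaf ⟨[(nat_lit 8), (nat_lit 8)], (nat_lit 20), (nat_lit 0), (nat_lit 0), (nat_lit 3)⟩)) (BT.node (nat_lit 12) (BT.leaf ⟨[(nat_lit 6), (nat_lit 6), (nat_lit 5)], (nat_lit 19), (nat_lit 0), (nat_lit 0), (nat_lit 3)⟩) (BT.node (nat_lit 13) (BT.leaf ⟨[(nat_lit 7), (nat_lit 7), (nat_lit 5)], (nat_lit 48), (nat_lit 1), (nat_lit 0), (nat_lit 3)⟩) (BT.leaf ⟨[(nat_lit 5), (nat_lit 6), (nat_lit 6)], (nat_lit 19), (nat_lit 2), (nat_lit 0), (nat_lit 3)⟩)))) (BT.node (nat_lit 16) (BT.node (nat_lit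 15) (BT.leaf ⟨[(nat_lit 1), (nat_lit 3), (nat_lit 1), (nat_lit 3)], (nat_lit 7), (nat_lit 0), (nat_lit 0), (nat_lit 3)⟩) (BT.leaf ⟨[(nat_lit 1), (nat_lit 4), (nat_lit 1), (nat_lit 4)], (nat_lit 8), (nat_lit 0), (nat_lit 0), (nat_lit 3)⟩)) (BT.node (nat_lit 17) (BT.leaf ⟨[(nat_lit 2), (nat_lit 3), (nat_lit 2), (nat_lit 3)], (nat_lit 9), (nat_lit 0), (nat_lit 0), (nat_lit 3)⟩) (BT.node (nat_lit 18) (BT.leaf ⟨[(nat_lit 2), (nat_lit 4), (nat_lit 2), (nat_lit 4)], (nat_lit 10), (nat_lit 0), (nat_lit 0), (nat_lit 3)⟩) (BT.leaf ⟨[(nat_lit 6), (nat_lit 8), (nat_lit 6), (nat_lit 8)], (nat_lit 21), (nat_lit 0), (nat_lit 0), (nat_lit 3)⟩)))))) (BT.node (nat_lit 28) (BT.node (nat_lit 23) (BT.node (nat_lit 21) (BT.node (nat_lit 20) (BT.leaf ⟨[(nat_lit 7), (nat_lit 8), (nat_lit 7), (nat_lit 8)], (nat_lit 50), (nat_lit 1), (nat_lit 0), (nat_lit 3)⟩) (BT.leaf ⟨[(nat_lit 5), (nat_lit 7), (nat_lit 7)], (nat_lit 48),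 (nat_lit 0), (nat_lit 0), (nat_lit 3)⟩)) (BT.node (nat_lit 22) (BT.leaf ⟨[(nat_lit 5), (nat_lit 1), (nat_lit 2), (nat_lit 1), (nat_lit 2)], (nat_lit 5), (nat_lit 4), (nat_lit 0), (nat_lit 3)⟩) (BT.leaf ⟨[(nat_lit 1), (nat_lit 5), (nat_lit 2), (nat_lit 1), (nat_lit 2)], (nat_lit 34), (nat_lit 4), (nat_lit 0), (nat_lit 3)⟩))) (BT.node (nat_lit 25) (BT.node (nat_lit 24) (BT.leaf ⟨[(nat_lit 2), (nat_lit 1), (nat_lit 2), (nat_lit 1), (nat_lit 5)], (nat_lit 34), (nat_lit 1), (nat_lit 0), (nat_lit 3)⟩) (BT.leaf ⟨[(nat_lit 4), (nat_lit 2), (nat_lit 6), (nat_lit 1), (nat_lit 7)], (nat_lit 11), (nat_lit 3), (nat_lit 0), (nat_lit 3)⟩)) (BT.node (nat_lit 26) (BT.leaf ⟨[(nat_lit 1), (nat_lit 7), (nat_lit 4), (nat_lit 2), (nat_lit 6)], (nat_lit 11), (nat_lit 1), (nat_lit 0), (nat_lit 3)⟩) (BT.node (nat_lit 27) (BT.leaf ⟨[(nat_lit 6), (nat_lit 1), (nat_lit 7), (nat_lit 2), (nat_lit 4)], (nat_lit 40), (nat_lit 2),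 (nat_lit 0), (nat_lit 3)⟩) (BT.leaf ⟨[(nat_lit 5), (nat_lit 2), (nat_lit 8), (nat_lit 2), (nat_lit 8)], (nat_lit 16), (nat_lit 3), (nat_lit 0), (nat_lit 3)⟩))))) (BT.node (nat_lit 33) (BT.node (nat_lit 30) (BT.node (nat_lit 29) (BT.leaf ⟨[(nat_lit 2), (nat_lit 8), (nat_lit 5), (nat_lit 2), (nat_lit 8)], (nat_lit 16), (nat_lit 1), (nat_lit 0), (nat_lit 3)⟩) (BT.leaf ⟨[(nat_lit 8), (nat_lit 2), (nat_lit 8), (nat_lit 2), (nat_lit 5)], (nat_lit 45), (nat_lit 2), (nat_lit 0), (nat_lit 3)⟩)) (BT.node (nat_lit 31) (BT.leaf ⟨[(nat_lit 3), (nat_lit 8), (nat_lit 4), (nat_lit 2), (nat_lit 8)], (nat_lit 17), (nat_lit 1), (nat_lit 0), (nat_lit 3)⟩) (BT.node (nat_lit 32) (BT.leaf ⟨[(nat_lit 8), (nat_lit 3), (nat_lit 8), (nat_lit 2), (nat_lit 4)], (nat_lit 46), (nat_lit 2), (nat_lit 0), (nat_lit 3)⟩) (BT.leaf ⟨[(nat_lit 6), (nat_lit 5), (nat_lit 6)], (nat_lit 19), (nat_lit 1), (nat_lit 0), (nat_lit 3)⟩)))) (BT.node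 (nat_lit 35) (BT.node (nat_lit 34) (BT.leaf ⟨[(nat_lit 3), (nat_lit 2), (nat_lit 3), (nat_lit 2)], (nat_lit 9), (nat_lit 1), (nat_lit 0), (nat_lit 3)⟩) (BT.leaf ⟨[(nat_lit 3), (nat_lit 1), (nat_lit 3), (nat_lit 1)], (nat_lit 7), (nat_lit 1), (nat_lit 0), (nat_lit 3)⟩)) (BT.node (nat_lit 36) (BT.leaf ⟨[(nat_lit 5), (nat_lit 3), (nat_lit 4), (nat_lit 3), (nat_lit 4)], (nat_lit 6), (nat_lit 4), (nat_lit 0), (nat_lit 3)⟩) (BT.node (nat_lit 37) (BT.leaf ⟨[(nat_lit 3), (nat_lit 5), (nat_lit 4), (nat_lit 3), (nat_lit 4)], (nat_lit 35), (nat_lit 4), (nat_lit 0), (nat_lit 3)⟩) (BT.leaf ⟨[(nat_lit 4), (nat_lit 3), (nat_lit 4), (nat_lit 3), (nat_lit 5)], (nat_lit 35), (nat_lit 1), (nat_lit 0), (nat_lit 3)⟩))))))) (BT.node (nat_lit 57) (BT.node (nat_lit 47) (BT.node (nat_lit 42) (BT.node (nat_lit 40) (BT.node (nat_lit 39) (BT.leaf ⟨[(nat_lit 4), (nat_lit 2), (nat_lit 8), (nat_lit 3), (nat_lit 8)], (nat_lit 17),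 (nat_lit 3), (nat_lit 0), (nat_lit 3)⟩) (BT.leaf ⟨[(nat_lit 2), (nat_lit 4), (nat_lit 8), (nat_lit 3), (nat_lit 8)], (nat_lit 46), (nat_lit 0), (nat_lit 0), (nat_lit 3)⟩)) (BT.node (nat_lit 41) (BT.leaf ⟨[(nat_lit 4), (nat_lit 1), (nat_lit 4), (nat_lit 1)], (nat_lit 8), (nat_lit 1), (nat_lit 0), (nat_lit 3)⟩) (BT.leaf ⟨[(nat_lit 4), (nat_lit 6), (nat_lit 4), (nat_lit 7), (nat_lit 5)], (nat_lit 14), (nat_lit 4), (nat_lit 0), (nat_lit 3)⟩))) (BT.node (nat_lit 44) (BT.node (nat_lit 43) (BT.leaf ⟨[(nat_lit 4), (nat_lit 7), (nat_lit 4), (nat_lit 5), (nat_lit 6)], (nat_lit 43), (nat_lit 3), (nat_lit 0), (nat_lit 3)⟩) (BT.leaf ⟨[(nat_lit 6), (nat_lit 4), (nat_lit 7), (nat_lit 5), (nat_lit 4)], (nat_lit 14), (nat_lit 0), (nat_lit 0), (nat_lit 3)⟩)) (BT.node (nat_lit 45) (BT.leaf ⟨[(nat_lit 4), (nat_lit 2), (nat_lit 4), (nat_lit 2)], (nat_lit 10), (nat_lit 1), (nat_lit 0), (nat_lit 3)⟩) (BT.node (nat_lit 46)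 (BT.leaf ⟨[(nat_lit 4), (nat_lit 7), (nat_lit 5), (nat_lit 4), (nat_lit 6)], (nat_lit 14), (nat_lit 1), (nat_lit 0), (nat_lit 3)⟩) (BT.leaf ⟨[(nat_lit 6), (nat_lit 4), (nat_lit 7), (nat_lit 4), (nat_lit 5)], (nat_lit 43), (nat_lit 2), (nat_lit 0), (nat_lit 3)⟩))))) (BT.node (nat_lit 52) (BT.node (nat_lit 49) (BT.node (nat_lit 48) (BT.leaf ⟨[(nat_lit 7), (nat_lit 4), (nat_lit 5), (nat_lit 6), (nat_lit 4)], (nat_lit 43), (nat_lit 4), (nat_lit 0), (nat_lit 3)⟩) (BT.leaf ⟨[(nat_lit 2), (nat_lit 6), (nat_lit 1), (nat_lit 7), (nat_lit 4)], (nat_lit 11), (nat_lit 4), (nat_lit 0), (nat_lit 3)⟩)) (BT.node (nat_lit 50) (BT.leaf ⟨[(nat_lit 1), (nat_lit 7), (nat_lit 2), (nat_lit 4), (nat_lit 6)], (nat_lit 40), (nat_lit 3), (nat_lit 0), (nat_lit 3)⟩) (BT.node (nat_lit 51) (BT.leaf ⟨[(nat_lit 8), (nat_lit 3), (nat_lit 8), (nat_lit 4), (nat_lit 2)], (nat_lit 17), (nat_lit 0), (nat_lit 0), (nat_lit 3)⟩) (BT.leaf ⟨[(nat_lit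 3), (nat_lit 8), (nat_lit 2), (nat_lit 4), (nat_lit 8)], (nat_lit 46), (nat_lit 3), (nat_lit 0), (nat_lit 3)⟩)))) (BT.node (nat_lit 54) (BT.node (nat_lit 53) (BT.leaf ⟨[(nat_lit 8), (nat_lit 2), (nat_lit 8), (nat_lit 5), (nat_lit 2)], (nat_lit 16), (nat_lit 0), (nat_lit 0), (nat_lit 3)⟩) (BT.leaf ⟨[(nat_lit 5), (nat_lit 8), (nat_lit 2), (nat_lit 8), (nat_lit 2)], (nat_lit 45), (nat_lit 1), (nat_lit 0), (nat_lit 3)⟩)) (BT.node (nat_lit 55) (BT.leaf ⟨[(nat_lit 2), (nat_lit 8), (nat_lit 2), (nat_lit 5), (nat_lit 8)], (nat_lit 45), (nat_lit 3), (nat_lit 0), (nat_lit 3)⟩) (BT.node (nat_lit 56) (BT.leaf ⟨[(nat_lit 6), (nat_lit 1), (nat_lit 7), (nat_lit 4), (nat_lit 2)], (nat_lit 11), (nat_lit 0), (nat_lit 0), (nat_lit 3)⟩) (BT.leaf ⟨[(nat_lit 1), (nat_lit 2), (nat_lit 5), (nat_lit 1), (nat_lit 2)], (nat_lit 5), (nat_lit 2), (nat_lit 0), (nat_lit 3)⟩)))))) (BT.node (nat_lit 67) (BT.node (nat_lit 62) (BT.node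 (nat_lit 59) (BT.node (nat_lit 58) (BT.leaf ⟨[(nat_lit 1), (nat_lit 2), (nat_lit 1), (nat_lit 2), (nat_lit 5)], (nat_lit 5), (nat_lit 0), (nat_lit 0), (nat_lit 3)⟩) (BT.leaf ⟨[(nat_lit 4), (nat_lit 6), (nat_lit 1), (nat_lit 7), (nat_lit 2)], (nat_lit 40), (nat_lit 1), (nat_lit 0), (nat_lit 3)⟩)) (BT.node (nat_lit 60) (BT.leaf ⟨[(nat_lit 4), (nat_lit 3), (nat_lit 4), (nat_lit 5), (nat_lit 3)], (nat_lit 6), (nat_lit 1), (nat_lit 0), (nat_lit 3)⟩) (BT.node (nat_lit 61) (BT.leaf ⟨[(nat_lit 5), (nat_lit 4), (nat_lit 3), (nat_lit 4), (nat_lit 3)], (nat_lit 35), (nat_lit 0), (nat_lit 0), (nat_lit 3)⟩) (BT.leaf ⟨[(nat_lit 7), (nat_lit 5), (nat_lit 7)], (nat_lit 48), (nat_lit 2), (nat_lit 0), (nat_lit 3)⟩)))) (BT.node (nat_lit 64) (BT.node (nat_lit 63) (BT.leaf ⟨[(nat_lit 2), (nat_lit 1), (nat_lit 2), (nat_lit 5), (nat_lit 1)], (nat_lit 5), (nat_lit 1), (nat_lit 0), (nat_lit 3)⟩) (BT.leaf ⟨[(nat_lit 7), (nat_lit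 4), (nat_lit 2), (nat_lit 6), (nat_lit 1)], (nat_lit 11), (nat_lit 2), (nat_lit 0), (nat_lit 3)⟩)) (BT.node (nat_lit 65) (BT.leaf ⟨[(nat_lit 8), (nat_lit 7), (nat_lit 8), (nat_lit 7)], (nat_lit 50), (nat_lit 0), (nat_lit 0), (nat_lit 3)⟩) (BT.node (nat_lit 66) (BT.leaf ⟨[(nat_lit 2), (nat_lit 1), (nat_lit 5), (nat_lit 2), (nat_lit 1)], (nat_lit 34), (nat_lit 3), (nat_lit 0), (nat_lit 3)⟩) (BT.leaf ⟨[(nat_lit 3), (nat_lit 4), (nat_lit 3), (nat_lit 4), (nat_lit 5)], (nat_lit 6), (nat_lit 0), (nat_lit 0), (nat_lit 3)⟩))))) (BT.node (nat_lit 72) (BT.node (nat_lit 69) (BT.node (nat_lit 68) (BT.leaf ⟨[(nat_lit 8), (nat_lit 6), (nat_lit 8), (nat_lit 6)], (nat_lit 21), (nat_lit 1), (nat_lit 0), (nat_lit 3)⟩) (BT.leaf ⟨[(nat_lit 2), (nat_lit 8), (nat_lit 2), (nat_lit 8), (nat_lit 5)], (nat_lit 16), (nat_lit 4), (nat_lit 0), (nat_lit 3)⟩)) (BT.node (nat_lit 70) (BT.leaf ⟨[(nat_lit 4), (nat_lit 8), (nat_lit 3),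 (nat_lit 8), (nat_lit 2)], (nat_lit 46), (nat_lit 1), (nat_lit 0), (nat_lit 3)⟩) (BT.node (nat_lit 71) (BT.leaf ⟨[(nat_lit 2), (nat_lit 5), (nat_lit 8), (nat_lit 2), (nat_lit 8)], (nat_lit 45), (nat_lit 0), (nat_lit 0), (nat_lit 3)⟩) (BT.leaf ⟨[(nat_lit 8), (nat_lit 4), (nat_lit 2), (nat_lit 8), (nat_lit 3)], (nat_lit 17), (nat_lit 2), (nat_lit 0), (nat_lit 3)⟩)))) (BT.node (nat_lit 74) (BT.node (nat_lit 73) (BT.leaf ⟨[(nat_lit 5), (nat_lit 2), (nat_lit 1), (nat_lit 2), (nat_lit 1)], (nat_lit 34), (nat_lit 0), (nat_lit 0), (nat_lit 3)⟩) (BT.leaf ⟨[(nat_lit 2), (nat_lit 4), (nat_lit 6), (nat_lit 1), (nat_lit 7)], (nat_lit 40), (nat_lit 0), (nat_lit 0), (nat_lit 3)⟩)) (BT.node (nat_lit 75) (BT.leaf ⟨[(nat_lit 7), (nat_lit 2), (nat_lit 4), (nat_lit 6), (nat_lit 1)], (nat_lit 40), (nat_lit 4), (nat_lit 0), (nat_lit 3)⟩) (BT.node (nat_lit 76) (BT.leaf ⟨[(nat_lit 8), (nat_lit 2), (nat_lit 4), (nat_lit 8),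 (nat_lit 3)], (nat_lit 46), (nat_lit 4), (nat_lit 0), (nat_lit 3)⟩) (BT.leaf ⟨[(nat_lit 2), (nat_lit 8), (nat_lit 3), (nat_lit 8), (nat_lit 4)], (nat_lit 17), (nat_lit 4), (nat_lit 0), (nat_lit 3)⟩))))))))
noncomputable def eS100_hcs : List CW := []
noncomputable def eS100_H (x j : Nat) : Bx (Nat → Nat → Nat) := mkH eS100_L eS100_pb.1 eS100_e.get (lmap CW.w eS100_hcs) (nat_lit 128) (nat_lit 129) (nat_lit 9) (nat_lit 256) (nat_lit 32768) (nat_lit 16383) x (eS100_rots.get j)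
noncomputable def eS100_F (x b : Nat) : Bool := blkOK eS100_H eS100_ch (nat_lit 129) (nat_lit 256) (nat_lit 128) (nat_lit 8) (nat_lit 255) (nat_lit 20) (nat_lit 1048575) x b

theorem eS100_k0_0 : allFrom (eS100_F (nat_lit 0)) (nat_lit 0) (nat_lit 4) = true := by decide +kernel
theorem eS100_k1_0 : allFrom (eS100_F (nat_lit 1)) (nat_lit 0) (nat_lit 4) = true := by decide +kernel
theorem eS100_k2_0 : allFrom (eS100_F (nat_lit 2)) (nat_lit 0) (nat_lit 4) = true := by decide +kernel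
theorem eS100_k3_0 : allFrom (eS100_F (nat_lit 3)) (nat_lit 0) (nat_lit 4) = true := by decide +kernel
theorem eS100_k4_0 : allFrom (eS100_F (nat_lit 4)) (nat_lit 0) (nat_lit 4) = true := by decide +kernel
theorem eS100_k5_0 : allFrom (eS100_F (nat_lit 5)) (nat_lit 0) (nat_lit 4) = true := by decide +kernel
theorem eS100_k6_0 : allFrom (eS100_F (nat_lit 6)) (nat_lit 0) (nat_lit 4) = true := by decide +kernel
theorem eS100_k7_0 : allFrom (eS100_F (nat_lit 7)) (nat_lit 0) (nat_lit 4) = true := by decide +kernel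
theorem eS100_k8_0 : allFrom (eS100_F (nat_lit 8)) (nat_lit 0) (nat_lit 4) = true := by decide +kernel

theorem eS100_all : Cov eS100_F 4 9 0 := by
  have h := Cov.zero eS100_F 4
  have h := h.blk (b := 4) eS100_k0_0 rfl
  have h := h.next (y := 1) rfl rfl
  have h := h.blk (b := 4) eS100_k1_0 rfl
  have h := h.next (y := 2) rfl rfl
  have h := h.blk (b := 4) eS100_k2_0 rfl
  have h := h.next (y := 3) rfl rfl
  have h := h.blk (b := 4) eS100_k3_0 rfl
  have h := h.next (y := 4) rfl rfl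
  have h := h.blk (b := 4) eS100_k4_0 rfl
  have h := h.next (y := 5) rfl rfl
  have h := h.blk (b := 4) eS100_k5_0 rfl
  have h := h.next (y := 6) rfl rfl
  have h := h.blk (b := 4) eS100_k6_0 rfl
  have h := h.next (y := 7) rfl rfl
  have h := h.blk (b := 4) eS100_k7_0 rfl
  have h := h.next (y := 8) rfl rfl
  have h := h.blk (b := 4) eS100_k8_0 rfl
  have h := h.next (y := 9) rfl rfl
  exact h

theorem eS100 : Enum RS100 [] (gensW 7) 128 :=
  ⟨eS100_cols, eS100_ch, eS100_L, eS100_H, eS100_pb.1, eS100_e.get, [(nat_lit 0), (nat_lit 1), (nat_lit 3), (nat_lit 5), (nat_lit 7), (nat_lit 9), (nat_lit 11), (nat_lit 12), (nat_lit 13)], (nat_lit 95), (nat_lit 7), eS100_rots, eS100_hcs,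
    (nat_lit 129), (nat_lit 9), (nat_lit 256), (nat_lit 128), (nat_lit 32768), (nat_lit 16383), (nat_lit 8), (nat_lit 255), (nat_lit 20), (nat_lit 1048575), (nat_lit 1), (nat_lit 4),
    fun _ _ => rfl, fun _ => rfl, fun _ _ => rfl, by decide +kernel, eS100_all.1⟩

theorem pS100 : TS100.Pres RS100 (gensW 7) := ⟨CT.ok_spec TS100_ok, lall_iff.1 TS100_rel, by decide +kernel,
  by decide +kernel, by decide +kernel, eS100.bound (ug_rels _) (bound_nil _)⟩

instance instTS100 : TS100.Grp := pS100.grp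

noncomputable def SD000 : List (List Nat) := [[(nat_lit 11), (nat_lit 11)],
  [(nat_lit 13), (nat_lit 13)],
  [(nat_lit 11), (nat_lit 13), (nat_lit 11), (nat_lit 13), (nat_lit 11), (nat_lit 13), (nat_lit 11), (nat_lit 13)]]
noncomputable def RD000 : List (List Nat) := lapp RP (lapp Rka5 (lapp Rs16 SD000))
noncomputable def TD000_c0 : BT (Bx Nat) := (BT.node (nat_lit 2) (BT.node (nat_lit 1) (BT.leaf (Bx.mk (nat_lit 0x2c3d3e392d333c26312e35303a2a37342f363b3f2232292427382528232b21201f1e1d1a1b1c1312171415161918110e0f100d0c0b060908070a050403020100))) (BT.leaf (Bx.mk (nat_lit 0x81898f9388999c86849287989a8a82949e968b83978e9d919590858d9f9b8c80434f495a4b5c594e42544756535044525e5848415b465d4d554a45515f574c40)))) (BT.node (nat_lit 3) (BT.leaf (Bx.mk (nat_lit 0xa1a9afbca4bab3b2a8a6a7aab9b8abaebdb0a2a3b1b4beb7b5b6a5bbacadbfa0636f697962737a746b6e67707c7668667d6a64616d727e7b757865776c717f60))) (BT.leaf (Bx.mk (nat_lit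 0xecfdfefcf1faf9eeede6f5eaf3f0fbf2e9f8f7ffe4f4efe2e7f6e5ebe1e8e3e0dfdeddd3d7d9dad4dbd2d5d8dcd6cdc6c9cad1ccc8cecfcbc7d0c5c2c1c4c3c0)))))
noncomputable def TD000_c1 : BT (Bx Nat) := (BT.node (nat_lit 2) (BT.node (nat_lit 1) (BT.leaf (Bx.mk (nat_lit 0x3a3c333e323f2c2b31302f2e3d3b37363534263938222524232d2928272a20211a1c131e121f0c0b11100f0e1d1b17161514061918020504030d0908070a0001))) (BT.leaf (Bx.mk (nat_lit 0x60656761776963717b6d6c626f64786a7366767568707a6b7d6e7e7279747c7f5547454f504349564a585f5241544d5b5c4b51404e5759465e485d425a44534c)))) (BT.node (nat_lit 3) (BT.leaf (Bx.mk (nat_lit 0xa0a5a7a1b7a9a3b1bbadaca2afa4b8aab3a6b6b5a8b0baabbdaebeb2b9b4bcbf9587858f908389968a989f9281948d9b9c8b91808e9799869e889d829a84938c))) (BT.leaf (Bx.mk (nat_lit 0xf3f9faecedfdfeeaf4e8e9f7ffe6eee4e5f1fbfce2f8f5f6e1f2eff0e0ebe7e3d3d9dacccddddecad4c8c9d7dfc6cec4c5d1dbdcc2d8d5d6c1d2cfd0c0cbc7c3)))))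
noncomputable def TD000_c3 : BT (Bx Nat) := (BT.node (nat_lit 2) (BT.node (nat_lit 1) (BT.leaf (Bx.mk (nat_lit 0x28372e24253134293e332a3936213a2c2d3d2f302035383f26273b3c2223322b161411100f0e1715191f181e08071d1c1b1a050403090a1312010d0c0b000602))) (BT.leaf (Bx.mk (nat_lit 0x7278626b7a7b667e616774756a7f60636e6f6c6d7c73686976796465707d77715b4b4a585f524d5c40434e4f425a4147545559465e5d4445504c484956535157)))) (BT.node (nat_lit 3) (BT.leaf (Bx.mk (nat_lit 0xb4b6a4aea3b0a8a7b3beb2bfb7b5acbaabbca0b1afa1a6b9b8a9a2bdbba5aaad97889091808496819f99869394899c9d828c838e8587929e8a958b9a8d8f989b))) (BT.leaf (Bx.mk (nat_lit 0xebfbe6f2fef8e2fae5eff0e3edfce9f5f6e7f3eaffecf1e0eefdf7e1f4f9e4e8d8d2cddbdccbcadfc9d5d6c7c6dec5cfd0c3ddc2dad9d7c1d4d3d1c0ceccc8c4)))))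
noncomputable def TD000_c5 : BT (Bx Nat) := (BT.node (nat_lit 2) (BT.node (nat_lit 1) (BT.leaf (Bx.mk (nat_lit 0x33393a2c2d3d3e2a342829373f262e2425313b3c2238353621322f30202b272313191a0c0d1d1e0a140809171f060e0405111b1c0218151601120f10000b0703))) (BT.leaf (Bx.mk (nat_lit 0x7567656f706369766a787f7261746d7b7c6b71606e7779667e687d627a64736c40454741574943515b4d4c424f44584a5346565548505a4b5d4e5e5259545c5f)))) (BT.node (nat_lit 3) (BT.leaf (Bx.mk (nat_lit 0xb5a7a5afb0a3a9b6aab8bfb2a1b4adbbbcabb1a0aeb7b9a6bea8bda2baa4b3ac80858781978983919b8d8c828f84988a9386969588909a8b9d8e9e9299949c9f))) (BT.leaf (Bx.mk (nat_lit 0xfafcf3fef2ffecebf1f0efeefdfbf7f6f5f4e6f9f8e2e5e4e3ede9e8e7eae0e1dadcd3ded2dfcccbd1d0cfcedddbd7d6d5d4c6d9d8c2c5c4c3cdc9c8c7cac0c1)))))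
noncomputable def TD000_c7 : BT (Bx Nat) := (BT.node (nat_lit 2) (BT.node (nat_lit 1) (BT.leaf (Bx.mk (nat_lit 0x2b3b26323e38223a252f30232d3c29353627332a3f2c31202e3d37213439242818120d1b1c0b0a1f09151607061e050f10031d021a191701141311000e0c0804))) (BT.leaf (Bx.mk (nat_lit 0x7b6b6a787f726d7c60636e6f627a6167747579667e7d6465706c6869767371775258424b5a5b465e414754554a5f40434e4f4c4d5c53484956594445505d5751)))) (BT.node (nat_lit 3) (BT.leaf (Bx.mk (nat_lit 0xb7a8b0b1a0a4b6a1bfb9a6b3b4a9bcbda2aca3aea5a7b2beaab5abbaadafb8bb9496848e83908887939e929f97958c9a8b9c80918f8186999889829d9b858a8d))) (BT.leaf (Bx.mk (nat_lit 0xe8f7eee4e5f1f4e9fef3eaf9f6e1faecedfdeff0e0f5f8ffe6e7fbfce2e3f2ebd6d4d1d0cfced7d5d9dfd8dec8c7dddcdbdac5c4c3c9cad3d2c1cdcccbc0c6c2)))))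
noncomputable def TD000_c9 : BT (Bx Nat) := (BT.node (nat_lit 2) (BT.node (nat_lit 1) (BT.leaf (Bx.mk (nat_lit 0x3e3f2c3a2b3c3332283427363938242e2330223d3b262137352a20312f2d29251e1f0c1a0b1c1312081407161918040e0310021d1b060117150a00110f0d0905))) (BT.leaf (Bx.mk (nat_lit 0x7e7f6c7a6b7c7372687467767978646e6370627d7b666177756a60716f6d69655e5f4c5a4b5c5352485447565958444e4350425d5b464157554a40514f4d4945)))) (BT.node (nat_lit 3) (BT.leaf (Bx.mk (nat_lit 0xbebfacbaabbcb3b2a8b4a7b6b9b8a4aea3b0a2bdbba6a1b7b5aaa0b1afada9a59e9f8c9a8b9c9392889487969998848e8390829d9b868197958a80918f8d8985))) (BT.leaf (Bx.mk (nat_lit 0xfeffecfaebfcf3f2e8f4e7f6f9f8e4eee3f0e2fdfbe6e1f7f5eae0f1efede9e5dedfccdacbdcd3d2c8d4c7d6d9d8c4cec3d0c2dddbc6c1d7d5cac0d1cfcdc9c5)))))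
noncomputable def TD000_c11 : BT (Bx Nat) := (BT.node (nat_lit 2) (BT.node (nat_lit 1) (BT.leaf (Bx.mk (nat_lit 0x1f1e1d1c1b1a191817161514131211100f0e0d0c0b0a090807060504030201003f3e3d3c3b3a393837363534333231302f2e2d2c2b2a29282726252423222120))) (BT.leaf (Bx.mk (nat_lit 0xbfbebdbcbbbab9b8b7b6b5b4b3b2b1b0afaeadacabaaa9a8a7a6a5a4a3a2a1a09f9e9d9c9b9a999897969594939291908f8e8d8c8b8a89888786858483828180)))) (BT.node (nat_lit 3) (BT.leaf (Bx.mk (nat_lit 0x7f7e7d7c7b7a797877767574737271706f6e6d6c6b6a696867666564636261605f5e5d5c5b5a595857565554535251504f4e4d4c4b4a49484746454443424140))) (BT.leaf (Bx.mk (nat_lit 0xdfdedddcdbdad9d8d7d6d5d4d3d2d1d0cfcecdcccbcac9c8c7c6c5c4c3c2c1c0fffefdfcfbfaf9f8f7f6f5f4f3f2f1f0efeeedecebeae9e8e7e6e5e4e3e2e1e0)))))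
noncomputable def TD000_c13 : BT (Bx Nat) := (BT.node (nat_lit 2) (BT.node (nat_lit 1) (BT.leaf (Bx.mk (nat_lit 0x7f7e7d7c7b7a797877767574737271706f6e6d6c6b6a696867666564636261605f5e5d5c5b5a595857565554535251504f4e4d4c4b4a49484746454443424140))) (BT.leaf (Bx.mk (nat_lit 0x3f3e3d3c3b3a393837363534333231302f2e2d2c2b2a292827262524232221201f1e1d1c1b1a191817161514131211100f0e0d0c0b0a09080706050403020100)))) (BT.node (nat_lit 3) (BT.leaf (Bx.mk (nat_lit 0xfffefdfcfbfaf9f8f7f6f5f4f3f2f1f0efeeedecebeae9e8e7e6e5e4e3e2e1e0dfdedddcdbdad9d8d7d6d5d4d3d2d1d0cfcecdcccbcac9c8c7c6c5c4c3c2c1c0))) (BT.leaf (Bx.mk (nat_lit 0xbfbebdbcbbbab9b8b7b6b5b4b3b2b1b0afaeadacabaaa9a8a7a6a5a4a3a2a1a09f9e9d9c9b9a999897969594939291908f8e8d8c8b8a89888786858483828180)))))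
noncomputable def TD000_w : BT (Bx Nat) := (BT.node (nat_lit 2) (BT.node (nat_lit 1) (BT.leaf (Bx.mk (nat_lit 0xb5731000b75310000b9730000b5730000b9530000b7530000b7130000b5130000b9710000b5710000b9510000b7510000b7310000b53100000b9700000b5700000b9500000b7500000b9300000b7300000b5300000b1300000b9100000b7100000b5100000b31000000b9000000b7000000b5000000b3000000b10000000b0000573100007531000009730000057300000953000007530000071300000513000009710000057100000951000007510000073100000531000000970000005700000095000000750000009300000073000000530000001300000091000000710000005100000031000000090000000700000005000000030000000100000000))) (BT.leaf (Bx.mk (nat_lit 0xdb573100db7531000db973000db573000db953000db753000db713000db513000db971000db571000db951000db751000db731000db5310000db970000db570000db950000db750000db930000db730000db530000db130000db910000db710000db510000db3100000db900000db700000db500000db300000db1000000db000d5731000d75310000d9730000d5730000d9530000d7530000d7130000d5130000d9710000d5710000d9510000d7510000d7310000d53100000d9700000d5700000d9500000d7500000d9300000d7300000d5300000d1300000d9100000d7100000d5100000d31000000d9000000d7000000d5000000d3000000d10000000d))))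 (BT.node (nat_lit 3) (BT.leaf (Bx.mk (nat_lit 0xbdb57310bdb753100bdb97300bdb57300bdb95300bdb75300bdb71300bdb51300bdb97100bdb57100bdb95100bdb75100bdb73100bdb531000bdb97000bdb57000bdb95000bdb75000bdb93000bdb73000bdb53000bdb13000bdb91000bdb71000bdb51000bdb310000bdb90000bdb70000bdb50000bdb30000bdb100000bdb00bd573100bd7531000bd973000bd573000bd953000bd753000bd713000bd513000bd971000bd571000bd951000bd751000bd731000bd5310000bd970000bd570000bd950000bd750000bd930000bd730000bd530000bd130000bd910000bd710000bd510000bd3100000bd900000bd700000bd500000bd300000bd1000000bd))) (BT.leaf (Bx.mk (nat_lit 0xdbdb5731dbdb75310dbdb9730dbdb5730dbdb9530dbdb7530dbdb7130dbdb5130dbdb9710dbdb5710dbdb9510dbdb7510dbdb7310dbdb53100dbdb9700dbdb5700dbdb9500dbdb7500dbdb9300dbdb7300dbdb5300dbdb1300dbdb9100dbdb7100dbdb5100dbdb31000dbdb9000dbdb7000dbdb5000dbdb3000dbdb10000dbdb0dbd57310dbd753100dbd97300dbd57300dbd95300dbd75300dbd71300dbd51300dbd97100dbd57100dbd95100dbd75100dbd73100dbd531000dbd97000dbd57000dbd95000dbd75000dbd93000dbd73000dbd53000dbd13000dbd91000dbd71000dbd51000dbd310000dbd90000dbd70000dbd50000dbd30000dbd100000dbd)))))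
noncomputable def TD000_cols : List (BT (Bx Nat)) := [TD000_c0, TD000_c1, TD000_c1, TD000_c3, TD000_c3, TD000_c5, TD000_c5, TD000_c7, TD000_c7, TD000_c9, TD000_c9, TD000_c11, TD000_c11, TD000_c13, TD000_c13]
noncomputable def TD000_ch (x j : Nat) : Bx Nat := chk TD000_cols x j
noncomputable def TD000_wc (_ j : Nat) : Bx Nat := TD000_w.get j
noncomputable def TD000 : CT := ⟨(nat_lit 256), (nat_lit 8), (nat_lit 255), TD000_ch, (nat_lit 32), (nat_lit 4294967295), TD000_wc, (nat_lit 32766)⟩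
theorem TD000_ok : TD000.ok = true := by decide +kernel
theorem TD000_rel : lall TD000.relOK RD000 = true := by decide +kernel
noncomputable def eD000_c0 : BT (Bx Nat) := (BT.node (nat_lit 1) (BT.leaf (Bx.mk (nat_lit 0x0))) (BT.leaf (Bx.mk (nat_lit 0x0))))
noncomputable def eD000_c1 : BT (Bx Nat) := (BT.node (nat_lit 1) (BT.leaf (Bx.mk (nat_lit 0x4c23dd43ae66c23e5408e03573a505ce37173f5a3aeb5173fef08f5c0ebdac08e8b023a8c08ef717401508c83463ca508c2bc23b303aed6423e2d3af33023eed5cf4b822c1308fe3c2349f18de3c23eb01aa79822f5518fc846291e08e48c2301d08d46422d1b08b24c2305708c6a0eae6908bcb0eaa5e18dc9822dd03ae560231601abec06a46c089ca02256f08cbc0eb32c08b6b022e163af0b022bd816d864634701a83b0228a63aee506b6645cdd742221f08d09ceb86a1ad6bc22eb03abb9c235ed3ac99ceb4ed5ccab821b9a3adbb422c5c16dab862cef1ae7b4631f01a69c0599ef1aabb822b217866ac235641a7cbc238b1085d90e9a2008dfb4224ad1ac38461d271a729421fe31a86c06952d1ace7862315187e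7c222581a82b4222eb3a78a5733681685b8697ee1aa3bc233e0087bc4211ae5c4f98215dd089bb86a5e50861806265e18bfb021b62089e9c225301a38bc231170898c420d6e3a58986a7d4089abc69e6308a884ea42c1a4cb821f6a0896bc21db05877a45902008a1b421c6608a0b861ce41851a858f6f1ab5b4621e81853c0689b01624bc22ba308a5bc22b6008aac42086f0862b4595703a64985a2b1081fb4224e4082ec80a9ac6e568c20d2f1a49bc591ed08809c6a36b085cb0218ef089d9c21b2716338c21c310818b4223af084aace8deb087abd70ff0584eb8216ae081eb821672028fb4210ae1825bc68a6e1845ac60a280875b8212e60827a421bee7823c0684f01811c05842f0884a821371080ec80a0641a5b98214ac081dbc20aae161ab820665165eb8205ec0816b8205703a31b8210ea08419c60faf086bb42112f086ab420f310808c80996d081bc80982f1848b468caf0814b86082d0830bc58bf20250bc68b6d182cbc60af03a1cbc20eef0809bc20eaf0839c4200f20236c0681ee2406c0601701604c0904b20222bc2036d080cbc202ef080ac8083f10801c8080800000))) (BT.leaf (Bx.mk (nat_lit 0x1b08f1))))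
noncomputable def eD000_c2 : BT (Bx Nat) := (BT.node (nat_lit 1) (BT.leaf (Bx.mk (nat_lit 0x282bb530afa4cbbd972f002c9bc142efe1c2bbcc0adb34bb4920afd582ba920aec657bc980af3602ba4a0afb207be621edd2c7bfd35ef432338d78cf564bbc490ae575930d28cb4287ba1f0ae12c2bad51cda822b9180ac8787b5622ecc842bb9b0acd357be140ae2bc2b63036d96c7a84d1ec4742b7e00abb882afcc0af7407aad10aa2682ab941eac71db7210ade917ae202eba842af592ee0587afb10a83b992c4c0ad6702b9e25eb74072f201e888cbb4d50ac7889b24f0ac1857b51f0aca7c7aa630acb842b0a30a95ad91e510ae6687a7310a69b42b16f0aafc0dac1b1ccf602a3d30ace3c2b4632ea6782ae6d647d44724620aaa582a6a40a74b191fd21ed0682b5e51e93bc2a7b0369f94296990ab3b579ed71ca5c4293e40a96a029ae52e98917adb10a49902a82a6484402a9f10a46647ab5e0a789c2971b0a67a8717e71c56542a09f0ac08c71f310a38b991c690a92c80b1961c89782989e0a65ac2a8e20a64b02aa220a87b02a6e81e3ba82ad5f2e8eb0792ac0a63b828ae55ea490295310a26b42a16f1c37b870bef0a6dc0d9bb01c24a472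5e81e4bc80acaf5e3570723310a217dda0235e7eb591d9f1e81c0788241e32a42a2ed1e3f84b96281c8dc4287661c9da0294200a5dc4286e60a8abd910a51e73bd78ba51e44c4286292e59c80a66f1e45a4711ec68439c29aab0a77c80a52f0a3ca0293720290b8293a40a52ac2932e0a55b8706ae0a19b0297ac0a16b8285702e489c29eaa0a30ac70b320286b829c2b0a14b829a310a0db4287230a60b8287ab1e3ab429bee0a53bc28a6a0a39bc79d6c0a22c0d8b701e0bc0702b20272bc283af0a6cc42822d762ac8099af0a61c4281ef5e31c8096ee2e33c8095ed0a41bc710320251bc284ed1e3ebc78f6c1e36c0d85ed0a06c0781701c04bc283302e25c808d30260fbc28a2f0a27c4280b20223c8087ee2612bc2846f0a10c4280720209c8080c00000))) (BT.leaf (Bx.mk (nat_lit 0x160afc))))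
noncomputable def eD000_c3 : BT (Bx Nat) := (BT.node (nat_lit 1) (BT.leaf (Bx.mk (nat_lit 0xc33cd894fc666ba170cfe2433e120d005c33d0a52fb194ba870ce51cfb4983ef9114bfc40ced38338d03edb194bb1c52d514fbc850cef2833a450cf72d4bad80cfdc082b910ce0214bd9d0cca3cfbc6020be754ae923ee68a537659ab684337db52b83c33c1d20c7c08271952b3654b4d40cab6c33b9a0cc960335c60cf560fb11e20a770830d320c178332df0c957cfb35e3ee46d4b5100cb470336ac0cb1c0820d70cd16c333da0ca9483339f3ea474fa85f0ce26c32ed10cac70faf5c0ce16432dda0cdc694ae640cdec081ad152c8603362f0cafb54b1b02069c0d2caf0ce7c43195220bc54835ab949b6cfb0b0205f74334200c7b608265e0cc0c08169d20917032fe50c87c0815230c739c81fef0cd9a832ab10c4f5c329560c81a881e565262814b3280c849031f302049703289e0c5d70320130c7ec43115d3e66a831f670c775cf9a1d0c74988282c2071c080e295294bc331710c355c8261d3e8f98327543e8eac822e52093854a9aa0c32a4325d35264a0822ac5261a430e9e5288914a7af0c6dac321b10c25bc30a302026c0d1cb10c23bc32d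710c22bc32c160c89c43085c0c8cc80ab520c78c4308150c96ac31daf3e3bbc32a310c1e7cfa4280c4eb1a90ef0ca3c43071d0c46b4810af204ac0806ef0c9f9cf8f310c188c311270c33c80a6a9205ca430dac0c1da830aae0c56bc324a6522ec43051e5258c80a3645251ac316ec0c57bc30f710c11b148c663e12c1110660c53b83182a5275c4303ef0c85c4303aa3e4dc80a0af0c29a14942b207aac30fef0c2bc4302e50c48c08036c3e0cc110c2b3e4bc0d0d30906fc43026f0c6ec809c310c08c809b32026ac8099f20263bc304f2025eb4813320259bc3156f0c15c4301720252c0801ee4406c1106b20247c0d07e50c3ec8090310c03c808e720237bc30b6b0c2cc808bf10c02c8089f20224bc305ed0c16c8086710c01c808432020ac8081000000))) (BT.leaf (Bx.mk (nat_lit 0x1352fa))))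
noncomputable def eD000_c4 : BT (Bx Nat) := (BT.node (nat_lit 1) (BT.leaf (Bx.mk (nat_lit 0x4d43ad50ef44cb3a562cea292be540eec243bed80ef7660be190ef165440164afe643b81a0ec8692bd8e0eef3e0bc250ecb383b8d54afa483bfd50efc483bf520ee6383af1350e83142d260ed33d43b6428ac783afda82f38c3b2a02cb78d42e2382d7343b4ab54ce4d4289d0ed0883b70d0eb08942ea080b99d2b90e82dbc43a45e70d868c316a0eda892a8630ec29a0bba44adf9c3b01b4af2c43a0d60ebe643b3ee28af81c306450cc7c3b0e882c97cb385750c6803a20f30e78e02a610ed57c3b5220edd7c3b7a360a49c3a8cb0ee5c439a5a0e9cbc3ab8e50d6b43b13028b169425a30ee28e229df0e81883aee4309e883aae4506288399620eb6a142d520ed9843b36f0e9d9541f630ea8c0a281b50b2c4393d50e80b581ee60e8fa0c21590ead9a09d29308bb9516a80e6ec80b46f60899d2a6204a8c88396df0e8ea03a5255060b83a42180bdc438e200e7c9c3a5ee286dc80b1d40e468142a96309a9839e610e58903a7e15086b03a6680e559cc1fdb3067c438a6e5443c4389e50e95c4389a65054bc39aee7c5ea038e693092b43a1280e50c0a1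c6c0e47c80acf10e216839e2f60358d42965805da4393230ea6c4387e40e8ab4a126d0e7090399310e1d8d4236d0e93b4389224a7ebcc0d2b0e32a541ea50e72c4386250e2abd80ba92c6cc80a6f10e17bc392ea3063c12936d542db0397f10e14b541a953082c4384ee0e22b439daf0e3bac384af0e3eb928df04640c43842c0e36c0a10b10e0fa541bf20287b438fed503cb8399ae0e57bc38c6c7056c128ceb0e0cbc38b2e0e51b0392b0462fc4382a65052c809df10e09c809d720273c43822e7a59bc383af4a44c809a310e07c80986f0e1cc8097304a1ebc3836d0e06bc385b20253c8093b04619c4381320248c80916c3041c4380f2023dc808eb02c23c0a06ec5030c4380b2022bc808a320225c80882e461ac4380720215c808472020bc8081400000))) (BT.leaf (Bx.mk (nat_lit 0x180ef5))))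
noncomputable def eD000_c5 : BT (Bx Nat) := (BT.node (nat_lit 1) (BT.leaf (Bx.mk (nat_lit 0x2043a154ef84443ccc10fb3523f144edb253ba9410fe5523d194ef2393bbd410f7493bf5810f6604321511003443d604ebf1c4395310d231cb98810f9652380972ff3042f8b10eb208bb664eb82c8ad1510ae95232d810e98d3b5e310c98d234db22ca4c43e9710cf644311310d688437d474d8804286010b6884375448ec59d270b10b0610b69b10c58122ea34ebd904385a10dc913b79948f16c430d042bc71d339a42d9708b1e24e8860420e610b77c43b8d74e7884330f10c68c4255f10cd844292510e49d230214ed49109f0a10e35842acf109159d2b0c42d06c4289642e25109ed510b15d0acdd72809041d28746e4dc9a62106589398a24eb9a04219c72af853b56542978c42125229295d215510d1ac423df7481ad3a5a64e4f904282a1099913aee442548041ae4109e408ac9b7267b1226de1082b9d185f4e4691d1ca310578939e2110c28441e6922a39042764749f653b05f488e784269c10aa8920e214e35a9c9b6310b54c42b68422d893a1e11089ad090aa1045b841be54ea99d09263108b9c896ac1059bdd1d6710a8a441f6d743f8522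4e4222e48429ef1064684242d4e588d229b04868bdd13a110a5b44236f723491389ab10249040866102084407e61071b509c2c1066908a2a6721bb1d12a31094bc412e542368dc91e61037944262e1063bd386287417c1214eb10559841cee1022884145e108cad09dae4e1485d04ea1077c44046f103db041b311010c10902b722a91d0a687428a1d09e1107f9dc942410528041fae1060bd383a3720db9208f1100bbc40ae3106a9c41eb1100ac108bea103c8c40ee7103a9c40e63105fbc4072c425eb440c6f48489539767425c88896ef4e0891381f0482594415b11005bc4056e104d9c413311004c10866d104480410f11003c809072023ebc4026e10338840cb11002c808c32022cc0883ee101e8c407711001c8086b20216c8084b2020cc8081800000))) (BT.leaf (Bx.mk (nat_lit 0x164ef0))))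
noncomputable def eD000_c6 : BT (Bx Nat) := (BT.node (nat_lit 1) (BT.leaf (Bx.mk (nat_lit 0x44b91040dd384b71040df258b5ce12d5384b50c66d3104b78732cb14cb31056c941b328e6ce1390308e32bf2d5af4f63000c4ae8312bb284add056b61c4ae506cb8c44ab5012c0284b34232ff3902a7112a6344bc9012a43c4bf0532f73c4bf8f32fd5c4a871129bc44a6b11299204bef112963d9be8f32f92c4be0c1295944a6311290c44a3f1128e2d5b94412f5184bd8f12f33c4bd0e1288784aa961289c44a0b11281c44a00d12f1c449f9162e6344bc31127b284bbf1127810cbb0432ed2103a4f12e82d03acf12eac449ab09c74844a95c328cc449a311267c4499b11265c80b9f11264c44989f2ac7344b8f1125ec44977202e288aacd166e0c449671125861036f11253c4494b11251c449431124fc80b6b202d9c80b6262ad1c4492f202d635b34a6404dc4492311247c4491b202d0c80b3f202cea0c9d5b12b2c448ff1123d5d0318f32c8ac48f2c1270c448df11236c448d7202c5c80b13202c3c448cf202c1c448c71122ec80afb1122cc448ab202bca04907112289c4a36f12b4b44912f126cc44896d6286a8c98711224c4488f03872c4488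b202b5c44887202b1c80ac3202afc80abb202acbcc8bf202aba449bef4039c4487b202a8c80a9ea6c309598fb1121cc80a8f202a2b449031121ac4486711218c80a832029fc80a7b2029dc80a72d122b944a5311216c80a5f11215c4485320293c80a4b20291bc48eae2a73c4484b11211a559dee6257c80a2e4125bc80a2ac2a87c4483f02a45b849831120ec80a1720284c80a0ef1227c809ff1120cc809f69125cb8498f2027cc4482b2027ab9593b20279c4482720276c0e0d311208c809c72026ec809b72026bc809a6f120bbc48432025fc4481b2025ac4481720256c8095720254c448132024cc8092b20249c4480f20243c8090b0381fc808ef20238c4480b20232c0a8832022dc808a720226c448072021dc8086f20217c8084f2020dc8081c00000))) (BT.leaf (Bx.mk (nat_lit 0xe12ee))))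
noncomputable def eD000_c7 : BT (Bx Nat) := (BT.node (nat_lit 1) (BT.leaf (Bx.mk (nat_lit 0xc4538b114dac45367114d8c4535b114d1c45343114cfc4533b114c7c4531b114c5c45313114c3c45307114bec452f3114b5c452cf114b2c452c7114b0c452bf114aec80c03114acc452af114a8c4529f202ffc4528f114a2c452831149fc4527b1149dc45273202fec80bf7202fcc4525f202fbc4525311493c4524b11491c80beb202f9c80be3202f7c4522f11487c4521b11485c4521311483c80bdb202f5c80bd3202f3c80bcb1147fc80bc71147dc451f3202f0c451e7202efc451cf11472c451c71146ec451b71146bc80bbb11469c80bb7202ecc80baf202eac80ba7202e86051eb202e6c80b9711460c4517f202e4c80b8e1148dc4516f1145ac80b87202e0c45153202dfc80b7b202ddc80b73202dbb0518d5148a7e19571144cc80b5f1144ac45127202d5c80b53202d3c80b4a21477b0513b1144588f29b11443c80b356989ac450ef11438c80b33202cbc80b2b202c9c80b2291476b0515f11434c80b0b11432c80b03202bfc450b5986adc80af7114298e1242a96829e197b11426c80aef202bac80ae628639c45093202b8c80adeb143ec80a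dac142cc80ad25145c68510a27e56bc518711420b5326f1141fc0f197202aac80aa661475c4507664c68c80a97202a49a489f1141bb4f20611466785267202a1b850665143ab450bed143dc4505ed5a8fc4505b20298c4505720296c80a56f1441a168af11413c80a3b11412c80a31b9867c13122f1437c45042c926cb969431140fc80a2665a528451c320288c23902f1428c4503720280c450332027ec4502ee4c23b931471140ac809eed3c6a9c511f11409c809e303c3694516720274bc506b2026fb450c2f1411c4501f20264c8098b11406c8097711405c8096304c25bd314f11404c8093f2024dc8092f11403c8091b20244c0f08b2023fc808f311402c808d720233c808c72022ec808ab11401c808872021ec8087320218c808532020ec8082000000))) (BT.leaf (Bx.mk (nat_lit 0x3114e7))))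
noncomputable def eD000_p : BT (Bx Nat) := (BT.node (nat_lit 1) (BT.leaf (Bx.mk (nat_lit 0xce21f3687cd91f3607cd61f3447cd01f33c7cce1f31c7cc61f3147cc41f30c7cc11f2f87cbc1ead47ab31eac87ab11eac07aaf1eab87aad1aab07aab1eaa07aa71ea986aa31ea887aa01ea7c7a9e1ea747a9c1ea6c6a9a1aa646a971ea586a941ea4c7a921ea447a9112a406a8f1aa386a8b1ea1c7a861ea147a841ea0c7a8312a0c2a821aa046a801a9fc7a7e1a9f47a7c1e9ec6a791e9e068731e1c878711e1b8786d1e1ac786a1a1a47869121a428681a19c68661a19468650e19068621a180785f1e178685d1a174185b1e16878591a16068541e14c68521a14468501a13c684f1213c384f0a130784b1a12878491e12428481a11c68461a11828460611478450e10c783f1a0f4683b1e0e07838120e028371a0d868351a0d43835060d078331a0c878311a0b8682d1e0b0682a1a0a47829120a068271189876261189826251989436241d89066231988c36221988836211988446210d88426210588076200d87c761f1187c161e19878361d1d874461d09870661c0d86c761b0986866191986066181186036180986016171d85c46161d85866151d85466141985046140d84c76131184876121984466111584436101d84056101183c760f1983c460f0d838660e0d838160d1d834260c1d830660b1d82c560b0d828760a19828560a1182476091982446090d02064081102034080902014071d01c44070901874061901474051901454050d01074041901054041100c74031900c54031100c3403050087402190085402110083402088047201188045201108043201088041000000000)))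 (BT.leaf (Bx.mk (nat_lit 0x339c7))))
noncomputable def eD000_e : BT Nat := BT.leaf (nat_lit 0)
noncomputable def eD000_cols : List (BT (Bx Nat)) := [eD000_c0, eD000_c1, eD000_c2, eD000_c3, eD000_c4, eD000_c5, eD000_c6, eD000_c7]
noncomputable def eD000_ch (x j : Nat) : Bx Nat := chunkG eD000_cols (nat_lit 2) x j
noncomputable def eD000_L (x : Nat) : Bx (Nat → Nat) := lookG eD000_ch (nat_lit 8) (nat_lit 255) (nat_lit 22) (nat_lit 4194303) x
noncomputable def eD000_pc (_ j : Nat) : Bx Nat := eD000_p.get j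
noncomputable def eD000_pb : Bx (Nat → Nat) := lookG eD000_pc (nat_lit 8) (nat_lit 255) (nat_lit 18) (nat_lit 262143) (nat_lit 0)
noncomputable def eD000_rots : BT CW := (BT.node (nat_lit 39) (BT.node (nat_lit 19) (BT.node (nat_lit 9) (BT.node (nat_lit 4) (BT.node (nat_lit 2) (BT.node (nat_lit 1) (BT.leaf ⟨[], (nat_lit 1000000), (nat_lit 0), (nat_lit 0), (nat_lit 0)⟩) (BT.leaf ⟨[], (nat_lit 1000000), (nat_lit 0), (nat_lit 0), (nat_lit 1)⟩)) (BT.node (nat_lit 3) (BT.leaf ⟨[], (nat_lit 1000000), (nat_lit 0), (nat_lit 0), (nat_lit 2)⟩) (BT.leaf ⟨[(nat_lit 1), (nat_lit 1)], (nat_lit 0), (nat_lit 0), (nat_lit 0), (nat_lit 3)⟩))) (BT.node (nat_lit 6) (BT.node (nat_lit 5) (BT.leaf ⟨[(nat_lit 2), (nat_lit 2)], (nat_lit 1), (nat_lit 0), (nat_lit 0), (nat_lit 3)⟩) (BT.leaf ⟨[(nat_lit 3), (nat_lit 3)], (nat_lit 2), (nat_lit 0), (nat_lit 0), (nat_lit 3)⟩)) (BT.node (nat_lit 7) (BT.leaf ⟨[(nat_lit 4), (nat_lit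 4)], (nat_lit 3), (nat_lit 0), (nat_lit 0), (nat_lit 3)⟩) (BT.node (nat_lit 8) (BT.leaf ⟨[(nat_lit 5), (nat_lit 5)], (nat_lit 4), (nat_lit 0), (nat_lit 0), (nat_lit 3)⟩) (BT.leaf ⟨[(nat_lit 6), (nat_lit 6)], (nat_lit 19), (nat_lit 0), (nat_lit 0), (nat_lit 3)⟩))))) (BT.node (nat_lit 14) (BT.node (nat_lit 11) (BT.node (nat_lit 10) (BT.leaf ⟨[(nat_lit 7), (nat_lit 7)], (nat_lit 20), (nat_lit 0), (nat_lit 0), (nat_lit 3)⟩) (BT.leaf ⟨[(nat_lit 1), (nat_lit 3), (nat_lit 1), (nat_lit 3)], (nat_lit 7), (nat_lit 0), (nat_lit 0), (nat_lit 3)⟩)) (BT.node (nat_lit 12) (BT.leaf ⟨[(nat_lit 1), (nat_lit 4), (nat_lit 1), (nat_lit 4)], (nat_lit 8), (nat_lit 0), (nat_lit 0), (nat_lit 3)⟩) (BT.node (nat_lit 13) (BT.leaf ⟨[(nat_lit 1), (nat_lit 6), (nat_lit 1), (nat_lit 6)], (nat_lit 11), (nat_lit 1), (nat_lit 0), (nat_lit 3)⟩) (BT.leaf ⟨[(nat_lit 2), (nat_lit 3), (nat_lit 2), (nat_lit 3)], (nat_lit 9), (nat_lit 0),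 (nat_lit 0), (nat_lit 3)⟩)))) (BT.node (nat_lit 16) (BT.node (nat_lit 15) (BT.leaf ⟨[(nat_lit 2), (nat_lit 4), (nat_lit 2), (nat_lit 4)], (nat_lit 10), (nat_lit 0), (nat_lit 0), (nat_lit 3)⟩) (BT.leaf ⟨[(nat_lit 3), (nat_lit 6), (nat_lit 3), (nat_lit 6)], (nat_lit 13), (nat_lit 1), (nat_lit 0), (nat_lit 3)⟩)) (BT.node (nat_lit 17) (BT.leaf ⟨[(nat_lit 5), (nat_lit 1), (nat_lit 2), (nat_lit 1), (nat_lit 2)], (nat_lit 5), (nat_lit 4), (nat_lit 0), (nat_lit 3)⟩) (BT.node (nat_lit 18) (BT.leaf ⟨[(nat_lit 1), (nat_lit 5), (nat_lit 2), (nat_lit 1), (nat_lit 2)], (nat_lit 34), (nat_lit 4), (nat_lit 0), (nat_lit 3)⟩) (BT.leaf ⟨[(nat_lit 2), (nat_lit 1), (nat_lit 2), (nat_lit 1), (nat_lit 5)], (nat_lit 34), (nat_lit 1), (nat_lit 0), (nat_lit 3)⟩)))))) (BT.node (nat_lit 29) (BT.node (nat_lit 24) (BT.node (nat_lit 21) (BT.node (nat_lit 20) (BT.leaf ⟨[(nat_lit 4), (nat_lit 6), (nat_lit 4), (nat_lit 1), (nat_lit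 6)], (nat_lit 14), (nat_lit 1), (nat_lit 0), (nat_lit 3)⟩) (BT.leaf ⟨[(nat_lit 6), (nat_lit 4), (nat_lit 6), (nat_lit 1), (nat_lit 4)], (nat_lit 43), (nat_lit 2), (nat_lit 0), (nat_lit 3)⟩)) (BT.node (nat_lit 22) (BT.leaf ⟨[(nat_lit 4), (nat_lit 2), (nat_lit 7), (nat_lit 1), (nat_lit 7)], (nat_lit 15), (nat_lit 3), (nat_lit 0), (nat_lit 3)⟩) (BT.node (nat_lit 23) (BT.leaf ⟨[(nat_lit 2), (nat_lit 4), (nat_lit 7), (nat_lit 1), (nat_lit 7)], (nat_lit 44), (nat_lit 0), (nat_lit 0), (nat_lit 3)⟩) (BT.leaf ⟨[(nat_lit 4), (nat_lit 2), (nat_lit 4), (nat_lit 2)], (nat_lit 10), (nat_lit 1), (nat_lit 0), (nat_lit 3)⟩)))) (BT.node (nat_lit 26) (BT.node (nat_lit 25) (BT.leaf ⟨[(nat_lit 6), (nat_lit 3), (nat_lit 6), (nat_lit 3)], (nat_lit 13), (nat_lit 0), (nat_lit 0), (nat_lit 3)⟩) (BT.leaf ⟨[(nat_lit 3), (nat_lit 2), (nat_lit 6), (nat_lit 2), (nat_lit 6)], (nat_lit 12), (nat_lit 3), (nat_lit 0), (nat_lit 3)⟩))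 (BT.node (nat_lit 27) (BT.leaf ⟨[(nat_lit 2), (nat_lit 6), (nat_lit 3), (nat_lit 2), (nat_lit 6)], (nat_lit 12), (nat_lit 1), (nat_lit 0), (nat_lit 3)⟩) (BT.node (nat_lit 28) (BT.leaf ⟨[(nat_lit 6), (nat_lit 2), (nat_lit 6), (nat_lit 2), (nat_lit 3)], (nat_lit 41), (nat_lit 2), (nat_lit 0), (nat_lit 3)⟩) (BT.leaf ⟨[(nat_lit 1), (nat_lit 7), (nat_lit 4), (nat_lit 2), (nat_lit 7)], (nat_lit 15), (nat_lit 1), (nat_lit 0), (nat_lit 3)⟩))))) (BT.node (nat_lit 34) (BT.node (nat_lit 31) (BT.node (nat_lit 30) (BT.leaf ⟨[(nat_lit 7), (nat_lit 1), (nat_lit 7), (nat_lit 2), (nat_lit 4)], (nat_lit 44), (nat_lit 2), (nat_lit 0), (nat_lit 3)⟩) (BT.leaf ⟨[(nat_lit 3), (nat_lit 1), (nat_lit 3), (nat_lit 1)], (nat_lit 7), (nat_lit 1), (nat_lit 0), (nat_lit 3)⟩)) (BT.node (nat_lit 32) (BT.leaf ⟨[(nat_lit 6), (nat_lit 1), (nat_lit 6), (nat_lit 1)], (nat_lit 11), (nat_lit 0), (nat_lit 0), (nat_lit 3)⟩) (BT.node (nat_lit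 33) (BT.leaf ⟨[(nat_lit 5), (nat_lit 3), (nat_lit 4), (nat_lit 3), (nat_lit 4)], (nat_lit 6), (nat_lit 4), (nat_lit 0), (nat_lit 3)⟩) (BT.leaf ⟨[(nat_lit 3), (nat_lit 5), (nat_lit 4), (nat_lit 3), (nat_lit 4)], (nat_lit 35), (nat_lit 4), (nat_lit 0), (nat_lit 3)⟩)))) (BT.node (nat_lit 36) (BT.node (nat_lit 35) (BT.leaf ⟨[(nat_lit 4), (nat_lit 3), (nat_lit 4), (nat_lit 3), (nat_lit 5)], (nat_lit 35), (nat_lit 1), (nat_lit 0), (nat_lit 3)⟩) (BT.leaf ⟨[(nat_lit 5), (nat_lit 4), (nat_lit 7), (nat_lit 4), (nat_lit 7)], (nat_lit 18), (nat_lit 3), (nat_lit 0), (nat_lit 3)⟩)) (BT.node (nat_lit 37) (BT.leaf ⟨[(nat_lit 4), (nat_lit 7), (nat_lit 5), (nat_lit 4), (nat_lit 7)], (nat_lit 18), (nat_lit 1), (nat_lit 0), (nat_lit 3)⟩) (BT.node (nat_lit 38) (BT.leaf ⟨[(nat_lit 7), (nat_lit 4), (nat_lit 7), (nat_lit 4), (nat_lit 5)], (nat_lit 47), (nat_lit 2), (nat_lit 0), (nat_lit 3)⟩) (BT.leaf ⟨[(nat_lit 5), (nat_lit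 7), (nat_lit 4), (nat_lit 7), (nat_lit 4)], (nat_lit 47), (nat_lit 1), (nat_lit 0), (nat_lit 3)⟩))))))) (BT.node (nat_lit 58) (BT.node (nat_lit 48) (BT.node (nat_lit 43) (BT.node (nat_lit 41) (BT.node (nat_lit 40) (BT.leaf ⟨[(nat_lit 4), (nat_lit 1), (nat_lit 4), (nat_lit 1)], (nat_lit 8), (nat_lit 1), (nat_lit 0), (nat_lit 3)⟩) (BT.leaf ⟨[(nat_lit 3), (nat_lit 2), (nat_lit 3), (nat_lit 2)], (nat_lit 9), (nat_lit 1), (nat_lit 0), (nat_lit 3)⟩)) (BT.node (nat_lit 42) (BT.leaf ⟨[(nat_lit 4), (nat_lit 1), (nat_lit 6), (nat_lit 4), (nat_lit 6)], (nat_lit 14), (nat_lit 3), (nat_lit 0), (nat_lit 3)⟩) (BT.leaf ⟨[(nat_lit 6), (nat_lit 4), (nat_lit 6), (nat_lit 4), (nat_lit 1)], (nat_lit 14), (nat_lit 0), (nat_lit 0), (nat_lit 3)⟩))) (BT.node (nat_lit 45) (BT.node (nat_lit 44) (BT.leaf ⟨[(nat_lit 1), (nat_lit 4), (nat_lit 6), (nat_lit 4), (nat_lit 6)], (nat_lit 43), (nat_lit 0), (nat_lit 0), (nat_lit 3)⟩) (BT.leaf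 ⟨[(nat_lit 7), (nat_lit 1), (nat_lit 7), (nat_lit 4), (nat_lit 2)], (nat_lit 15), (nat_lit 0), (nat_lit 0), (nat_lit 3)⟩)) (BT.node (nat_lit 46) (BT.leaf ⟨[(nat_lit 1), (nat_lit 7), (nat_lit 2), (nat_lit 4), (nat_lit 7)], (nat_lit 44), (nat_lit 3), (nat_lit 0), (nat_lit 3)⟩) (BT.node (nat_lit 47) (BT.leaf ⟨[(nat_lit 2), (nat_lit 7), (nat_lit 1), (nat_lit 7), (nat_lit 4)], (nat_lit 15), (nat_lit 4), (nat_lit 0), (nat_lit 3)⟩) (BT.leaf ⟨[(nat_lit 4), (nat_lit 7), (nat_lit 1), (nat_lit 7), (nat_lit 2)], (nat_lit 44), (nat_lit 1), (nat_lit 0), (nat_lit 3)⟩))))) (BT.node (nat_lit 53) (BT.node (nat_lit 50) (BT.node (nat_lit 49) (BT.leaf ⟨[(nat_lit 6), (nat_lit 2), (nat_lit 6), (nat_lit 3), (nat_lit 2)], (nat_lit 12), (nat_lit 0), (nat_lit 0), (nat_lit 3)⟩) (BT.leaf ⟨[(nat_lit 2), (nat_lit 6), (nat_lit 2), (nat_lit 3), (nat_lit 6)], (nat_lit 41), (nat_lit 3), (nat_lit 0), (nat_lit 3)⟩)) (BT.node (nat_lit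 51) (BT.leaf ⟨[(nat_lit 6), (nat_lit 3), (nat_lit 2), (nat_lit 6), (nat_lit 2)], (nat_lit 12), (nat_lit 2), (nat_lit 0), (nat_lit 3)⟩) (BT.node (nat_lit 52) (BT.leaf ⟨[(nat_lit 2), (nat_lit 6), (nat_lit 2), (nat_lit 6), (nat_lit 3)], (nat_lit 12), (nat_lit 4), (nat_lit 0), (nat_lit 3)⟩) (BT.leaf ⟨[(nat_lit 3), (nat_lit 6), (nat_lit 2), (nat_lit 6), (nat_lit 2)], (nat_lit 41), (nat_lit 1), (nat_lit 0), (nat_lit 3)⟩)))) (BT.node (nat_lit 55) (BT.node (nat_lit 54) (BT.leaf ⟨[(nat_lit 6), (nat_lit 4), (nat_lit 1), (nat_lit 6), (nat_lit 4)], (nat_lit 14), (nat_lit 2), (nat_lit 0), (nat_lit 3)⟩) (BT.leaf ⟨[(nat_lit 1), (nat_lit 6), (nat_lit 4), (nat_lit 6), (nat_lit 4)], (nat_lit 14), (nat_lit 4), (nat_lit 0), (nat_lit 3)⟩)) (BT.node (nat_lit 56) (BT.leaf ⟨[(nat_lit 4), (nat_lit 6), (nat_lit 4), (nat_lit 6), (nat_lit 1)], (nat_lit 43), (nat_lit 1), (nat_lit 0), (nat_lit 3)⟩) (BT.node (nat_lit 57) (BT.leaf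 ⟨[(nat_lit 5), (nat_lit 2), (nat_lit 1), (nat_lit 2), (nat_lit 1)], (nat_lit 34), (nat_lit 0), (nat_lit 0), (nat_lit 3)⟩) (BT.leaf ⟨[(nat_lit 5), (nat_lit 4), (nat_lit 3), (nat_lit 4), (nat_lit 3)], (nat_lit 35), (nat_lit 0), (nat_lit 0), (nat_lit 3)⟩)))))) (BT.node (nat_lit 68) (BT.node (nat_lit 63) (BT.node (nat_lit 60) (BT.node (nat_lit 59) (BT.leaf ⟨[(nat_lit 2), (nat_lit 1), (nat_lit 2), (nat_lit 5), (nat_lit 1)], (nat_lit 5), (nat_lit 1), (nat_lit 0), (nat_lit 3)⟩) (BT.leaf ⟨[(nat_lit 1), (nat_lit 2), (nat_lit 1), (nat_lit 5), (nat_lit 2)], (nat_lit 34), (nat_lit 2), (nat_lit 0), (nat_lit 3)⟩)) (BT.node (nat_lit 61) (BT.leaf ⟨[(nat_lit 4), (nat_lit 3), (nat_lit 4), (nat_lit 5), (nat_lit 3)], (nat_lit 6), (nat_lit 1), (nat_lit 0), (nat_lit 3)⟩) (BT.node (nat_lit 62) (BT.leaf ⟨[(nat_lit 4), (nat_lit 3), (nat_lit 5), (nat_lit 4), (nat_lit 3)], (nat_lit 35), (nat_lit 3), (nat_lit 0), (nat_lit 3)⟩)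 (BT.leaf ⟨[(nat_lit 7), (nat_lit 4), (nat_lit 5), (nat_lit 7), (nat_lit 4)], (nat_lit 47), (nat_lit 4), (nat_lit 0), (nat_lit 3)⟩)))) (BT.node (nat_lit 65) (BT.node (nat_lit 64) (BT.leaf ⟨[(nat_lit 4), (nat_lit 7), (nat_lit 4), (nat_lit 7), (nat_lit 5)], (nat_lit 18), (nat_lit 4), (nat_lit 0), (nat_lit 3)⟩) (BT.leaf ⟨[(nat_lit 4), (nat_lit 7), (nat_lit 4), (nat_lit 5), (nat_lit 7)], (nat_lit 47), (nat_lit 3), (nat_lit 0), (nat_lit 3)⟩)) (BT.node (nat_lit 66) (BT.leaf ⟨[(nat_lit 7), (nat_lit 4), (nat_lit 7), (nat_lit 5), (nat_lit 4)], (nat_lit 18), (nat_lit 0), (nat_lit 0), (nat_lit 3)⟩) (BT.node (nat_lit 67) (BT.leaf ⟨[(nat_lit 7), (nat_lit 4), (nat_lit 2), (nat_lit 7), (nat_lit 1)], (nat_lit 15), (nat_lit 2), (nat_lit 0), (nat_lit 3)⟩) (BT.leaf ⟨[(nat_lit 4), (nat_lit 6), (nat_lit 1), (nat_lit 4), (nat_lit 6)], (nat_lit 43), (nat_lit 3), (nat_lit 0), (nat_lit 3)⟩))))) (BT.node (nat_lit 73) (BT.node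 (nat_lit 70) (BT.node (nat_lit 69) (BT.leaf ⟨[(nat_lit 2), (nat_lit 5), (nat_lit 1), (nat_lit 2), (nat_lit 1)], (nat_lit 5), (nat_lit 3), (nat_lit 0), (nat_lit 3)⟩) (BT.leaf ⟨[(nat_lit 2), (nat_lit 1), (nat_lit 5), (nat_lit 2), (nat_lit 1)], (nat_lit 34), (nat_lit 3), (nat_lit 0), (nat_lit 3)⟩)) (BT.node (nat_lit 71) (BT.leaf ⟨[(nat_lit 7), (nat_lit 3), (nat_lit 4), (nat_lit 2), (nat_lit 1), (nat_lit 7), (nat_lit 3)], (nat_lit 17), (nat_lit 2), (nat_lit 0), (nat_lit 3)⟩) (BT.node (nat_lit 72) (BT.leaf ⟨[(nat_lit 3), (nat_lit 7), (nat_lit 3), (nat_lit 7), (nat_lit 1), (nat_lit 2), (nat_lit 4)], (nat_lit 46), (nat_lit 3), (nat_lit 0), (nat_lit 3)⟩) (BT.leaf ⟨[(nat_lit 7), (nat_lit 5), (nat_lit 4), (nat_lit 7), (nat_lit 4)], (nat_lit 18), (nat_lit 2), (nat_lit 0), (nat_lit 3)⟩)))) (BT.node (nat_lit 75) (BT.node (nat_lit 74) (BT.leaf ⟨[(nat_lit 3), (nat_lit 7), (nat_lit 3), (nat_lit 4), (nat_lit 2), (nat_lit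 1), (nat_lit 7)], (nat_lit 17), (nat_lit 1), (nat_lit 0), (nat_lit 3)⟩) (BT.leaf ⟨[(nat_lit 7), (nat_lit 3), (nat_lit 7), (nat_lit 1), (nat_lit 2), (nat_lit 4), (nat_lit 3)], (nat_lit 46), (nat_lit 4), (nat_lit 0), (nat_lit 3)⟩)) (BT.node (nat_lit 76) (BT.leaf ⟨[(nat_lit 7), (nat_lit 2), (nat_lit 4), (nat_lit 7), (nat_lit 1)], (nat_lit 44), (nat_lit 4), (nat_lit 0), (nat_lit 3)⟩) (BT.node (nat_lit 77) (BT.leaf ⟨[(nat_lit 3), (nat_lit 7), (nat_lit 1), (nat_lit 2), (nat_lit 4), (nat_lit 3), (nat_lit 7)], (nat_lit 46), (nat_lit 5), (nat_lit 0), (nat_lit 3)⟩) (BT.leaf ⟨[(nat_lit 6), (nat_lit 7), (nat_lit 6), (nat_lit 7), (nat_lit 6), (nat_lit 7), (nat_lit 6), (nat_lit 7)], (nat_lit 21), (nat_lit 0), (nat_lit 0), (nat_lit 3)⟩))))))))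
noncomputable def eD000_hcs : List CW := []
noncomputable def eD000_H (x j : Nat) : Bx (Nat → Nat → Nat) := mkH eD000_L eD000_pb.1 eD000_e.get (lmap CW.w eD000_hcs) (nat_lit 256) (nat_lit 257) (nat_lit 8) (nat_lit 512) (nat_lit 65536) (nat_lit 32767) x (eD000_rots.get j)
noncomputable def eD000_F (x b : Nat) : Bool := blkOK eD000_H eD000_ch (nat_lit 257) (nat_lit 512) (nat_lit 128) (nat_lit 8) (nat_lit 255) (nat_lit 22) (nat_lit 4194303) x b

theorem eD000_k0_0 : allFrom (eD000_F (nat_lit 0)) (nat_lit 0) (nat_lit 8) = true := by decide +kernel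
theorem eD000_k1_0 : allFrom (eD000_F (nat_lit 1)) (nat_lit 0) (nat_lit 8) = true := by decide +kernel
theorem eD000_k2_0 : allFrom (eD000_F (nat_lit 2)) (nat_lit 0) (nat_lit 8) = true := by decide +kernel
theorem eD000_k3_0 : allFrom (eD000_F (nat_lit 3)) (nat_lit 0) (nat_lit 8) = true := by decide +kernel
theorem eD000_k4_0 : allFrom (eD000_F (nat_lit 4)) (nat_lit 0) (nat_lit 8) = true := by decide +kernel
theorem eD000_k5_0 : allFrom (eD000_F (nat_lit 5)) (nat_lit 0) (nat_lit 8) = true := by decide +kernel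
theorem eD000_k6_0 : allFrom (eD000_F (nat_lit 6)) (nat_lit 0) (nat_lit 8) = true := by decide +kernel
theorem eD000_k7_0 : allFrom (eD000_F (nat_lit 7)) (nat_lit 0) (nat_lit 8) = true := by decide +kernel

theorem eD000_all : Cov eD000_F 8 8 0 := by
  have h := Cov.zero eD000_F 8
  have h := h.blk (b := 8) eD000_k0_0 rfl
  have h := h.next (y := 1) rfl rfl
  have h := h.blk (b := 8) eD000_k1_0 rfl
  have h := h.next (y := 2) rfl rfl
  have h := h.blk (b := 8) eD000_k2_0 rfl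
  have h := h.next (y := 3) rfl rfl
  have h := h.blk (b := 8) eD000_k3_0 rfl
  have h := h.next (y := 4) rfl rfl
  have h := h.blk (b := 8) eD000_k4_0 rfl
  have h := h.next (y := 5) rfl rfl
  have h := h.blk (b := 8) eD000_k5_0 rfl
  have h := h.next (y := 6) rfl rfl
  have h := h.blk (b := 8) eD000_k6_0 rfl
  have h := h.next (y := 7) rfl rfl
  have h := h.blk (b := 8) eD000_k7_0 rfl
  have h := h.next (y := 8) rfl rfl
  exact h

theorem eD000 : Enum RD000 [] (gensW 7) 256 :=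
  ⟨eD000_cols, eD000_ch, eD000_L, eD000_H, eD000_pb.1, eD000_e.get, [(nat_lit 0), (nat_lit 1), (nat_lit 3), (nat_lit 5), (nat_lit 7), (nat_lit 9), (nat_lit 11), (nat_lit 13)], (nat_lit 127), (nat_lit 7), eD000_rots, eD000_hcs,
    (nat_lit 257), (nat_lit 8), (nat_lit 512), (nat_lit 128), (nat_lit 65536), (nat_lit 32767), (nat_lit 8), (nat_lit 255), (nat_lit 22), (nat_lit 4194303), (nat_lit 2), (nat_lit 8),
    fun _ _ => rfl, fun _ => rfl, fun _ _ => rfl, by decide +kernel, eD000_all.1⟩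

theorem pD000 : TD000.Pres RD000 (gensW 7) := ⟨CT.ok_spec TD000_ok, lall_iff.1 TD000_rel, by decide +kernel,
  by decide +kernel, by decide +kernel, eD000.bound (ug_rels _) (bound_nil _)⟩

instance instTD000 : TD000.Grp := pD000.grp

noncomputable def SD001 : List (List Nat) := [[(nat_lit 11), (nat_lit 11)],
  [(nat_lit 13), (nat_lit 13)],
  [(nat_lit 11), (nat_lit 13), (nat_lit 11), (nat_lit 13), (nat_lit 11), (nat_lit 13), (nat_lit 11), (nat_lit 13), (nat_lit 10)]]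
noncomputable def RD001 : List (List Nat) := lapp RP (lapp Rka5 (lapp Rs16 SD001))
noncomputable def TD001_c0 : BT (Bx Nat) := (BT.node (nat_lit 2) (BT.node (nat_lit 1) (BT.leaf (Bx.mk (nat_lit 0x2c3d3e392d333c26312e35303a2a37342f363b3f2232292427382528232b21201f1e1d1a1b1c1312171415161918110e0f100d0c0b060908070a050403020100))) (BT.leaf (Bx.mk (nat_lit 0x81898f9388999c86849287989a8a82949e968b83978e9d919590858d9f9b8c80434f495a4b5c594e42544756535044525e5848415b465d4d554a45515f574c40)))) (BT.node (nat_lit 3) (BT.leaf (Bx.mk (nat_lit 0xa1a9afbca4bab3b2a8a6a7aab9b8abaebdb0a2a3b1b4beb7b5b6a5bbacadbfa0636f697962737a746b6e67707c7668667d6a64616d727e7b757865776c717f60))) (BT.leaf (Bx.mk (nat_lit 0xfdecfffae4fcf3f0e2eae7e6f9eeebf8e1f2e8fef1f6e3edf5f4e0fbe9f7efe5dfdeddd3d7d9dad4dbd2d5d8dcd6cdc6c9cad1ccc8cecfcbc7d0c5c2c1c4c3c0)))))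
noncomputable def TD001_c1 : BT (Bx Nat) := (BT.node (nat_lit 2) (BT.node (nat_lit 1) (BT.leaf (Bx.mk (nat_lit 0x3a3c333e323f2c2b31302f2e3d3b37363534263938222524232d2928272a20211a1c131e121f0c0b11100f0e1d1b17161514061918020504030d0908070a0001))) (BT.leaf (Bx.mk (nat_lit 0x60656761776963717b6d6c626f64786a7366767568707a6b7d6e7e7279747c7f5547454f504349564a585f5241544d5b5c4b51404e5759465e485d425a44534c)))) (BT.node (nat_lit 3) (BT.leaf (Bx.mk (nat_lit 0xa0a5a7a1b7a9a3b1bbadaca2afa4b8aab3a6b6b5a8b0baabbdaebeb2b9b4bcbf9587858f908389968a989f9281948d9b9c8b91808e9799869e889d829a84938c))) (BT.leaf (Bx.mk (nat_lit 0xf3f9faecedfdfeeaf4e8e9f7ffe6eee4e5f1fbfce2f8f5f6e1f2eff0e0ebe7e3d3d9dacccddddecad4c8c9d7dfc6cec4c5d1dbdcc2d8d5d6c1d2cfd0c0cbc7c3)))))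
noncomputable def TD001_c3 : BT (Bx Nat) := (BT.node (nat_lit 2) (BT.node (nat_lit 1) (BT.leaf (Bx.mk (nat_lit 0x28372e24253134293e332a3936213a2c2d3d2f302035383f26273b3c2223322b161411100f0e1715191f181e08071d1c1b1a050403090a1312010d0c0b000602))) (BT.leaf (Bx.mk (nat_lit 0x7278626b7a7b667e616774756a7f60636e6f6c6d7c73686976796465707d77715b4b4a585f524d5c40434e4f425a4147545559465e5d4445504c484956535157)))) (BT.node (nat_lit 3) (BT.leaf (Bx.mk (nat_lit 0xb4b6a4aea3b0a8a7b3beb2bfb7b5acbaabbca0b1afa1a6b9b8a9a2bdbba5aaad97889091808496819f99869394899c9d828c838e8587929e8a958b9a8d8f989b))) (BT.leaf (Bx.mk (nat_lit 0xebfbe6f2fef8e2fae5eff0e3edfce9f5f6e7f3eaffecf1e0eefdf7e1f4f9e4e8d8d2cddbdccbcadfc9d5d6c7c6dec5cfd0c3ddc2dad9d7c1d4d3d1c0ceccc8c4)))))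
noncomputable def TD001_c5 : BT (Bx Nat) := (BT.node (nat_lit 2) (BT.node (nat_lit 1) (BT.leaf (Bx.mk (nat_lit 0x33393a2c2d3d3e2a342829373f262e2425313b3c2238353621322f30202b272313191a0c0d1d1e0a140809171f060e0405111b1c0218151601120f10000b0703))) (BT.leaf (Bx.mk (nat_lit 0x7567656f706369766a787f7261746d7b7c6b71606e7779667e687d627a64736c40454741574943515b4d4c424f44584a5346565548505a4b5d4e5e5259545c5f)))) (BT.node (nat_lit 3) (BT.leaf (Bx.mk (nat_lit 0xb5a7a5afb0a3a9b6aab8bfb2a1b4adbbbcabb1a0aeb7b9a6bea8bda2baa4b3ac80858781978983919b8d8c828f84988a9386969588909a8b9d8e9e9299949c9f))) (BT.leaf (Bx.mk (nat_lit 0xfafcf3fef2ffecebf1f0efeefdfbf7f6f5f4e6f9f8e2e5e4e3ede9e8e7eae0e1dadcd3ded2dfcccbd1d0cfcedddbd7d6d5d4c6d9d8c2c5c4c3cdc9c8c7cac0c1)))))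
noncomputable def TD001_c7 : BT (Bx Nat) := (BT.node (nat_lit 2) (BT.node (nat_lit 1) (BT.leaf (Bx.mk (nat_lit 0x2b3b26323e38223a252f30232d3c29353627332a3f2c31202e3d37213439242818120d1b1c0b0a1f09151607061e050f10031d021a191701141311000e0c0804))) (BT.leaf (Bx.mk (nat_lit 0x7b6b6a787f726d7c60636e6f627a6167747579667e7d6465706c6869767371775258424b5a5b465e414754554a5f40434e4f4c4d5c53484956594445505d5751)))) (BT.node (nat_lit 3) (BT.leaf (Bx.mk (nat_lit 0xb7a8b0b1a0a4b6a1bfb9a6b3b4a9bcbda2aca3aea5a7b2beaab5abbaadafb8bb9496848e83908887939e929f97958c9a8b9c80918f8186999889829d9b858a8d))) (BT.leaf (Bx.mk (nat_lit 0xe8f7eee4e5f1f4e9fef3eaf9f6e1faecedfdeff0e0f5f8ffe6e7fbfce2e3f2ebd6d4d1d0cfced7d5d9dfd8dec8c7dddcdbdac5c4c3c9cad3d2c1cdcccbc0c6c2)))))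
noncomputable def TD001_c9 : BT (Bx Nat) := (BT.node (nat_lit 2) (BT.node (nat_lit 1) (BT.leaf (Bx.mk (nat_lit 0x3e3f2c3a2b3c3332283427363938242e2330223d3b262137352a20312f2d29251e1f0c1a0b1c1312081407161918040e0310021d1b060117150a00110f0d0905))) (BT.leaf (Bx.mk (nat_lit 0x7e7f6c7a6b7c7372687467767978646e6370627d7b666177756a60716f6d69655e5f4c5a4b5c5352485447565958444e4350425d5b464157554a40514f4d4945)))) (BT.node (nat_lit 3) (BT.leaf (Bx.mk (nat_lit 0xbebfacbaabbcb3b2a8b4a7b6b9b8a4aea3b0a2bdbba6a1b7b5aaa0b1afada9a59e9f8c9a8b9c9392889487969998848e8390829d9b868197958a80918f8d8985))) (BT.leaf (Bx.mk (nat_lit 0xfeffecfaebfcf3f2e8f4e7f6f9f8e4eee3f0e2fdfbe6e1f7f5eae0f1efede9e5dedfccdacbdcd3d2c8d4c7d6d9d8c4cec3d0c2dddbc6c1d7d5cac0d1cfcdc9c5)))))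
noncomputable def TD001_c11 : BT (Bx Nat) := (BT.node (nat_lit 2) (BT.node (nat_lit 1) (BT.leaf (Bx.mk (nat_lit 0x1f1e1d1c1b1a191817161514131211100f0e0d0c0b0a090807060504030201003f3e3d3c3b3a393837363534333231302f2e2d2c2b2a29282726252423222120))) (BT.leaf (Bx.mk (nat_lit 0xbfbebdbcbbbab9b8b7b6b5b4b3b2b1b0afaeadacabaaa9a8a7a6a5a4a3a2a1a09f9e9d9c9b9a999897969594939291908f8e8d8c8b8a89888786858483828180)))) (BT.node (nat_lit 3) (BT.leaf (Bx.mk (nat_lit 0x7f7e7d7c7b7a797877767574737271706f6e6d6c6b6a696867666564636261605f5e5d5c5b5a595857565554535251504f4e4d4c4b4a49484746454443424140))) (BT.leaf (Bx.mk (nat_lit 0xdedfccdacbdcd3d2c8d4c7d6d9d8c4cec3d0c2dddbc6c1d7d5cac0d1cfcdc9c5feffecfaebfcf3f2e8f4e7f6f9f8e4eee3f0e2fdfbe6e1f7f5eae0f1efede9e5)))))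
noncomputable def TD001_c13 : BT (Bx Nat) := (BT.node (nat_lit 2) (BT.node (nat_lit 1) (BT.leaf (Bx.mk (nat_lit 0x7f7e7d7c7b7a797877767574737271706f6e6d6c6b6a696867666564636261605f5e5d5c5b5a595857565554535251504f4e4d4c4b4a49484746454443424140))) (BT.leaf (Bx.mk (nat_lit 0x3f3e3d3c3b3a393837363534333231302f2e2d2c2b2a292827262524232221201f1e1d1c1b1a191817161514131211100f0e0d0c0b0a09080706050403020100)))) (BT.node (nat_lit 3) (BT.leaf (Bx.mk (nat_lit 0xfffefdfcfbfaf9f8f7f6f5f4f3f2f1f0efeeedecebeae9e8e7e6e5e4e3e2e1e0dfdedddcdbdad9d8d7d6d5d4d3d2d1d0cfcecdcccbcac9c8c7c6c5c4c3c2c1c0))) (BT.leaf (Bx.mk (nat_lit 0xbfbebdbcbbbab9b8b7b6b5b4b3b2b1b0afaeadacabaaa9a8a7a6a5a4a3a2a1a09f9e9d9c9b9a999897969594939291908f8e8d8c8b8a89888786858483828180)))))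
noncomputable def TD001_w : BT (Bx Nat) := (BT.node (nat_lit 2) (BT.node (nat_lit 1) (BT.leaf (Bx.mk (nat_lit 0xb5731000b75310000b9730000b5730000b9530000b7530000b7130000b5130000b9710000b5710000b9510000b7510000b7310000b53100000b9700000b5700000b9500000b7500000b9300000b7300000b5300000b1300000b9100000b7100000b5100000b31000000b9000000b7000000b5000000b3000000b10000000b0000573100007531000009730000057300000953000007530000071300000513000009710000057100000951000007510000073100000531000000970000005700000095000000750000009300000073000000530000001300000091000000710000005100000031000000090000000700000005000000030000000100000000))) (BT.leaf (Bx.mk (nat_lit 0xdb573100db7531000db973000db573000db953000db753000db713000db513000db971000db571000db951000db751000db731000db5310000db970000db570000db950000db750000db930000db730000db530000db130000db910000db710000db510000db3100000db900000db700000db500000db300000db1000000db000d5731000d75310000d9730000d5730000d9530000d7530000d7130000d5130000d9710000d5710000d9510000d7510000d7310000d53100000d9700000d5700000d9500000d7500000d9300000d7300000d5300000d1300000d9100000d7100000d5100000d31000000d9000000d7000000d5000000d3000000d10000000d))))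 (BT.node (nat_lit 3) (BT.leaf (Bx.mk (nat_lit 0xbdb57310bdb753100bdb97300bdb57300bdb95300bdb75300bdb71300bdb51300bdb97100bdb57100bdb95100bdb75100bdb73100bdb531000bdb97000bdb57000bdb95000bdb75000bdb93000bdb73000bdb53000bdb13000bdb91000bdb71000bdb51000bdb310000bdb90000bdb70000bdb50000bdb30000bdb100000bdb00bd573100bd7531000bd973000bd573000bd953000bd753000bd713000bd513000bd971000bd571000bd951000bd751000bd731000bd5310000bd970000bd570000bd950000bd750000bd930000bd730000bd530000bd130000bd910000bd710000bd510000bd3100000bd900000bd700000bd500000bd300000bd1000000bd))) (BT.leaf (Bx.mk (nat_lit 0xdbdb5731dbdb75310dbdb9730dbdb5730dbdb9530dbdb7530dbdb7130dbdb5130dbdb9710dbdb5710dbdb9510dbdb7510dbdb7310dbdb53100dbdb9700dbdb5700dbdb9500dbdb7500dbdb9300dbdb7300dbdb5300dbdb1300dbdb9100dbdb7100dbdb5100dbdb31000dbdb9000dbdb7000dbdb5000dbdb3000dbdb10000dbdb0dbd57310dbd753100dbd97300dbd57300dbd95300dbd75300dbd71300dbd51300dbd97100dbd57100dbd95100dbd75100dbd73100dbd531000dbd97000dbd57000dbd95000dbd75000dbd93000dbd73000dbd53000dbd13000dbd91000dbd71000dbd51000dbd310000dbd90000dbd70000dbd50000dbd30000dbd100000dbd)))))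
noncomputable def TD001_cols : List (BT (Bx Nat)) := [TD001_c0, TD001_c1, TD001_c1, TD001_c3, TD001_c3, TD001_c5, TD001_c5, TD001_c7, TD001_c7, TD001_c9, TD001_c9, TD001_c11, TD001_c11, TD001_c13, TD001_c13]
noncomputable def TD001_ch (x j : Nat) : Bx Nat := chk TD001_cols x j
noncomputable def TD001_wc (_ j : Nat) : Bx Nat := TD001_w.get j
noncomputable def TD001 : CT := ⟨(nat_lit 256), (nat_lit 8), (nat_lit 255), TD001_ch, (nat_lit 32), (nat_lit 4294967295), TD001_wc, (nat_lit 32766)⟩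
theorem TD001_ok : TD001.ok = true := by decide +kernel
theorem TD001_rel : lall TD001.relOK RD001 = true := by decide +kernel
noncomputable def eD001_c0 : BT (Bx Nat) := (BT.node (nat_lit 1) (BT.leaf (Bx.mk (nat_lit 0x0))) (BT.leaf (Bx.mk (nat_lit 0x0))))
noncomputable def eD001_c1 : BT (Bx Nat) := (BT.node (nat_lit 1) (BT.leaf (Bx.mk (nat_lit 0x1c239901aea84ebbb31af1cc6bc8f1af4cc23b3308ed4c23ce41ace702324e08fa5063df208fbc823f2c08c36c6362008fdd0ebe345cf9d422c0f08fe582352618e1dc6a9c818ffb422f9c09009822f2818a49423a2a08c190235a008b48822c9a08c278231ef3ab9c022f5a08efcceaa6518dfb422dd73ae97c231a71abfdc6a473089cbc2256308f6d8233373acdcc22db308b874ebd7308af7c5b6e018d3dc6a0f308a2b4ebc1b1adcad73824088898234ae3ae5c46b6671ae3d822eb73abbb8236b43acab8eb5745ccbd421ba13aded022c6316ddd462cf61aebd0632371a69dc599f61aabd422b287866c8235eb1a7cd8239f8085dace9a2708e2d0224b41ac4a061d2e1a72b021fea1a86dc695341ad0946231c187e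982225f1a82d0222f23a78c1733ef1685d4697f51aa3d823467087be0211b55c4fb4215e4089bd46a5ec08619c6266518c0cc21b69089eb8225371a38d82315e0898e020d753a58b46a7db089ad869e6a08a8a0ea4331a4cd421f710896d821db75877c05902708a1d021c6d08a0d461ceb1851c458f761ab5d0621ef1853dc689b71624d822baa08a5d822b6708aae0208760862d0595773a64b45a2b8081fd0224eb082ee40a9b36e56a820d361a49d8591f40880b86a372085ccc218f6089db821b2e1633a821c380818d0223b6084ac8e8df2087ad970ff7584ed4216b5081ed421679028fd0210b51825d868a751845c860a2f0875d4212ed0827c021bf57823dc684f71811dc584360884c421378080ee40a06b1a5bb4214b3081dd820ab5161ad42066c165ed4205f30816d4205773a31d4210f10841b860fb6086bd021136086ad020f380808e409974081be4098361848d068cb60814d4608340830d858bf90250d868b74182cd860af73a1cd820ef60809d820eb60839e0200f90236dc681f52406dc601771604dc904b90222d820374080cd8202f6080ae4083f80801e4080800000))) (BT.leaf (Bx.mk (nat_lit 0x1d1ae4))))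
noncomputable def eD001_c2 : BT (Bx Nat) := (BT.node (nat_lit 1) (BT.leaf (Bx.mk (nat_lit 0x502bd620ae34c2b78c0afa307350d1efc342b6205ef77c2be1f0b00557bfdb1eed242bc580aef2873ce91ee064dbc850abc682bd122ee991931110ab4442bb260ae5707376564ce9e2ba1f0ac98d93fa51ed7a4bb3680af0882b3d45efd6c2b9f60adbdcdb7221ea1507b14e1ef9902b8a70abba42b00b0afb5c7aad80aa2842ab9b1eac8ddb7e40ae6a02b86b5eb89cbaea80abe80bb91d1ebfe02a0f564b14c2b6630aeba57add71cbd9c7a22a2ed5702b22926ca582b0861ceea17b5a60acb987aa6a0acca02b0ea0a95c991e525eea847a7380a69d02b1b60aafdcdac221cd17c2a3da0ad0582b4ea2ea6942ae74647d60724690aaa742a6ab0a74cd91fd91ed2842b6ac1e93d82a7b7369fb0296a00ab3d179ede1ca5e0293eb0a96bc29aec2e98ad7adb80a49ac2a83164845c2a9f80a46807ab650a78b8297220a67c4717ee1c56702a0a60ac1a871f380a38d591c700a92e40b1dd1c8994298a50a65c82a8e90a64cc2aa290a87cc2a6ef1e3bc42ad662e8ecc792b30a63d428aec5ea4ac295380a26d02a1761c37d470bf60a6ddcd9bb71c24c072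5ef1e4be40acb65e358c723380a2199da02a5e7ed191da61e81dc7882b1e32c02a2f41e3fa0b962f1c8de02876d1c9dbc294270a5de0286ed0a8ad9910ac1e73d978bac1e44e0286302e59e40a6761e45c0711f36843b829ab20a77e40a5360a3cbc293790290d4293ab0a52c8293350a55d4706b50a19cc297b30a16d4285772e48b829eb10a30c870b390286d429c320a14d429a380a0dd02872a0a60d4287b21e3ad029bf50a53d828a710a39d879d730a22dcd8b771e0bdc702b90272d8283b60a6ce028234762ae4099b60a61e0281f65e31e4096f52e33e4095f40a41d8710390251d8284f41e3ed878f731e36dcd85f40a06dc781771c04d8283372e25e408d37260fd828a360a27e0280b90223e4087f52612d8284760a10e0280790209e4080c00000))) (BT.leaf (Bx.mk (nat_lit 0x2036f6))))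
noncomputable def eD001_c3 : BT (Bx Nat) := (BT.node (nat_lit 1) (BT.leaf (Bx.mk (nat_lit 0x4833f5f21004d4bfcc52ec3033b529ae92cfbc4d0cf24513be20ce370fb79020d43c3360e6af82833e6352d74033dc73ee634fbecb0cfcdc82b8f0ce44433ea40ccb9c82fc60cee914ae9052ea8c83da992e0b262da80ce2894ae1b0cf59083237209c814ace052d56c32ad03ef38833c210cca7c3368f0cf47cfb16520a78c8311a20c2943332420bc98325663ecf94fba2252d67832d230cddcc32c77208378334e20cd18432a590cd098fa9243ea198339e20cbb6032b230cce8cfafa30ce58032de10cdf854ae6b0ce1dc81adf92c97c336f60cafd14b1f72069dcd2cb60cebe03195920bd7083672929b88fb0f7205f90334a70c7b7c826650cc1dc816a420918c3302c0c87dc8152a0c73b881ff60cdcc432ab80c4f783295d0c81c481e5d52629d4b36f0c84ac31f3720498c328a50c5d8c3201a0c7ee0311643e66c431f6e0c7778f9a240c74b4828332071dc80e305294d8331b80c3578826243e8fb43275b3e8ec8822ec2093a14a9b10c32c0325da5264bc822b35261c030ea55288ad4a7b60c6dc8321b80c25d830a372026dcd1cb80c23d832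d780c22d832c1d0c89e0308630c8ce40ab590c78e03081c0c96c831db63e3bd832a380c1e98fa42f0c4ecda90f60ca3e0307240c46d0810b6204adc806f60c9fb8f8f380c18a83112e0c33e40a6b0205cc030db30c1dc430ab50c56d8324ad522ee0305255258e40a36b5251c8316f30c57d830f780c11cd48c6d3e12dd1106d0c53d4318315275e0303f60c85e0303b13e4de40a0b60c29bd49432207ac830ff60c2be0302ec0c48dc803733e0cdd10c323e4bdcd0d378e6fe0302760c6ee409c380c08e409b39026ae4099f90263d8304f9025ed0813390259d8315760c15e0301790252dc801f54406dd106b90247dcd07ec0c3ee4090380c03e408e790237d830b720c2ce408bf80c02e4089f90224d8305f40c16e4086780c01e408439020ae4081000000))) (BT.leaf (Bx.mk (nat_lit 0x1e0cfe))))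
noncomputable def eD001_c4 : BT (Bx Nat) := (BT.node (nat_lit 1) (BT.leaf (Bx.mk (nat_lit 0x24c3c4e0ef90d43ee80ee6083bf4d0ece3d43fa00ee4843b2640ef4543bce528f65a0bd4430ee203bfec0ecc6c3af030ef2714401b0eea543af5c4aec4d42d2d0ed5aca2b2954fc943b02182f8a22362a0ecb9cb2dea50b8aa0b6940ed4c95341a50a2903b4a90edf503ac270ee3a542ea780b9b92ba1582dee03a46570db84c31b10edda52a84e50faa83b0ed82f0ad2b8ae0ec1892bdf80e83743afe00ed1d4a2be770c2ad433660ec4be0b2a62ce579431e70e8858c3adc4aefaa02a680ed7983b5a90ee0983b86a60a4b83a8d20ee9e039a610e9cd83ab9550d9d03b17728b185425aa0ee7aa229e60e81a43aeeb309ea43aaeb5062a4399690eb6bd42d590edca03b3f60e9db141f6a0ea8dca282250b2e0393dc0e80d181eed0e8fbcc21600eadb609d30308bd5516af0e6ee40b4f66089b92a6274a8ca4396e60e8ebc3a52c5060d43a42880bee038e270e7cb83a5f5286de40b21b0e469d42a9d309ab439e680e58ac3a7e85086cc3a66f0e55b8c1fe23067e038a755443e0389ec0e95e0389ad5054d839af57c5ebc38e703092d03a12f0e50dca1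c730e47e40acf80e218439e366035a94296c805dc03932a0ea6e0387eb0e8ad0a12740e70ac399380e1da9423740e93d0389294a7ed8c0d320e32c141eac0e72e03862c0e2ad980bb02c6ce40a6f80e17d8392f13063dd29374542dcc397f80e14d141a9c3082e0384f50e22d039db60e3bc8384b60e3ed528df74640e0384330e36dca10b80e0fc141bf90287d038ff4503cd4399b50e57d838c737056dd28cf20e0cd838b350e51cc392b7462fe0382ad5052e409df80e09e409d790273e0382357a59d8383b64a44e409a380e07e4098760e1ce4097374a1ed8383740e06d8385b90253e4093b74619e0381390248e4091733041e0380f9023de408eb72c23dca06f35030e0380b9022be408a390225e408835461ae0380790215e408479020be4081400000))) (BT.leaf (Bx.mk (nat_lit 0x1b0eed))))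
noncomputable def eD001_c5 : BT (Bx Nat) := (BT.node (nat_lit 1) (BT.leaf (Bx.mk (nat_lit 0x508c00e10fd3c8bf8a10f831d3e6010f72c43ecb72fc853be8e10f53d0bd8e10f33dd3d0c10ec2043b674ec04923a5b48ea250bc4d72f24c42fda10ee4443bed4eb87042b9b10e4b12331c72e64c437aa4edaa8432aa48d5888b2d44ee3784346010c5684366910e26dd36d410d49c4286710b6a44381548d875d271210b07d0b76210c69d22e8e10c9a93afab10e584437eb4ee13d0b3a210c45d0af6374d0850b72322c8a53a2214e83b442de610f051d3ae910cd58431d148b4a84256610cfa04292c10e8b9230684ed6ad09f1010bc7442ad6109175d2b1342d2884289d42e76d09edc10b1790ace47280ac41d2f746e69c9a691065a5398a94eb9bc421a372afa13b5ec4297a84212c2292b1d215c10d3c8423e67481c93a5ad4e4fac428311099ad3aeeb42549c41aeb109e5c8aca27267cd226e51082d5d18664e46add1caa1057a539e2810c3a041e7022a3ac4276b749f80430a6488e94426a310aaa520e284e35c5c9b6a10b56842b6f422da53a1e81089c9090b11045d441bec4ea9b90926a108bb8896b31059d9d1d6e10a8c041f74743fa122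4eb222e64429f6106484424344e58a9229b74868d9d13a810a5d0423767234ad389b21024ac4086d1020a0407ed1071d109c331066ac8a2ad721bcdd12aa1094d8412ec4236a9c91ed1037b0426351063d93862f7417dd214f21055b441cf51022a441465108cc909db54e14a1d04f11077e040476103dcc41b381010dd09032722aadd0a6f7428bdd09e8107fb9c942b10529c41fb51060d9383aa720dd5208f8100bd840aea106ab841eb8100add08bf1103ca840eee103ab840e6a105fd840733425ed040c764848b13976e425ca4896f64e08ad381f74825b0415b81005d840575104db8413381004dd0867410449c410f81003e409079023ed8402751033a440cb81002e408c39022cdc883f5101ea8407781001e4086b90216e4084b9020ce4081800000))) (BT.leaf (Bx.mk (nat_lit 0x1310ff))))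
noncomputable def eD001_c6 : BT (Bx Nat) := (BT.node (nat_lit 1) (BT.leaf (Bx.mk (nat_lit 0x1d038b812d5144b83812cbe04b28f12e5244b84f62df3ccb33812c0684bc3812be3ccb37812b8e04ad9b32f5644b3c512c1344b58b32e8e04ab5166b745b2e8a12ece04a9b812a440cbe9e62b9e04a84612ff28cbe4632fd384be2040d7e04a6f8129ae04a6790300e04a5b812957c4b78e40ede40bf9156bbb04a6381290e04a3f8128e6903bf81288384bcce12f7e40bf3902fb78cb0e512aa744a2781282e04a0781280744b278127e18cbbb902f6e049ef902f4e049e381274404b51012e9744b93902f2404bab902f1e049ab612a9a04a963328ce049a381267e0499b81265e40baf81264e0498a62ac8de7ad38125ee04977902e7a4aacf902e6e0496781258e40b8f81253e0494b81251e049438124fe40b77902dce40b6ed2ad3e0492f902d9e40b62d404de0492381247e0491b902d2e40b47902d0bcc9d6212b2e048ff8123d79031f902cec848f331270e048df81236e048d7902c6e40b17902c4e048cf902c2e048c78122ee40aff8122ce048ab902bdbc490781228b84a37902bcd049136126ce0489746286c4c98781224e0488f73872e048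8b902b5e04887902b1e40ac3902afe40abb902acd8c8bf902abc049bf64039e0487b902a8e40a9f16c30b198fb8121ce40a8f902a2d049038121ae0486781218e40a839029fe40a7b9029de40a734122bb04a5381216e40a5f81215e0485390293e40a4b90291d848eb52a73e0484b81211c159df56257e40a2eb125be40a2b32a87e0483f72a45d449838120ee40a1790284e40a0f61227e409ff8120ce409f70125cd4498f9027ce0482b9027ad5593b90279e0482790276dce0d381208e409c79026ee409b79026be409a76120bd848439025fe0481b9025ae0481790256e4095790254e048139024ce4092b90249e0480f90243e4090b7381fe408ef90238e0480b90232dca8839022de408a790226e048079021de4086f90217e4084f9020de4081c00000))) (BT.leaf (Bx.mk (nat_lit 0x3812da))))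
noncomputable def eD001_c7 : BT (Bx Nat) := (BT.node (nat_lit 1) (BT.leaf (Bx.mk (nat_lit 0xe05364e14dde05344c5adc285343814c8e0531b814c5e05311b5aebe052fd514c7e052f423ce718534b814b5e052cf814b1e052c3814ae6853db814ace052af814a80453c8c14afe0528f814a25a1b4f814a0e0527f8149ee052778149c3d6bf8b14fc616c0381497e40bfd414b2e0525381493e0524b8149154538c790f1e40bf4b90fbe0522cc14c2e0521f81486e0521781484e0520f902fa5a5bd3902f9e40be3902f7e051fcd84cee051f78147ce40bd781479e40bcf614a7e051cf81472e051c78146ee051b78146be40bc381469e40bbd584d8e40bbb902ed365b9b902ec7c51eb902eae40ba781460e0517f902e8de72f28148de0516f8145ae40b97902e4e05153902e2e40b87902e0e40b7f902decc518dc148a9a19578144ce40b6b8144ae05127902d7e40b5b902d5e40b5291477cc513b81445a4f29b81443e40b3dd969ae050ef81438e40b37902cce40b2f902cae40b2701476cc515f81434e40b0f81432e40b07902c0e050b6086ade40afb81429aa124319482ba197b81426e40aef902bae40ae698639e05093902b8e40adf2143ee40a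db3142ce40ad2c145c84510a97e56d8518781420d1326f8141fdcf197902aae40aa6d1475e05076d4c68e40a97902a4b6409f8141bd0f20681466945267902a1d45066c143ad050bf4143de0505f45a8fe0505b90298e0505790296e40a5761441bd68af81413e40a3b81412e40a3229667dd312361437e050433906cd569438140fe40a26d5a52a051c390288de310361428e0503790280e050339027ee0502f54c23d531478140ae409ef43c6ab8511f81409e409e373c36b0516790274d8506b9026fd050c361411e0501f90264e4098b81406e4097781405e4096374c25d9314f81404e4093f9024de4092f81403e4091b90244dcf08b9023fe408f381402e408d790233e408c79022ee408ab81401e408879021ee4087390218e408539020ee4082000000))) (BT.leaf (Bx.mk (nat_lit 0x1714db))))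
noncomputable def eD001_p : BT (Bx Nat) := (BT.node (nat_lit 1) (BT.leaf (Bx.mk (nat_lit 0xcd91f3546cd11f32c6cca1b3207cc61f3147cc41f3006cbf1f2f86cbd1eae06ab61aad47ab31eac47ab01eab87aad1aab07aab1eaa07aa61aa906aa31ea887aa11aa807a9f1ea787a9d1ea707a9b1aa686a991aa5c7a961aa546a941ea4c7a921ea447a9112a406a8f1aa386a8b1ea206a871ea187a851ea107a831ea0c4a830aa086a811aa006a7f1e9f86a7d1e9f07a7b1a9e47a781a1d068731e1c878711e1b8786d1e1ac786a1a1a47869121a428681a19c68661a19468650e19068621a180785f1e178685d1a174185b1e16878591a16068541e14c68521a14468501a13c684f1213c384f0a130784b1a12878491e12428481a11c68461a11828460611478450e10c783f1a0f4683b1e0e07838120e028371a0d868351a0d43835060d078331a0c878311a0b8682d1e0b0682a1a0a47829120a068271189876261189826251989436241d89066231988c36221988836211988446210d88426210588076200d87c761f1187c161e19878361d1d874461d09870661c0d86c761b0986866191986066181186036180986016171d85c46161d85866151d85466141985046140d84c76131184876121984466111584436101d84056101183c760f1983c460f0d838660e0d838160d1d834260c1d830660b1d82c560b0d828760a19828560a1182476091982446090d02064081102034080902014071d01c44070901874061901474051901454050d01074041901054041100c74031900c54031100c3403050087402190085402110083402088047201188045201108043201088041000000000)))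 (BT.leaf (Bx.mk (nat_lit 0x33686))))
noncomputable def eD001_e : BT Nat := BT.leaf (nat_lit 0)
noncomputable def eD001_cols : List (BT (Bx Nat)) := [eD001_c0, eD001_c1, eD001_c2, eD001_c3, eD001_c4, eD001_c5, eD001_c6, eD001_c7]
noncomputable def eD001_ch (x j : Nat) : Bx Nat := chunkG eD001_cols (nat_lit 2) x j
noncomputable def eD001_L (x : Nat) : Bx (Nat → Nat) := lookG eD001_ch (nat_lit 8) (nat_lit 255) (nat_lit 22) (nat_lit 4194303) x
noncomputable def eD001_pc (_ j : Nat) : Bx Nat := eD001_p.get j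
noncomputable def eD001_pb : Bx (Nat → Nat) := lookG eD001_pc (nat_lit 8) (nat_lit 255) (nat_lit 18) (nat_lit 262143) (nat_lit 0)
noncomputable def eD001_rots : BT CW := (BT.node (nat_lit 39) (BT.node (nat_lit 19) (BT.node (nat_lit 9) (BT.node (nat_lit 4) (BT.node (nat_lit 2) (BT.node (nat_lit 1) (BT.leaf ⟨[], (nat_lit 1000000), (nat_lit 0), (nat_lit 0), (nat_lit 0)⟩) (BT.leaf ⟨[], (nat_lit 1000000), (nat_lit 0), (nat_lit 0), (nat_lit 1)⟩)) (BT.node (nat_lit 3) (BT.leaf ⟨[], (nat_lit 1000000), (nat_lit 0), (nat_lit 0), (nat_lit 2)⟩) (BT.leaf ⟨[(nat_lit 1), (nat_lit 1)], (nat_lit 0), (nat_lit 0), (nat_lit 0), (nat_lit 3)⟩))) (BT.node (nat_lit 6) (BT.node (nat_lit 5) (BT.leaf ⟨[(nat_lit 2), (nat_lit 2)], (nat_lit 1), (nat_lit 0), (nat_lit 0), (nat_lit 3)⟩) (BT.leaf ⟨[(nat_lit 3), (nat_lit 3)], (nat_lit 2), (nat_lit 0), (nat_lit 0), (nat_lit 3)⟩)) (BT.node (nat_lit 7) (BT.leaf ⟨[(nat_lit 4), (nat_lit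 4)], (nat_lit 3), (nat_lit 0), (nat_lit 0), (nat_lit 3)⟩) (BT.node (nat_lit 8) (BT.leaf ⟨[(nat_lit 5), (nat_lit 5)], (nat_lit 4), (nat_lit 0), (nat_lit 0), (nat_lit 3)⟩) (BT.leaf ⟨[(nat_lit 6), (nat_lit 6)], (nat_lit 19), (nat_lit 0), (nat_lit 0), (nat_lit 3)⟩))))) (BT.node (nat_lit 14) (BT.node (nat_lit 11) (BT.node (nat_lit 10) (BT.leaf ⟨[(nat_lit 7), (nat_lit 7)], (nat_lit 20), (nat_lit 0), (nat_lit 0), (nat_lit 3)⟩) (BT.leaf ⟨[(nat_lit 1), (nat_lit 3), (nat_lit 1), (nat_lit 3)], (nat_lit 7), (nat_lit 0), (nat_lit 0), (nat_lit 3)⟩)) (BT.node (nat_lit 12) (BT.leaf ⟨[(nat_lit 1), (nat_lit 4), (nat_lit 1), (nat_lit 4)], (nat_lit 8), (nat_lit 0), (nat_lit 0), (nat_lit 3)⟩) (BT.node (nat_lit 13) (BT.leaf ⟨[(nat_lit 1), (nat_lit 6), (nat_lit 1), (nat_lit 6)], (nat_lit 11), (nat_lit 1), (nat_lit 0), (nat_lit 3)⟩) (BT.leaf ⟨[(nat_lit 2), (nat_lit 3), (nat_lit 2), (nat_lit 3)], (nat_lit 9), (nat_lit 0),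 (nat_lit 0), (nat_lit 3)⟩)))) (BT.node (nat_lit 16) (BT.node (nat_lit 15) (BT.leaf ⟨[(nat_lit 2), (nat_lit 4), (nat_lit 2), (nat_lit 4)], (nat_lit 10), (nat_lit 0), (nat_lit 0), (nat_lit 3)⟩) (BT.leaf ⟨[(nat_lit 3), (nat_lit 6), (nat_lit 3), (nat_lit 6)], (nat_lit 13), (nat_lit 1), (nat_lit 0), (nat_lit 3)⟩)) (BT.node (nat_lit 17) (BT.leaf ⟨[(nat_lit 5), (nat_lit 1), (nat_lit 2), (nat_lit 1), (nat_lit 2)], (nat_lit 5), (nat_lit 4), (nat_lit 0), (nat_lit 3)⟩) (BT.node (nat_lit 18) (BT.leaf ⟨[(nat_lit 1), (nat_lit 5), (nat_lit 2), (nat_lit 1), (nat_lit 2)], (nat_lit 34), (nat_lit 4), (nat_lit 0), (nat_lit 3)⟩) (BT.leaf ⟨[(nat_lit 2), (nat_lit 1), (nat_lit 2), (nat_lit 1), (nat_lit 5)], (nat_lit 34), (nat_lit 1), (nat_lit 0), (nat_lit 3)⟩)))))) (BT.node (nat_lit 29) (BT.node (nat_lit 24) (BT.node (nat_lit 21) (BT.node (nat_lit 20) (BT.leaf ⟨[(nat_lit 4), (nat_lit 6), (nat_lit 4), (nat_lit 1), (nat_lit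 6)], (nat_lit 14), (nat_lit 1), (nat_lit 0), (nat_lit 3)⟩) (BT.leaf ⟨[(nat_lit 6), (nat_lit 4), (nat_lit 6), (nat_lit 1), (nat_lit 4)], (nat_lit 43), (nat_lit 2), (nat_lit 0), (nat_lit 3)⟩)) (BT.node (nat_lit 22) (BT.leaf ⟨[(nat_lit 4), (nat_lit 2), (nat_lit 7), (nat_lit 1), (nat_lit 7)], (nat_lit 15), (nat_lit 3), (nat_lit 0), (nat_lit 3)⟩) (BT.node (nat_lit 23) (BT.leaf ⟨[(nat_lit 2), (nat_lit 4), (nat_lit 7), (nat_lit 1), (nat_lit 7)], (nat_lit 44), (nat_lit 0), (nat_lit 0), (nat_lit 3)⟩) (BT.leaf ⟨[(nat_lit 4), (nat_lit 2), (nat_lit 4), (nat_lit 2)], (nat_lit 10), (nat_lit 1), (nat_lit 0), (nat_lit 3)⟩)))) (BT.node (nat_lit 26) (BT.node (nat_lit 25) (BT.leaf ⟨[(nat_lit 6), (nat_lit 3), (nat_lit 6), (nat_lit 3)], (nat_lit 13), (nat_lit 0), (nat_lit 0), (nat_lit 3)⟩) (BT.leaf ⟨[(nat_lit 3), (nat_lit 2), (nat_lit 6), (nat_lit 2), (nat_lit 6)], (nat_lit 12), (nat_lit 3), (nat_lit 0), (nat_lit 3)⟩))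 (BT.node (nat_lit 27) (BT.leaf ⟨[(nat_lit 2), (nat_lit 6), (nat_lit 3), (nat_lit 2), (nat_lit 6)], (nat_lit 12), (nat_lit 1), (nat_lit 0), (nat_lit 3)⟩) (BT.node (nat_lit 28) (BT.leaf ⟨[(nat_lit 6), (nat_lit 2), (nat_lit 6), (nat_lit 2), (nat_lit 3)], (nat_lit 41), (nat_lit 2), (nat_lit 0), (nat_lit 3)⟩) (BT.leaf ⟨[(nat_lit 1), (nat_lit 7), (nat_lit 4), (nat_lit 2), (nat_lit 7)], (nat_lit 15), (nat_lit 1), (nat_lit 0), (nat_lit 3)⟩))))) (BT.node (nat_lit 34) (BT.node (nat_lit 31) (BT.node (nat_lit 30) (BT.leaf ⟨[(nat_lit 7), (nat_lit 1), (nat_lit 7), (nat_lit 2), (nat_lit 4)], (nat_lit 44), (nat_lit 2), (nat_lit 0), (nat_lit 3)⟩) (BT.leaf ⟨[(nat_lit 3), (nat_lit 1), (nat_lit 3), (nat_lit 1)], (nat_lit 7), (nat_lit 1), (nat_lit 0), (nat_lit 3)⟩)) (BT.node (nat_lit 32) (BT.leaf ⟨[(nat_lit 6), (nat_lit 1), (nat_lit 6), (nat_lit 1)], (nat_lit 11), (nat_lit 0), (nat_lit 0), (nat_lit 3)⟩) (BT.node (nat_lit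 33) (BT.leaf ⟨[(nat_lit 5), (nat_lit 3), (nat_lit 4), (nat_lit 3), (nat_lit 4)], (nat_lit 6), (nat_lit 4), (nat_lit 0), (nat_lit 3)⟩) (BT.leaf ⟨[(nat_lit 3), (nat_lit 5), (nat_lit 4), (nat_lit 3), (nat_lit 4)], (nat_lit 35), (nat_lit 4), (nat_lit 0), (nat_lit 3)⟩)))) (BT.node (nat_lit 36) (BT.node (nat_lit 35) (BT.leaf ⟨[(nat_lit 4), (nat_lit 3), (nat_lit 4), (nat_lit 3), (nat_lit 5)], (nat_lit 35), (nat_lit 1), (nat_lit 0), (nat_lit 3)⟩) (BT.leaf ⟨[(nat_lit 5), (nat_lit 4), (nat_lit 7), (nat_lit 4), (nat_lit 7)], (nat_lit 18), (nat_lit 3), (nat_lit 0), (nat_lit 3)⟩)) (BT.node (nat_lit 37) (BT.leaf ⟨[(nat_lit 4), (nat_lit 7), (nat_lit 5), (nat_lit 4), (nat_lit 7)], (nat_lit 18), (nat_lit 1), (nat_lit 0), (nat_lit 3)⟩) (BT.node (nat_lit 38) (BT.leaf ⟨[(nat_lit 7), (nat_lit 4), (nat_lit 7), (nat_lit 4), (nat_lit 5)], (nat_lit 47), (nat_lit 2), (nat_lit 0), (nat_lit 3)⟩) (BT.leaf ⟨[(nat_lit 5), (nat_lit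 7), (nat_lit 4), (nat_lit 7), (nat_lit 4)], (nat_lit 47), (nat_lit 1), (nat_lit 0), (nat_lit 3)⟩))))))) (BT.node (nat_lit 59) (BT.node (nat_lit 49) (BT.node (nat_lit 44) (BT.node (nat_lit 41) (BT.node (nat_lit 40) (BT.leaf ⟨[(nat_lit 4), (nat_lit 1), (nat_lit 4), (nat_lit 1)], (nat_lit 8), (nat_lit 1), (nat_lit 0), (nat_lit 3)⟩) (BT.leaf ⟨[(nat_lit 3), (nat_lit 2), (nat_lit 3), (nat_lit 2)], (nat_lit 9), (nat_lit 1), (nat_lit 0), (nat_lit 3)⟩)) (BT.node (nat_lit 42) (BT.leaf ⟨[(nat_lit 4), (nat_lit 1), (nat_lit 6), (nat_lit 4), (nat_lit 6)], (nat_lit 14), (nat_lit 3), (nat_lit 0), (nat_lit 3)⟩) (BT.node (nat_lit 43) (BT.leaf ⟨[(nat_lit 6), (nat_lit 4), (nat_lit 6), (nat_lit 4), (nat_lit 1)], (nat_lit 14), (nat_lit 0), (nat_lit 0), (nat_lit 3)⟩) (BT.leaf ⟨[(nat_lit 1), (nat_lit 4), (nat_lit 6), (nat_lit 4), (nat_lit 6)], (nat_lit 43), (nat_lit 0), (nat_lit 0), (nat_lit 3)⟩)))) (BT.node (nat_lit 46)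 (BT.node (nat_lit 45) (BT.leaf ⟨[(nat_lit 7), (nat_lit 1), (nat_lit 7), (nat_lit 4), (nat_lit 2)], (nat_lit 15), (nat_lit 0), (nat_lit 0), (nat_lit 3)⟩) (BT.leaf ⟨[(nat_lit 1), (nat_lit 7), (nat_lit 2), (nat_lit 4), (nat_lit 7)], (nat_lit 44), (nat_lit 3), (nat_lit 0), (nat_lit 3)⟩)) (BT.node (nat_lit 47) (BT.leaf ⟨[(nat_lit 2), (nat_lit 7), (nat_lit 1), (nat_lit 7), (nat_lit 4)], (nat_lit 15), (nat_lit 4), (nat_lit 0), (nat_lit 3)⟩) (BT.node (nat_lit 48) (BT.leaf ⟨[(nat_lit 4), (nat_lit 7), (nat_lit 1), (nat_lit 7), (nat_lit 2)], (nat_lit 44), (nat_lit 1), (nat_lit 0), (nat_lit 3)⟩) (BT.leaf ⟨[(nat_lit 6), (nat_lit 2), (nat_lit 6), (nat_lit 3), (nat_lit 2)], (nat_lit 12), (nat_lit 0), (nat_lit 0), (nat_lit 3)⟩))))) (BT.node (nat_lit 54) (BT.node (nat_lit 51) (BT.node (nat_lit 50) (BT.leaf ⟨[(nat_lit 2), (nat_lit 6), (nat_lit 2), (nat_lit 3), (nat_lit 6)], (nat_lit 41), (nat_lit 3), (nat_lit 0), (nat_lit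 3)⟩) (BT.leaf ⟨[(nat_lit 6), (nat_lit 3), (nat_lit 2), (nat_lit 6), (nat_lit 2)], (nat_lit 12), (nat_lit 2), (nat_lit 0), (nat_lit 3)⟩)) (BT.node (nat_lit 52) (BT.leaf ⟨[(nat_lit 2), (nat_lit 6), (nat_lit 2), (nat_lit 6), (nat_lit 3)], (nat_lit 12), (nat_lit 4), (nat_lit 0), (nat_lit 3)⟩) (BT.node (nat_lit 53) (BT.leaf ⟨[(nat_lit 3), (nat_lit 6), (nat_lit 2), (nat_lit 6), (nat_lit 2)], (nat_lit 41), (nat_lit 1), (nat_lit 0), (nat_lit 3)⟩) (BT.leaf ⟨[(nat_lit 6), (nat_lit 4), (nat_lit 1), (nat_lit 6), (nat_lit 4)], (nat_lit 14), (nat_lit 2), (nat_lit 0), (nat_lit 3)⟩)))) (BT.node (nat_lit 56) (BT.node (nat_lit 55) (BT.leaf ⟨[(nat_lit 1), (nat_lit 6), (nat_lit 4), (nat_lit 6), (nat_lit 4)], (nat_lit 14), (nat_lit 4), (nat_lit 0), (nat_lit 3)⟩) (BT.leaf ⟨[(nat_lit 4), (nat_lit 6), (nat_lit 4), (nat_lit 6), (nat_lit 1)], (nat_lit 43), (nat_lit 1), (nat_lit 0), (nat_lit 3)⟩)) (BT.node (nat_lit 57) (BT.leaf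 ⟨[(nat_lit 5), (nat_lit 2), (nat_lit 1), (nat_lit 2), (nat_lit 1)], (nat_lit 34), (nat_lit 0), (nat_lit 0), (nat_lit 3)⟩) (BT.node (nat_lit 58) (BT.leaf ⟨[(nat_lit 5), (nat_lit 4), (nat_lit 3), (nat_lit 4), (nat_lit 3)], (nat_lit 35), (nat_lit 0), (nat_lit 0), (nat_lit 3)⟩) (BT.leaf ⟨[(nat_lit 2), (nat_lit 1), (nat_lit 2), (nat_lit 5), (nat_lit 1)], (nat_lit 5), (nat_lit 1), (nat_lit 0), (nat_lit 3)⟩)))))) (BT.node (nat_lit 69) (BT.node (nat_lit 64) (BT.node (nat_lit 61) (BT.node (nat_lit 60) (BT.leaf ⟨[(nat_lit 1), (nat_lit 2), (nat_lit 1), (nat_lit 5), (nat_lit 2)], (nat_lit 34), (nat_lit 2), (nat_lit 0), (nat_lit 3)⟩) (BT.leaf ⟨[(nat_lit 4), (nat_lit 3), (nat_lit 4), (nat_lit 5), (nat_lit 3)], (nat_lit 6), (nat_lit 1), (nat_lit 0), (nat_lit 3)⟩)) (BT.node (nat_lit 62) (BT.leaf ⟨[(nat_lit 4), (nat_lit 3), (nat_lit 5), (nat_lit 4), (nat_lit 3)], (nat_lit 35), (nat_lit 3), (nat_lit 0), (nat_lit 3)⟩)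 (BT.node (nat_lit 63) (BT.leaf ⟨[(nat_lit 7), (nat_lit 4), (nat_lit 5), (nat_lit 7), (nat_lit 4)], (nat_lit 47), (nat_lit 4), (nat_lit 0), (nat_lit 3)⟩) (BT.leaf ⟨[(nat_lit 4), (nat_lit 7), (nat_lit 4), (nat_lit 7), (nat_lit 5)], (nat_lit 18), (nat_lit 4), (nat_lit 0), (nat_lit 3)⟩)))) (BT.node (nat_lit 66) (BT.node (nat_lit 65) (BT.leaf ⟨[(nat_lit 4), (nat_lit 7), (nat_lit 4), (nat_lit 5), (nat_lit 7)], (nat_lit 47), (nat_lit 3), (nat_lit 0), (nat_lit 3)⟩) (BT.leaf ⟨[(nat_lit 7), (nat_lit 4), (nat_lit 7), (nat_lit 5), (nat_lit 4)], (nat_lit 18), (nat_lit 0), (nat_lit 0), (nat_lit 3)⟩)) (BT.node (nat_lit 67) (BT.leaf ⟨[(nat_lit 7), (nat_lit 4), (nat_lit 2), (nat_lit 7), (nat_lit 1)], (nat_lit 15), (nat_lit 2), (nat_lit 0), (nat_lit 3)⟩) (BT.node (nat_lit 68) (BT.leaf ⟨[(nat_lit 4), (nat_lit 6), (nat_lit 1), (nat_lit 4), (nat_lit 6)], (nat_lit 43), (nat_lit 3), (nat_lit 0), (nat_lit 3)⟩) (BT.leaf ⟨[(nat_lit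 2), (nat_lit 5), (nat_lit 1), (nat_lit 2), (nat_lit 1)], (nat_lit 5), (nat_lit 3), (nat_lit 0), (nat_lit 3)⟩))))) (BT.node (nat_lit 74) (BT.node (nat_lit 71) (BT.node (nat_lit 70) (BT.leaf ⟨[(nat_lit 7), (nat_lit 3), (nat_lit 4), (nat_lit 2), (nat_lit 1), (nat_lit 7), (nat_lit 3)], (nat_lit 17), (nat_lit 2), (nat_lit 0), (nat_lit 3)⟩) (BT.leaf ⟨[(nat_lit 3), (nat_lit 7), (nat_lit 3), (nat_lit 7), (nat_lit 1), (nat_lit 2), (nat_lit 4)], (nat_lit 46), (nat_lit 3), (nat_lit 0), (nat_lit 3)⟩)) (BT.node (nat_lit 72) (BT.leaf ⟨[(nat_lit 7), (nat_lit 5), (nat_lit 4), (nat_lit 7), (nat_lit 4)], (nat_lit 18), (nat_lit 2), (nat_lit 0), (nat_lit 3)⟩) (BT.node (nat_lit 73) (BT.leaf ⟨[(nat_lit 3), (nat_lit 7), (nat_lit 3), (nat_lit 4), (nat_lit 2), (nat_lit 1), (nat_lit 7)], (nat_lit 17), (nat_lit 1), (nat_lit 0), (nat_lit 3)⟩) (BT.leaf ⟨[(nat_lit 7), (nat_lit 3), (nat_lit 7), (nat_lit 1), (nat_lit 2), (nat_lit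 4), (nat_lit 3)], (nat_lit 46), (nat_lit 4), (nat_lit 0), (nat_lit 3)⟩)))) (BT.node (nat_lit 76) (BT.node (nat_lit 75) (BT.leaf ⟨[(nat_lit 7), (nat_lit 2), (nat_lit 4), (nat_lit 7), (nat_lit 1)], (nat_lit 44), (nat_lit 4), (nat_lit 0), (nat_lit 3)⟩) (BT.leaf ⟨[(nat_lit 3), (nat_lit 7), (nat_lit 1), (nat_lit 2), (nat_lit 4), (nat_lit 3), (nat_lit 7)], (nat_lit 46), (nat_lit 5), (nat_lit 0), (nat_lit 3)⟩)) (BT.node (nat_lit 77) (BT.leaf ⟨[(nat_lit 3), (nat_lit 4), (nat_lit 3), (nat_lit 4), (nat_lit 5)], (nat_lit 6), (nat_lit 0), (nat_lit 0), (nat_lit 3)⟩) (BT.node (nat_lit 78) (BT.leaf ⟨[(nat_lit 7), (nat_lit 6), (nat_lit 7), (nat_lit 6), (nat_lit 7), (nat_lit 5), (nat_lit 6), (nat_lit 7), (nat_lit 6)], (nat_lit 21), (nat_lit 3), (nat_lit 0), (nat_lit 3)⟩) (BT.leaf ⟨[(nat_lit 6), (nat_lit 7), (nat_lit 6), (nat_lit 7), (nat_lit 6), (nat_lit 5), (nat_lit 7), (nat_lit 6), (nat_lit 7)], (nat_lit 50), (nat_lit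 4), (nat_lit 0), (nat_lit 3)⟩))))))))
noncomputable def eD001_hcs : List CW := []
noncomputable def eD001_H (x j : Nat) : Bx (Nat → Nat → Nat) := mkH eD001_L eD001_pb.1 eD001_e.get (lmap CW.w eD001_hcs) (nat_lit 256) (nat_lit 257) (nat_lit 8) (nat_lit 512) (nat_lit 65536) (nat_lit 32767) x (eD001_rots.get j)
noncomputable def eD001_F (x b : Nat) : Bool := blkOK eD001_H eD001_ch (nat_lit 257) (nat_lit 512) (nat_lit 128) (nat_lit 8) (nat_lit 255) (nat_lit 22) (nat_lit 4194303) x b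

theorem eD001_k0_0 : allFrom (eD001_F (nat_lit 0)) (nat_lit 0) (nat_lit 8) = true := by decide +kernel
theorem eD001_k1_0 : allFrom (eD001_F (nat_lit 1)) (nat_lit 0) (nat_lit 8) = true := by decide +kernel
theorem eD001_k2_0 : allFrom (eD001_F (nat_lit 2)) (nat_lit 0) (nat_lit 8) = true := by decide +kernel
theorem eD001_k3_0 : allFrom (eD001_F (nat_lit 3)) (nat_lit 0) (nat_lit 8) = true := by decide +kernel
theorem eD001_k4_0 : allFrom (eD001_F (nat_lit 4)) (nat_lit 0) (nat_lit 8) = true := by decide +kernel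
theorem eD001_k5_0 : allFrom (eD001_F (nat_lit 5)) (nat_lit 0) (nat_lit 8) = true := by decide +kernel
theorem eD001_k6_0 : allFrom (eD001_F (nat_lit 6)) (nat_lit 0) (nat_lit 8) = true := by decide +kernel
theorem eD001_k7_0 : allFrom (eD001_F (nat_lit 7)) (nat_lit 0) (nat_lit 8) = true := by decide +kernel

theorem eD001_all : Cov eD001_F 8 8 0 := by
  have h := Cov.zero eD001_F 8
  have h := h.blk (b := 8) eD001_k0_0 rfl
  have h := h.next (y := 1) rfl rfl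
  have h := h.blk (b := 8) eD001_k1_0 rfl
  have h := h.next (y := 2) rfl rfl
  have h := h.blk (b := 8) eD001_k2_0 rfl
  have h := h.next (y := 3) rfl rfl
  have h := h.blk (b := 8) eD001_k3_0 rfl
  have h := h.next (y := 4) rfl rfl
  have h := h.blk (b := 8) eD001_k4_0 rfl
  have h := h.next (y := 5) rfl rfl
  have h := h.blk (b := 8) eD001_k5_0 rfl
  have h := h.next (y := 6) rfl rfl
  have h := h.blk (b := 8) eD001_k6_0 rfl
  have h := h.next (y := 7) rfl rfl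
  have h := h.blk (b := 8) eD001_k7_0 rfl
  have h := h.next (y := 8) rfl rfl
  exact h

theorem eD001 : Enum RD001 [] (gensW 7) 256 :=
  ⟨eD001_cols, eD001_ch, eD001_L, eD001_H, eD001_pb.1, eD001_e.get, [(nat_lit 0), (nat_lit 1), (nat_lit 3), (nat_lit 5), (nat_lit 7), (nat_lit 9), (nat_lit 11), (nat_lit 13)], (nat_lit 127), (nat_lit 7), eD001_rots, eD001_hcs,
    (nat_lit 257), (nat_lit 8), (nat_lit 512), (nat_lit 128), (nat_lit 65536), (nat_lit 32767), (nat_lit 8), (nat_lit 255), (nat_lit 22), (nat_lit 4194303), (nat_lit 2), (nat_lit 8),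
    fun _ _ => rfl, fun _ => rfl, fun _ _ => rfl, by decide +kernel, eD001_all.1⟩

theorem pD001 : TD001.Pres RD001 (gensW 7) := ⟨CT.ok_spec TD001_ok, lall_iff.1 TD001_rel, by decide +kernel,
  by decide +kernel, by decide +kernel, eD001.bound (ug_rels _) (bound_nil _)⟩

instance instTD001 : TD001.Grp := pD001.grp

noncomputable def SD010 : List (List Nat) := [[(nat_lit 11), (nat_lit 11)],
  [(nat_lit 13), (nat_lit 13), (nat_lit 10)],
  [(nat_lit 11), (nat_lit 13), (nat_lit 11), (nat_lit 13), (nat_lit 11), (nat_lit 13), (nat_lit 11), (nat_lit 13)]]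
noncomputable def RD010 : List (List Nat) := lapp RP (lapp Rka5 (lapp Rs16 SD010))
noncomputable def TD010_c0 : BT (Bx Nat) := (BT.node (nat_lit 2) (BT.node (nat_lit 1) (BT.leaf (Bx.mk (nat_lit 0x2c3d3e392d333c26312e35303a2a37342f363b3f2232292427382528232b21201f1e1d1a1b1c1312171415161918110e0f100d0c0b060908070a050403020100))) (BT.leaf (Bx.mk (nat_lit 0x8382999897969c9d8b8a9b9a86878f8e89888d8c959485849f9e91909293808147465d5c5b5a5859555457564243515045444d4c4b4a49485f5e4f4e52534041)))) (BT.node (nat_lit 3) (BT.leaf (Bx.mk (nat_lit 0xa3a2bcbdabaab9b8b7b6b5b4a6a7a9a8afaeadacbbbab1b0b2b3a5a4bfbea0a16766787975747d7c7b7a6b6a6263656471706d6c77766f6e727369687f7e6061))) (BT.leaf (Bx.mk (nat_lit 0xf2f3fdfceaebf9f8f4f5f6f7feffe9e8e5e4edecfafbf1f0e3e2efeee7e6e1e0dfded8d9d6d7dcdddadbcacbd3d2cfced1d0cdccd4d5c5c4c3c2c9c8c7c6c1c0)))))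
noncomputable def TD010_c1 : BT (Bx Nat) := (BT.node (nat_lit 2) (BT.node (nat_lit 1) (BT.leaf (Bx.mk (nat_lit 0x3a3c333e323f2c2b31302f2e3d3b37363534263938222524232d2928272a20211a1c131e121f0c0b11100f0e1d1b17161514061918020504030d0908070a0001))) (BT.leaf (Bx.mk (nat_lit 0x606162636564666769686b6a6c6d6f6e717072737574777678797b7a7c7d7e7f4d4c4746575643425b5a5150414055544b4a5f5e4f4e45445d5c494859585352)))) (BT.node (nat_lit 3) (BT.leaf (Bx.mk (nat_lit 0xa0a1a2a3a5a4a6a7a9a8abaaacadafaeb1b0b2b3b5b4b7b6b8b9bbbabcbdbebf8d8c8786979683829b9a9190818095948b8a9f9e8f8e85849d9c898899989392))) (BT.leaf (Bx.mk (nat_lit 0xf8f9f2f3eeeffeffebeae8e9fcfde5e4fafbe3e2f7f6f4f5e1e0f1f0edece7e6d8d9d2d3cecfdedfcbcac8c9dcddc5c4dadbc3c2d7d6d4d5c1c0d1d0cdccc7c6)))))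
noncomputable def TD010_c3 : BT (Bx Nat) := (BT.node (nat_lit 2) (BT.node (nat_lit 1) (BT.leaf (Bx.mk (nat_lit 0x28372e24253134293e332a3936213a2c2d3d2f302035383f26273b3c2223322b161411100f0e1715191f181e08071d1c1b1a050403090a1312010d0c0b000602))) (BT.leaf (Bx.mk (nat_lit 0x767770716c6d6a6b7e7f666764657c7d62637a7b78796061747572736e6f686951505756464745445d5c4c4d4b4a5f5e40415455535242435a5b595848494e4f)))) (BT.node (nat_lit 3) (BT.leaf (Bx.mk (nat_lit 0xbabbb4b5bebfaeafacadbcbda8a9a6a7b8b9b6b7a2a3b2b3b0b1a0a1aaaba4a58f8e898899989b9a82839392959480819f9e8a8b8c8d9d9c8485868796979091))) (BT.leaf (Bx.mk (nat_lit 0xf0f1f6f7e7e6e4e5fcfdedeceaebfeffe1e0f5f4f2f3e3e2fbfaf8f9e9e8efeed7d6d1d0cdcccbcadfdec7c6c5c4dddcc3c2dbdad9d8c1c0d5d4d3d2cfcec9c8)))))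
noncomputable def TD010_c5 : BT (Bx Nat) := (BT.node (nat_lit 2) (BT.node (nat_lit 1) (BT.leaf (Bx.mk (nat_lit 0x33393a2c2d3d3e2a342829373f262e2425313b3c2238353621322f30202b272313191a0c0d1d1e0a140809171f060e0405111b1c0218151601120f10000b0703))) (BT.leaf (Bx.mk (nat_lit 0x6d6c6766777663627b7a7170616075746b6a7f7e6f6e65647d7c696879787372404142434544464749484b4a4c4d4f4e515052535554575658595b5a5c5d5e5f)))) (BT.node (nat_lit 3) (BT.leaf (Bx.mk (nat_lit 0xadaca7a6b7b6a3a2bbbab1b0a1a0b5b4abaabfbeafaea5a4bdbca9a8b9b8b3b2808182838584868789888b8a8c8d8f8e919092939594979698999b9a9c9d9e9f))) (BT.leaf (Bx.mk (nat_lit 0xfcfdfefff5f4f2f3f0f1fbfaf8f9f6f7e9e8e7e6e4e5efeeedeceaebe1e0e3e2dcdddedfd5d4d2d3d0d1dbdad8d9d6d7c9c8c7c6c4c5cfcecdcccacbc1c0c3c2)))))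
noncomputable def TD010_c7 : BT (Bx Nat) := (BT.node (nat_lit 2) (BT.node (nat_lit 1) (BT.leaf (Bx.mk (nat_lit 0x2b3b26323e38223a252f30232d3c29353627332a3f2c31202e3d37213439242818120d1b1c0b0a1f09151607061e050f10031d021a191701141311000e0c0804))) (BT.leaf (Bx.mk (nat_lit 0x71707776666765647d7c6c6d6b6a7f7e60617475737262637a7b797868696e6f565750514c4d4a4b5e5f464744455c5d42435a5b58594041545552534e4f4849)))) (BT.node (nat_lit 3) (BT.leaf (Bx.mk (nat_lit 0xafaea9a8b9b8bbbaa2a3b3b2b5b4a0a1bfbeaaabacadbdbca4a5a6a7b6b7b0b19a9b94959e9f8e8f8c8d9c9d888986879899969782839293909180818a8b8485))) (BT.leaf (Bx.mk (nat_lit 0xeeefe8e9f8f9fafbe3e2f2f3f4f5e1e0feffebeaedecfcfde5e4e7e6f7f6f1f0dbdad5d4dfdecfcecdccdddcc9c8c7c6d9d8d7d6c3c2d3d2d1d0c1c0cbcac5c4)))))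
noncomputable def TD010_c9 : BT (Bx Nat) := (BT.node (nat_lit 2) (BT.node (nat_lit 1) (BT.leaf (Bx.mk (nat_lit 0x3e3f2c3a2b3c3332283427363938242e2330223d3b262137352a20312f2d29251e1f0c1a0b1c1312081407161918040e0310021d1b060117150a00110f0d0905))) (BT.leaf (Bx.mk (nat_lit 0x7e7f7c7d7a7b787976777475727370716e6f6c6d6a6b686966676465626360615e5f5c5d5a5b585956575455525350514e4f4c4d4a4b48494647444542434041)))) (BT.node (nat_lit 3) (BT.leaf (Bx.mk (nat_lit 0xbebfbcbdbabbb8b9b6b7b4b5b2b3b0b1aeafacadaaaba8a9a6a7a4a5a2a3a0a19e9f9c9d9a9b989996979495929390918e8f8c8d8a8b88898687848582838081))) (BT.leaf (Bx.mk (nat_lit 0xfefffcfdfafbf8f9f6f7f4f5f2f3f0f1eeefecedeaebe8e9e6e7e4e5e2e3e0e1dedfdcdddadbd8d9d6d7d4d5d2d3d0d1cecfcccdcacbc8c9c6c7c4c5c2c3c0c1)))))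
noncomputable def TD010_c11 : BT (Bx Nat) := (BT.node (nat_lit 2) (BT.node (nat_lit 1) (BT.leaf (Bx.mk (nat_lit 0x1f1e1d1c1b1a191817161514131211100f0e0d0c0b0a090807060504030201003f3e3d3c3b3a393837363534333231302f2e2d2c2b2a29282726252423222120))) (BT.leaf (Bx.mk (nat_lit 0xbfbebdbcbbbab9b8b7b6b5b4b3b2b1b0afaeadacabaaa9a8a7a6a5a4a3a2a1a09f9e9d9c9b9a999897969594939291908f8e8d8c8b8a89888786858483828180)))) (BT.node (nat_lit 3) (BT.leaf (Bx.mk (nat_lit 0x7f7e7d7c7b7a797877767574737271706f6e6d6c6b6a696867666564636261605f5e5d5c5b5a595857565554535251504f4e4d4c4b4a49484746454443424140))) (BT.leaf (Bx.mk (nat_lit 0xdfdedddcdbdad9d8d7d6d5d4d3d2d1d0cfcecdcccbcac9c8c7c6c5c4c3c2c1c0fffefdfcfbfaf9f8f7f6f5f4f3f2f1f0efeeedecebeae9e8e7e6e5e4e3e2e1e0)))))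
noncomputable def TD010_c13 : BT (Bx Nat) := (BT.node (nat_lit 2) (BT.node (nat_lit 1) (BT.leaf (Bx.mk (nat_lit 0x7f7e737d717c79776f7b6d7a7876697567746572706b636e6c6a6168666462605f5e535d515c59574f5b4d5a5856495547544552504b434e4c4a414846444240))) (BT.leaf (Bx.mk (nat_lit 0x3e3f3a3c3436333932382e302c3d2b3b28372735262a2431232f222d212920251e1f1a1c1416131912180e100c1d0b1b08170715060a0411030f020d01090005)))) (BT.node (nat_lit 3) (BT.leaf (Bx.mk (nat_lit 0xfffefdfcfbfaf9f8f7f6f5f4f3f2f1f0efeeedecebeae9e8e7e6e5e4e3e2e1e0dfdedddcdbdad9d8d7d6d5d4d3d2d1d0cfcecdcccbcac9c8c7c6c5c4c3c2c1c0))) (BT.leaf (Bx.mk (nat_lit 0xbebfbcbdbabbb8b9b6b7b4b5b2b3b0b1aeafacadaaaba8a9a6a7a4a5a2a3a0a19e9f9c9d9a9b989996979495929390918e8f8c8d8a8b88898687848582838081)))))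
noncomputable def TD010_c14 : BT (Bx Nat) := (BT.node (nat_lit 2) (BT.node (nat_lit 1) (BT.leaf (Bx.mk (nat_lit 0x7e7f727c707d78766e7a6c7b7977687466756473716a626f6d6b6069676563615e5f525c505d58564e5a4c5b5957485446554453514a424f4d4b404947454341))) (BT.leaf (Bx.mk (nat_lit 0x3f3e3c3a363439333832302e3d2c3b2b372835272a2631242f232d22292125201f1e1c1a161419131812100e1d0c1b0b170815070a0611040f030d0209010500)))) (BT.node (nat_lit 3) (BT.leaf (Bx.mk (nat_lit 0xfefffcfdfafbf8f9f6f7f4f5f2f3f0f1eeefecedeaebe8e9e6e7e4e5e2e3e0e1dedfdcdddadbd8d9d6d7d4d5d2d3d0d1cecfcccdcacbc8c9c6c7c4c5c2c3c0c1))) (BT.leaf (Bx.mk (nat_lit 0xbfbebdbcbbbab9b8b7b6b5b4b3b2b1b0afaeadacabaaa9a8a7a6a5a4a3a2a1a09f9e9d9c9b9a999897969594939291908f8e8d8c8b8a89888786858483828180)))))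
noncomputable def TD010_w : BT (Bx Nat) := (BT.node (nat_lit 2) (BT.node (nat_lit 1) (BT.leaf (Bx.mk (nat_lit 0xb5731000b75310000b9730000b5730000b9530000b7530000b7130000b5130000b9710000b5710000b9510000b7510000b7310000b53100000b9700000b5700000b9500000b7500000b9300000b7300000b5300000b1300000b9100000b7100000b5100000b31000000b9000000b7000000b5000000b3000000b10000000b0000573100007531000009730000057300000953000007530000071300000513000009710000057100000951000007510000073100000531000000970000005700000095000000750000009300000073000000530000001300000091000000710000005100000031000000090000000700000005000000030000000100000000))) (BT.leaf (Bx.mk (nat_lit 0xeb753100db7531000eb753000db753000eb751000db751000eb731000db731000eb531000db5310000eb750000db750000eb730000db730000eb530000db530000eb710000db710000eb510000db510000eb310000db3100000eb700000db700000eb500000db500000eb300000db300000eb100000db1000000eb000000db000e7531000d75310000e7530000d7530000e7510000d7510000e7310000d7310000e5310000d53100000e7500000d7500000e7300000d7300000e5300000d5300000e7100000d7100000e5100000d5100000e3100000d31000000e7000000d7000000e5000000d5000000e3000000d3000000e1000000d10000000e0000000d))))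 (BT.node (nat_lit 3) (BT.leaf (Bx.mk (nat_lit 0xbeb75310bdb753100beb75300bdb75300beb75100bdb75100beb73100bdb73100beb53100bdb531000beb75000bdb75000beb73000bdb73000beb53000bdb53000beb71000bdb71000beb51000bdb51000beb31000bdb310000beb70000bdb70000beb50000bdb50000beb30000bdb30000beb10000bdb100000beb00000bdb00be753100bd7531000be753000bd753000be751000bd751000be731000bd731000be531000bd5310000be750000bd750000be730000bd730000be530000bd530000be710000bd710000be510000bd510000be310000bd3100000be700000bd700000be500000bd500000be300000bd300000be100000bd1000000be000000bd))) (BT.leaf (Bx.mk (nat_lit 0xebdb7531dbdb75310ebdb7530dbdb7530ebdb7510dbdb7510ebdb7310dbdb7310ebdb5310dbdb53100ebdb7500dbdb7500ebdb7300dbdb7300ebdb5300dbdb5300ebdb7100dbdb7100ebdb5100dbdb5100ebdb3100dbdb31000ebdb7000dbdb7000ebdb5000dbdb5000ebdb3000dbdb3000ebdb1000dbdb10000ebdb0000dbdb0ebd75310dbd753100ebd75300dbd75300ebd75100dbd75100ebd73100dbd73100ebd53100dbd531000ebd75000dbd75000ebd73000dbd73000ebd53000dbd53000ebd71000dbd71000ebd51000dbd51000ebd31000dbd310000ebd70000dbd70000ebd50000dbd50000ebd30000dbd30000ebd10000dbd100000ebd00000dbd)))))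
noncomputable def TD010_cols : List (BT (Bx Nat)) := [TD010_c0, TD010_c1, TD010_c1, TD010_c3, TD010_c3, TD010_c5, TD010_c5, TD010_c7, TD010_c7, TD010_c9, TD010_c9, TD010_c11, TD010_c11, TD010_c13, TD010_c14]
noncomputable def TD010_ch (x j : Nat) : Bx Nat := chk TD010_cols x j
noncomputable def TD010_wc (_ j : Nat) : Bx Nat := TD010_w.get j
noncomputable def TD010 : CT := ⟨(nat_lit 256), (nat_lit 8), (nat_lit 255), TD010_ch, (nat_lit 32), (nat_lit 4294967295), TD010_wc, (nat_lit 32766)⟩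
theorem TD010_ok : TD010.ok = true := by decide +kernel
theorem TD010_rel : lall TD010.relOK RD010 = true := by decide +kernel
noncomputable def eD010_c0 : BT (Bx Nat) := (BT.node (nat_lit 1) (BT.leaf (Bx.mk (nat_lit 0x0))) (BT.leaf (Bx.mk (nat_lit 0x0))))
noncomputable def eD010_c1 : BT (Bx Nat) := (BT.node (nat_lit 1) (BT.leaf (Bx.mk (nat_lit 0x2da3a8c08ed3da3b8e08f07823bcf40f27823c4c40f439a3cca08d448234cb08f83423dce08fa7d03e4f40fc7da3ece08fd35a3f8e40df31a378a08ff39a400b08bc4022ecc20b34022d1608c87c231d508c25c2306622a43423b0b08eb988a89840c95d0329208c07822fd620c480230d308ad988a58b40f64da3d5108ae988a4d408b28822c55089b548268d22ba488af9608db5c2371722e4808b8d12ca659029d508d885035d620e261038532cda7da365108cb9889dcc40e845039cc08cc9889d1922b6948ad5808b89022dd140e52c2399522d08c8b3d5407f3081f9222d2508b598087d708a0d84087850219d0899542315008c678227a508e09c214a508dd9c214621e626c21b1f22a568217a62244590339408cd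788aa20225f988906508d55479727083e94234531e5d9c20f56886491018d8087a708a08d08734821da2225a7c21e5f08815c22aa008a9942212666856c22adb088d808a226222e5022c0b08af647ab201e487c21319228e808a266222a9422f531e8b9c209a508b9388232708256421ba5086d8c7981a40719901c1c1e9f9c208e278617820f2222568879565225494794d508908c223e108a08421aa2086f7c2261b229d4822494089594215e1088a84212e5684a99996e1086884219e40866902196802a3a00a863084e9488c6420508480c20207b890166408588020bdf087c9888566201398784a5089c70786e7081094225e0081c9c203e80294a00a45f226988208a41e1e902075a20297020b64081a882066408188620a21862c90213e0084d847926508807480de008329c2026508786420e2008339c202280275a009ca3081fa009ae3223b88205e508169080923083a9478e6140406c210e522368c80d6520348c80866402094211e5080a94211a508459c200e80242a008fe6220790b01a6200598781262c14a008ae8022794203a3080d9420325080ba0084670801a0080800000))) (BT.leaf (Bx.mk (nat_lit 0xd08e9))))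
noncomputable def eD010_c2 : BT (Bx Nat) := (BT.node (nat_lit 1) (BT.leaf (Bx.mk (nat_lit 0x2d83d4c60e831839cd60de282b7c70af8382bdc898fa3d83e4a9300282bfc760f1289bc890af3182bd080aec264baca9abc2d82ec926f0202bbc726d41c2b4cb0afe2c2bf4c0ab02c9abd026d5282b4540ace502b3546cbd2c9becc0afc409ae5792c4542b0d29ac652631560aca5c2b2616cb73c2b9060aea224ba606cb82c938d30acb389b31526e2549b84d0acf50f341792d8609b5d20a933c925910ada4c2b6560adc59836d9929a582a6d40aa7482a9a06cb14c2b8090aee282bb616cb23c2b75f0ad2802b59126ad309ab95927f4499fa00aba7c2af8d60e6282b94b0ab5402ad970a805429e140a5c858175d6c9c55830132ebf6db25d22474542a2cd2477602a31d0a6a74918670a4485b199c0aa85d830580ac29c290606c68682a94e0ac740921a1606e4c9b21124874c99b540a756249c942488689a25992a159828de2647642a3530a8e402a48f0a9588995e20a6f9c28ba50a8198f209824ac502ad100ab39c28aa424398828d250a7998f1e9626ab302a890265154ba4110aa44c914970a8f8428f62603e8db21200a94482a46626246898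ede24a09c2889f0a9884910200a9d88910e2922584989a70a1f702a7e56c4e602951b2456802aa5526aa9499422724f8580de26038842a15a0a5e7e686d9245f6c287120a733c29da40a5b84296a40a6090907a40a1d6428a5e0a2d88286640a18742a2a00a3a8490d68029e842995e0a17a00a6600a6770285a10a708981c670a0e6429ae126468c29f210a5880296650a318029163267b7828ae10a2798f0da6260c98902e802837c992a70a097cb8ce8027d68992e70a088980ca00a6384299250a6c9c281e8026984283e20a10a0098a30a4d949131c245378295650a158c9926526487c9909d263f98f06a30a0698981662404942836326208898868023c98b84650a309428be70a02a008b280228a0088e42e1494284e50a129c28068020aa0080c00000))) (BT.leaf (Bx.mk (nat_lit 0x90af6))))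
noncomputable def eD010_c3 : BT (Bx Nat) := (BT.node (nat_lit 1) (BT.leaf (Bx.mk (nat_lit 0x2433f4647002963fc50cf11433c850cef1833c09a8eb229bb0558e8391b9c70cde18337c658fb191bf0758f91963e880cea1833a470cf72033e0946ee1d63b440cf63433d53a2e21d6385228b644a2d520ce6183395728d01d1bcc846f434a33d258c5411b18f58c3511b119aabf4163026289654a2b440cbc3832ee628934ca2b960ce0303374c58b0211abcc58b94832f500ca640329d258b83c32dcf0cdb44337130cd9383368a46b32962d0f0cd7603362628774ca32c558d43e8b4e628742c333110cc840a31d10ce440338c90cc1243309328a438a288b0cce1c333520cd1503355a288970a22120c6e4431b662856451b25158ca98a15120cb25c3240d0cb134323e70c50743215f286698a111c285e2831fc80c7e78a1a26284178317e50cd69c30f950c5c94334a70c3d4c31758a2a3391a85a0c78683200d58725161d600c3b6432b1b0cab4919c51467078a27e2586c9432066282e98ea0db288d2d1a6c9589a9431e650c307d191a6282a98e9f5b288e9432fa70c264c322e50cba9c3094c0c8c44321d00c869c3091358aa4962a610c849519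1de0c5b89d13dd0c999c3085e0c9e9c308130c523831463284e94a15e6281f7ca25db0c9c52a2456a6947ca1aa20c226830cdc0c3290318650ca89c305e50ca59c3059446643d618e802a08431a620c6294312270c136560a1e582c89605264c4d9031ade0c7b9c304650c9d9c3041c0c1b94326270c0f81187280295a00a4a50c3184a22a50c349c3031c58277118ae6280e89183664c3a6d6165d465898e8f26a07c9c302a50c829c3025d0c4a6c30de50c7a9c302180c4b6c30e280276a009ce8026f9430563285aa0099e8026594318250c189c3015f0c3f75610a6280791301a64c1ea009568025398e88e10c49a0093270c03a0091680243a0090250c368430d6802399c300a8022fa008b68022994306a30c19a0087670c01a0084a8020ba0081000000))) (BT.leaf (Bx.mk (nat_lit 0x50cfe))))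
noncomputable def eD010_c4 : BT (Bx Nat) := (BT.node (nat_lit 1) (BT.leaf (Bx.mk (nat_lit 0x3d4bc8e50fb394bf0d0efd343bf890eea2953a4f0ed4456b4c80ef43153cc954f62c3bd4e0eff283c00b0eee3153b4c54f02c3bbc90ebc2952eca54fa243be4f52df2e3378c0ed9303b6900ebe2c3ae970ec35c3b1120ed6383ba0a0ee7403b49650cd594b38d52e536339990ec1803b09336e088c2c5052f8403bdd154dd88c2c948a93822a5950edb543b71f0ec7583b2180e9b683a69730cb80c330d50af5152c1882e1616b8a182d7696b61436b44a0acd154e48cc2dca54ec243bacc54e390c2e230eb9883af588a748a29dd30ec0443afe10ed1843b5530ec5303b1990ea2503a918549d5d526210e8b843a31b0e825439fd50e7e6439e957aad5e0971a7aae683975d0e696d51ad70e8e5c3ab243081660b29b52c96d523560eab88c1e5f0ecf4c394a10e8f4c3b4110e5155524140e918952518549e683a66282a98942a9e0e607e2905f8a444951d8f36739c38c64624f5c397dc36a88c3a7233066594a9d650a668d979e0e459138bda36a5843a5e43068843ad510e878d51b570eb6383a199546e960896450267c396980e728839d670e23683a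7e70e2279528230e788c38b620e808838a630e3d8c38fa5363c8438edf548a60da0d90e7d6d428560ea39c386a0366f91486e4501c8d88da38a2a7438de28a2e6cd8e14549549524a70e158c3a1250e4784385250e496d510e45a4099393270e1298c13a70e117d51f1e0e8868392e05432783a2630e4a8150ce4826391419240e6289e98610e0d9438d5a0e5378d95620e579938e670e0b7c38fdf0e42a00a1670e0a8c39ee10e5492399e50e108d505a20e568e399638c0f91685e30e709039c670e07a009b28026a9548224500994383a30e0694386630e588c39668025b99387670e048c389e20e2ba009422364d9c380e80248a0091a6342c8838a26301f8950ea70e02a008d2802308c388240e21a0089244e1e9c380680218a0084e8020ca0081400000))) (BT.leaf (Bx.mk (nat_lit 0xb52f1))))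
noncomputable def eD010_c5 : BT (Bx Nat) := (BT.node (nat_lit 1) (BT.leaf (Bx.mk (nat_lit 0x987402510fd9873fa510fb9873f2510f99873ea510f79873e2510f59873da510f39873d2510f19873ca510ef9873c2510ed9873ba510eb9873b2510e99873aa510e79873a2510e598739904ae33c4392510e1987388f10dd94437a61cdf412b82510db987372510d998736a510d7987361110d24a0346510d3987351280d6444355280cf444342510cd987338d10cb3a0332510c9987328e4ac7344322510c598731a510c3987312510c198730a510bf98730117cba4042e6510bb9872f1010be452af5180b74042e0f10b541f2da510b39872d1110b1492aca510af9872c1010ad452ab964aab5442b2510a99872a9a7ca594429a61ca76442a1180a25c4285010a462428e4806c644189910993e4261c2a9794426a61c9b68aa78e109d6c4271110934e124961091492a59210955e42525108f98724187c8d5c423a5108b987231e4a366472218108994421a61c8785293a010503841f57847a6611e5110789441fa61c7f3c720e5107b9871f161082604205290804041d117c735c71c912a774041d9610759441c261c7196016e5106d9871ba310a095f0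f1c102470408d21c668441951106889299e51063987191a2a9f71f07e2805769f1799105f94417261c5d9041bde801a94416261c5984418184a5469f14d710566441565105198714a14a84720056010859c404e5104894412a61c4b9c404a64a4c6a00c5d903091f0bdc7c41644101e903f6c4111a7c4374410a5103d9870fa4106b79f03a7100c9440d2510379870e1d108a9c402e64a399440ca61c3364411dc10468c41157102a8a00a631c2884709d8802e8440b62102c8040ae51025987099d4a6a74a9a5a840794408261c216c4186710059440625101b987071d105a9c401264a1d94405a61c176c413e71003a009368024994402a5100f987041d103b9c400a8023aa008d662a1194402261c0964408a71001a0087a80219a008528020da0081800000))) (BT.leaf (Bx.mk (nat_lit 0x2510ff))))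
noncomputable def eD010_c6 : BT (Bx Nat) := (BT.node (nat_lit 1) (BT.leaf (Bx.mk (nat_lit 0x25ab94748e215c384312d81d935c312da15db64738db1ddb70312ce1ce334738ca1d9324412c01592fc312c41ddb0c312c11c4b08512c5204b18712b4144acc212b0244abc41300204bfe712aa9c4aa4612fe104bf6712a3144a9c812a69c4a84612f7184be0438fa104be4438fc184bee712959c4a503489b1c4a6a712929c4a46712909c4a3c46af6184bd67128c9c4a2c612f4184bce712879c4a18964eb18e3b0438f0184bbc86aed1123b8538f2104bc6712769c49d42487f56b1fa712739c49ca712719c49c27126e9c49b4848ea19c3a6712649c498c370e829239e7125d9c4972712599c4962802e4a00b8e7125518e37c976de9c494e71252a00b8271251a00b75e127b9c4921f12659c490e71242084b50838d378499e712409c48fe7123ea00b5a802d59c48f6802d2a00b46802d0a00b3e712389c48de802cca00b2e712359c48ce71232a00b22802c77849367123074e12a7122d9c48b27122b044af1412bb60e12e0386c7d2282712299c48a2712279c489a802bea00af671225a00aea802b9a00ae2802b794e0e6802b6a00ad5f127c9521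160763a85c126712217daa667122081aa7a802b2a00ac63124c9c487a7121d9c48727121ba00aba802ad8c48d271219a00ab2802ab9c486271217a00aa271216a00a96802a4a00a8a512469c4852712137d921646a625c49f5c12838049a68029f9c4846632509049ae71210a00a768029c9c483e80298a00a5e80296a00a4e5122f9c4835f126a9049be8028ea00a367120ba00a2a4645ba00a26802889c482a8028498f8f271209a00a0a80281a00a0271208a009ea80279a009e280277a009d25120c94484a71206a009a2802669c481680261a009828025fa0097a71204a0096a80257a0095a802549c480e8024fa0093a63e23a0091e80244a0090671202a008ee63224a008da80231a008ba8022a9c480680222a0087e8021aa008568020ea0081c00000))) (BT.leaf (Bx.mk (nat_lit 0x548e6))))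
noncomputable def eD010_c7 : BT (Bx Nat) := (BT.node (nat_lit 1) (BT.leaf (Bx.mk (nat_lit 0x345b92716dd385b82716d2405b5a716d1451356716cf451342716cb305b32716c7351322716ba4112fa716b93c5af6716b74112e2716b5385ada716b1405aca716ad3c5aba716ab5512b0e1700a00bfe716a56512a0f18fe9c5a89044a4a00bf671699605a7a71698385a76716976d1271118fc405bea71693405a5a802fba00be5016f8a00bde7168d5d1238d18f6a00bd671688695a24c16f4a00bce7167d3c620e7167a59120a7167961120671678485a00f16f24063c2716743c59de802f1a00bbcf16eea00bb4f18eca00bae716664d71a1118eaa00ba67165e65117d018e8a00b9d416e6a00b9671657851181816e29c595174456a00b84f16df5c596e802de8911bd842755c5a51918dc3c5b69a16d89c5905b4444a00b6e802d9a00b5d118d4445a1161662a00b4df4450605a7e7163c9111ad616cea00b3671636751229c168c65132a802c99c58c5944473459da0a49241bb19516c45c5b09116c09c58a96162ea00b16716298510b6802c3a00b06802bf4062f0e164e5d11b2802bb3c5a16344a09c5891b166a605a8e716236c59a6642728c5a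41c18717061b9244b47058be802b37959167161f6d118634291685992016aa605ac2802af9c5869d445a8dba85c165d9c58624161da00aa5616a76110d2802a66db8e6716156d113d24495685948d16738970ae516409c584a5164998612d81643605a1dd164274599da169b646131e1630a00a6a316486c591a7160e7510ee8028f7058fa318286511567160b9458d68028b9860e1a18539c582a41611a00a1a6423f7459957187f8059f23443a84584e8027ea009ee46e0c9511367160765108a80270a009b5816269c58165161ea0098e61821946166716049458668025c986072802589c580e51614a009466181799089e8024a9460ce716029458368023d9860424562ca008de802329c580651606a0089661809a008828021ba0085a8020fa0082000000))) (BT.leaf (Bx.mk (nat_lit 0x2716e3))))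
noncomputable def eD010_c8 : BT (Bx Nat) := (BT.node (nat_lit 1) (BT.leaf (Bx.mk (nat_lit 0x9c538ce14e09c5375014d69c534917ed59c534517ed09c533cc14cc9c532cd7ec89c531d07ebe9c52e8f14bd9c52e507eb89c52dce14b69c52d5014b29c52c4f14ae9c52b557eac9c52ace5effa00c0197ea89c5294f1afd41fa92714a2a00bf98149e9c526509c9d9c5261b7e9c9c525d11afb4053e5014969c524e802fca00be9014f7a00be177e8e9c5234d1af5a00bd9814899c5220c14f3a00bd0f14839c51f567e829c51e987e819c51e521a809c51e0f14f1406bbcf14779c51d2802f2a00bc0f14eda00bb8f1aeba00bb1114689c519911ae9a00ba997e5f9c517901ae7a00ba1414e5a00b9a17e609c515d814e15df95a71454a00b88f14de6659be802df88516e21472646a4591adb3dfb65a14d76df91271441a00b72802daa00b6111ad34451418949fa00b51f148488518a47e6b9c50f1614cda00b39d7e8a9c50d9c148b645326802ca65f91e714314271cd27e95385315514c35c5305394bf5850ba7142aa00b1a17e2d9c50a6802c4a00b0a802c0406aece7e855c5282802bc38693a5146c6c51aa71424845285b14699c508d614758c52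3dc1a707069b5214b3797916802b47a50bdb7e619c507d71a9468518e014a96052be802b075f96a7141a606a8dc145c90507671418a00aa9614a66050e6802a76450d1b7e4f9c5055e1492685144f967690509d814439451267141298692a41a40605219c7e3f745195a149a646921e5e46a00a6e69e4c9450c1d7e3b9c503a802907050f62142c68514e514359c502e8028c9868dd714559050467140aa00a1df5e4275f99d71a7e8051ee3140c8451368027fa009f22143a94504d97e229c501e80271a009b98142594507a71405a0099261a20946962514199c50128025d98686e8025994505271403a0094a61a168978ae8024b9468ca5140d9c500a8023e98683e31428a008e28023394501a71401a0089a61a08a008868021ca0085e80210a0082400000))) (BT.leaf (Bx.mk (nat_lit 0xf7ee4))))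
noncomputable def eD010_p : BT (Bx Nat) := (BT.node (nat_lit 1) (BT.leaf (Bx.mk (nat_lit 0xce31f3748cdd1f3488cd21f3448cd11f33c8ccf1f32c8ccb1f31c8cc71eae88aba1eae48ab91eadc8ab71ead48ab51eac48ab11eab48aad1eaac8aab1eaa86aa91aa948aa51ea8c6aa222a887aa11aa648a991ea608a981ea5c8a971ea546a941aa4c8a931ea486a911aa406a8f1aa348a8d1ea306a8b1aa208a881ea1c6a861a1f4887d1e1e8887a1e1e488791e1e088781e1d868751a1d088741e1cc68721a1c468701a1b8686d1a19888661e19068631a178885e1e174685c1a16468581a15c88571e15468542215078531a14868520614468510614038481a11028431a10868412210478410a100683f1a0f8683e0e0f8183d1a0f4383d060f0883c1e0e068371a0d888361e0d468331a0c86831220c47831120c0662e098b4662c198ac662a218a8762a098a486291d8a466281989c66261989836260589466250d89416242189076240d88c86231d88c46230588846220988466210d88066200d87c861f1d87c261e19874661c1986c661a21868761a1186466182186076181985c66170d85866160d85486151d85446141984c66131584c36122184876121584846111984446110d84066100d840160f1983c360f05838860e1d838260d19830560c0d82c860b1d82c660b1582c460a21828760a19828460a0d02464090d02424090502064080d02024080501c84071d01c44070901864052101474051901454050d01084041d01064041501044032100c74031900c54031100c34030500884021d00864021500844020d0082201208047201188045201108043201088041000000000)))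 (BT.leaf (Bx.mk (nat_lit 0x338c8))))
noncomputable def eD010_e : BT Nat := BT.leaf (nat_lit 0)
noncomputable def eD010_cols : List (BT (Bx Nat)) := [eD010_c0, eD010_c1, eD010_c2, eD010_c3, eD010_c4, eD010_c5, eD010_c6, eD010_c7, eD010_c8]
noncomputable def eD010_ch (x j : Nat) : Bx Nat := chunkG eD010_cols (nat_lit 2) x j
noncomputable def eD010_L (x : Nat) : Bx (Nat → Nat) := lookG eD010_ch (nat_lit 8) (nat_lit 255) (nat_lit 22) (nat_lit 4194303) x
noncomputable def eD010_pc (_ j : Nat) : Bx Nat := eD010_p.get j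
noncomputable def eD010_pb : Bx (Nat → Nat) := lookG eD010_pc (nat_lit 8) (nat_lit 255) (nat_lit 18) (nat_lit 262143) (nat_lit 0)
noncomputable def eD010_rots : BT CW := (BT.node (nat_lit 43) (BT.node (nat_lit 21) (BT.node (nat_lit 10) (BT.node (nat_lit 5) (BT.node (nat_lit 2) (BT.node (nat_lit 1) (BT.leaf ⟨[], (nat_lit 1000000), (nat_lit 0), (nat_lit 0), (nat_lit 0)⟩) (BT.leaf ⟨[], (nat_lit 1000000), (nat_lit 0), (nat_lit 0), (nat_lit 1)⟩)) (BT.node (nat_lit 3) (BT.leaf ⟨[], (nat_lit 1000000), (nat_lit 0), (nat_lit 0), (nat_lit 2)⟩) (BT.node (nat_lit 4) (BT.leaf ⟨[(nat_lit 1), (nat_lit 1)], (nat_lit 0), (nat_lit 0), (nat_lit 0), (nat_lit 3)⟩) (BT.leaf ⟨[(nat_lit 2), (nat_lit 2)], (nat_lit 1), (nat_lit 0), (nat_lit 0), (nat_lit 3)⟩)))) (BT.node (nat_lit 7) (BT.node (nat_lit 6) (BT.leaf ⟨[(nat_lit 3), (nat_lit 3)], (nat_lit 2), (nat_lit 0), (nat_lit 0), (nat_lit 3)⟩) (BT.leaf ⟨[(nat_lit 4), (nat_lit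 4)], (nat_lit 3), (nat_lit 0), (nat_lit 0), (nat_lit 3)⟩)) (BT.node (nat_lit 8) (BT.leaf ⟨[(nat_lit 5), (nat_lit 5)], (nat_lit 4), (nat_lit 0), (nat_lit 0), (nat_lit 3)⟩) (BT.node (nat_lit 9) (BT.leaf ⟨[(nat_lit 6), (nat_lit 6)], (nat_lit 19), (nat_lit 0), (nat_lit 0), (nat_lit 3)⟩) (BT.leaf ⟨[(nat_lit 8), (nat_lit 7)], (nat_lit 22), (nat_lit 1), (nat_lit 0), (nat_lit 3)⟩))))) (BT.node (nat_lit 15) (BT.node (nat_lit 12) (BT.node (nat_lit 11) (BT.leaf ⟨[(nat_lit 7), (nat_lit 8)], (nat_lit 22), (nat_lit 0), (nat_lit 0), (nat_lit 3)⟩) (BT.leaf ⟨[(nat_lit 7), (nat_lit 7), (nat_lit 5)], (nat_lit 20), (nat_lit 0), (nat_lit 0), (nat_lit 3)⟩)) (BT.node (nat_lit 13) (BT.leaf ⟨[(nat_lit 8), (nat_lit 8), (nat_lit 5)], (nat_lit 49), (nat_lit 1), (nat_lit 0), (nat_lit 3)⟩) (BT.node (nat_lit 14) (BT.leaf ⟨[(nat_lit 5), (nat_lit 7), (nat_lit 7)], (nat_lit 20), (nat_lit 2), (nat_lit 0), (nat_lit 3)⟩) (BT.leaf ⟨[(nat_lit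 1), (nat_lit 3), (nat_lit 1), (nat_lit 3)], (nat_lit 7), (nat_lit 0), (nat_lit 0), (nat_lit 3)⟩)))) (BT.node (nat_lit 18) (BT.node (nat_lit 16) (BT.leaf ⟨[(nat_lit 1), (nat_lit 4), (nat_lit 1), (nat_lit 4)], (nat_lit 8), (nat_lit 0), (nat_lit 0), (nat_lit 3)⟩) (BT.node (nat_lit 17) (BT.leaf ⟨[(nat_lit 1), (nat_lit 6), (nat_lit 1), (nat_lit 6)], (nat_lit 11), (nat_lit 1), (nat_lit 0), (nat_lit 3)⟩) (BT.leaf ⟨[(nat_lit 2), (nat_lit 3), (nat_lit 2), (nat_lit 3)], (nat_lit 9), (nat_lit 0), (nat_lit 0), (nat_lit 3)⟩))) (BT.node (nat_lit 19) (BT.leaf ⟨[(nat_lit 2), (nat_lit 4), (nat_lit 2), (nat_lit 4)], (nat_lit 10), (nat_lit 0), (nat_lit 0), (nat_lit 3)⟩) (BT.node (nat_lit 20) (BT.leaf ⟨[(nat_lit 3), (nat_lit 6), (nat_lit 3), (nat_lit 6)], (nat_lit 13), (nat_lit 1), (nat_lit 0), (nat_lit 3)⟩) (BT.leaf ⟨[(nat_lit 5), (nat_lit 1), (nat_lit 2), (nat_lit 1), (nat_lit 2)], (nat_lit 5), (nat_lit 4), (nat_lit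 0), (nat_lit 3)⟩)))))) (BT.node (nat_lit 32) (BT.node (nat_lit 26) (BT.node (nat_lit 23) (BT.node (nat_lit 22) (BT.leaf ⟨[(nat_lit 1), (nat_lit 5), (nat_lit 2), (nat_lit 1), (nat_lit 2)], (nat_lit 34), (nat_lit 4), (nat_lit 0), (nat_lit 3)⟩) (BT.leaf ⟨[(nat_lit 2), (nat_lit 1), (nat_lit 2), (nat_lit 1), (nat_lit 5)], (nat_lit 34), (nat_lit 1), (nat_lit 0), (nat_lit 3)⟩)) (BT.node (nat_lit 24) (BT.leaf ⟨[(nat_lit 4), (nat_lit 6), (nat_lit 4), (nat_lit 1), (nat_lit 6)], (nat_lit 14), (nat_lit 1), (nat_lit 0), (nat_lit 3)⟩) (BT.node (nat_lit 25) (BT.leaf ⟨[(nat_lit 6), (nat_lit 4), (nat_lit 6), (nat_lit 1), (nat_lit 4)], (nat_lit 43), (nat_lit 2), (nat_lit 0), (nat_lit 3)⟩) (BT.leaf ⟨[(nat_lit 4), (nat_lit 2), (nat_lit 7), (nat_lit 1), (nat_lit 8)], (nat_lit 15), (nat_lit 3), (nat_lit 0), (nat_lit 3)⟩)))) (BT.node (nat_lit 29) (BT.node (nat_lit 27) (BT.leaf ⟨[(nat_lit 4), (nat_lit 2), (nat_lit 4), (nat_lit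 2)], (nat_lit 10), (nat_lit 1), (nat_lit 0), (nat_lit 3)⟩) (BT.node (nat_lit 28) (BT.leaf ⟨[(nat_lit 6), (nat_lit 3), (nat_lit 6), (nat_lit 3)], (nat_lit 13), (nat_lit 0), (nat_lit 0), (nat_lit 3)⟩) (BT.leaf ⟨[(nat_lit 3), (nat_lit 2), (nat_lit 6), (nat_lit 2), (nat_lit 6)], (nat_lit 12), (nat_lit 3), (nat_lit 0), (nat_lit 3)⟩))) (BT.node (nat_lit 30) (BT.leaf ⟨[(nat_lit 2), (nat_lit 6), (nat_lit 3), (nat_lit 2), (nat_lit 6)], (nat_lit 12), (nat_lit 1), (nat_lit 0), (nat_lit 3)⟩) (BT.node (nat_lit 31) (BT.leaf ⟨[(nat_lit 6), (nat_lit 2), (nat_lit 6), (nat_lit 2), (nat_lit 3)], (nat_lit 41), (nat_lit 2), (nat_lit 0), (nat_lit 3)⟩) (BT.leaf ⟨[(nat_lit 1), (nat_lit 8), (nat_lit 4), (nat_lit 2), (nat_lit 7)], (nat_lit 15), (nat_lit 1), (nat_lit 0), (nat_lit 3)⟩))))) (BT.node (nat_lit 37) (BT.node (nat_lit 34) (BT.node (nat_lit 33) (BT.leaf ⟨[(nat_lit 7), (nat_lit 1), (nat_lit 8), (nat_lit 2), (nat_lit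 4)], (nat_lit 44), (nat_lit 2), (nat_lit 0), (nat_lit 3)⟩) (BT.leaf ⟨[(nat_lit 7), (nat_lit 5), (nat_lit 7)], (nat_lit 20), (nat_lit 1), (nat_lit 0), (nat_lit 3)⟩)) (BT.node (nat_lit 35) (BT.leaf ⟨[(nat_lit 3), (nat_lit 1), (nat_lit 3), (nat_lit 1)], (nat_lit 7), (nat_lit 1), (nat_lit 0), (nat_lit 3)⟩) (BT.node (nat_lit 36) (BT.leaf ⟨[(nat_lit 6), (nat_lit 1), (nat_lit 6), (nat_lit 1)], (nat_lit 11), (nat_lit 0), (nat_lit 0), (nat_lit 3)⟩) (BT.leaf ⟨[(nat_lit 5), (nat_lit 3), (nat_lit 4), (nat_lit 3), (nat_lit 4)], (nat_lit 6), (nat_lit 4), (nat_lit 0), (nat_lit 3)⟩)))) (BT.node (nat_lit 40) (BT.node (nat_lit 38) (BT.leaf ⟨[(nat_lit 3), (nat_lit 5), (nat_lit 4), (nat_lit 3), (nat_lit 4)], (nat_lit 35), (nat_lit 4), (nat_lit 0), (nat_lit 3)⟩) (BT.node (nat_lit 39) (BT.leaf ⟨[(nat_lit 4), (nat_lit 3), (nat_lit 4), (nat_lit 3), (nat_lit 5)], (nat_lit 35), (nat_lit 1), (nat_lit 0), (nat_lit 3)⟩) (BT.leaf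 ⟨[(nat_lit 4), (nat_lit 7), (nat_lit 4), (nat_lit 8), (nat_lit 5)], (nat_lit 18), (nat_lit 4), (nat_lit 0), (nat_lit 3)⟩))) (BT.node (nat_lit 41) (BT.leaf ⟨[(nat_lit 4), (nat_lit 8), (nat_lit 4), (nat_lit 5), (nat_lit 7)], (nat_lit 47), (nat_lit 3), (nat_lit 0), (nat_lit 3)⟩) (BT.node (nat_lit 42) (BT.leaf ⟨[(nat_lit 4), (nat_lit 1), (nat_lit 4), (nat_lit 1)], (nat_lit 8), (nat_lit 1), (nat_lit 0), (nat_lit 3)⟩) (BT.leaf ⟨[(nat_lit 7), (nat_lit 4), (nat_lit 8), (nat_lit 5), (nat_lit 4)], (nat_lit 18), (nat_lit 0), (nat_lit 0), (nat_lit 3)⟩))))))) (BT.node (nat_lit 64) (BT.node (nat_lit 53) (BT.node (nat_lit 48) (BT.node (nat_lit 45) (BT.node (nat_lit 44) (BT.leaf ⟨[(nat_lit 3), (nat_lit 2), (nat_lit 3), (nat_lit 2)], (nat_lit 9), (nat_lit 1), (nat_lit 0), (nat_lit 3)⟩) (BT.leaf ⟨[(nat_lit 4), (nat_lit 8), (nat_lit 5), (nat_lit 4), (nat_lit 7)], (nat_lit 18), (nat_lit 1), (nat_lit 0), (nat_lit 3)⟩))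 (BT.node (nat_lit 46) (BT.leaf ⟨[(nat_lit 7), (nat_lit 4), (nat_lit 8), (nat_lit 4), (nat_lit 5)], (nat_lit 47), (nat_lit 2), (nat_lit 0), (nat_lit 3)⟩) (BT.node (nat_lit 47) (BT.leaf ⟨[(nat_lit 8), (nat_lit 4), (nat_lit 5), (nat_lit 7), (nat_lit 4)], (nat_lit 47), (nat_lit 4), (nat_lit 0), (nat_lit 3)⟩) (BT.leaf ⟨[(nat_lit 2), (nat_lit 7), (nat_lit 1), (nat_lit 8), (nat_lit 4)], (nat_lit 15), (nat_lit 4), (nat_lit 0), (nat_lit 3)⟩)))) (BT.node (nat_lit 50) (BT.node (nat_lit 49) (BT.leaf ⟨[(nat_lit 4), (nat_lit 1), (nat_lit 6), (nat_lit 4), (nat_lit 6)], (nat_lit 14), (nat_lit 3), (nat_lit 0), (nat_lit 3)⟩) (BT.leaf ⟨[(nat_lit 6), (nat_lit 4), (nat_lit 6), (nat_lit 4), (nat_lit 1)], (nat_lit 14), (nat_lit 0), (nat_lit 0), (nat_lit 3)⟩)) (BT.node (nat_lit 51) (BT.leaf ⟨[(nat_lit 1), (nat_lit 4), (nat_lit 6), (nat_lit 4), (nat_lit 6)], (nat_lit 43), (nat_lit 0), (nat_lit 0), (nat_lit 3)⟩) (BT.node (nat_lit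 52) (BT.leaf ⟨[(nat_lit 1), (nat_lit 8), (nat_lit 2), (nat_lit 4), (nat_lit 7)], (nat_lit 44), (nat_lit 3), (nat_lit 0), (nat_lit 3)⟩) (BT.leaf ⟨[(nat_lit 6), (nat_lit 2), (nat_lit 6), (nat_lit 3), (nat_lit 2)], (nat_lit 12), (nat_lit 0), (nat_lit 0), (nat_lit 3)⟩))))) (BT.node (nat_lit 58) (BT.node (nat_lit 55) (BT.node (nat_lit 54) (BT.leaf ⟨[(nat_lit 2), (nat_lit 6), (nat_lit 2), (nat_lit 3), (nat_lit 6)], (nat_lit 41), (nat_lit 3), (nat_lit 0), (nat_lit 3)⟩) (BT.leaf ⟨[(nat_lit 7), (nat_lit 1), (nat_lit 8), (nat_lit 4), (nat_lit 2)], (nat_lit 15), (nat_lit 0), (nat_lit 0), (nat_lit 3)⟩)) (BT.node (nat_lit 56) (BT.leaf ⟨[(nat_lit 6), (nat_lit 3), (nat_lit 2), (nat_lit 6), (nat_lit 2)], (nat_lit 12), (nat_lit 2), (nat_lit 0), (nat_lit 3)⟩) (BT.node (nat_lit 57) (BT.leaf ⟨[(nat_lit 2), (nat_lit 6), (nat_lit 2), (nat_lit 6), (nat_lit 3)], (nat_lit 12), (nat_lit 4), (nat_lit 0), (nat_lit 3)⟩) (BT.leaf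 ⟨[(nat_lit 3), (nat_lit 6), (nat_lit 2), (nat_lit 6), (nat_lit 2)], (nat_lit 41), (nat_lit 1), (nat_lit 0), (nat_lit 3)⟩)))) (BT.node (nat_lit 61) (BT.node (nat_lit 59) (BT.leaf ⟨[(nat_lit 6), (nat_lit 4), (nat_lit 1), (nat_lit 6), (nat_lit 4)], (nat_lit 14), (nat_lit 2), (nat_lit 0), (nat_lit 3)⟩) (BT.node (nat_lit 60) (BT.leaf ⟨[(nat_lit 1), (nat_lit 6), (nat_lit 4), (nat_lit 6), (nat_lit 4)], (nat_lit 14), (nat_lit 4), (nat_lit 0), (nat_lit 3)⟩) (BT.leaf ⟨[(nat_lit 4), (nat_lit 6), (nat_lit 4), (nat_lit 6), (nat_lit 1)], (nat_lit 43), (nat_lit 1), (nat_lit 0), (nat_lit 3)⟩))) (BT.node (nat_lit 62) (BT.leaf ⟨[(nat_lit 5), (nat_lit 2), (nat_lit 1), (nat_lit 2), (nat_lit 1)], (nat_lit 34), (nat_lit 0), (nat_lit 0), (nat_lit 3)⟩) (BT.node (nat_lit 63) (BT.leaf ⟨[(nat_lit 8), (nat_lit 5), (nat_lit 8)], (nat_lit 49), (nat_lit 2), (nat_lit 0), (nat_lit 3)⟩) (BT.leaf ⟨[(nat_lit 5), (nat_lit 4), (nat_lit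 3), (nat_lit 4), (nat_lit 3)], (nat_lit 35), (nat_lit 0), (nat_lit 0), (nat_lit 3)⟩)))))) (BT.node (nat_lit 75) (BT.node (nat_lit 69) (BT.node (nat_lit 66) (BT.node (nat_lit 65) (BT.leaf ⟨[(nat_lit 4), (nat_lit 5), (nat_lit 7), (nat_lit 4), (nat_lit 8)], (nat_lit 47), (nat_lit 0), (nat_lit 0), (nat_lit 3)⟩) (BT.leaf ⟨[(nat_lit 5), (nat_lit 7), (nat_lit 4), (nat_lit 8), (nat_lit 4)], (nat_lit 47), (nat_lit 1), (nat_lit 0), (nat_lit 3)⟩)) (BT.node (nat_lit 67) (BT.leaf ⟨[(nat_lit 1), (nat_lit 2), (nat_lit 5), (nat_lit 1), (nat_lit 2)], (nat_lit 5), (nat_lit 2), (nat_lit 0), (nat_lit 3)⟩) (BT.node (nat_lit 68) (BT.leaf ⟨[(nat_lit 1), (nat_lit 2), (nat_lit 1), (nat_lit 2), (nat_lit 5)], (nat_lit 5), (nat_lit 0), (nat_lit 0), (nat_lit 3)⟩) (BT.leaf ⟨[(nat_lit 4), (nat_lit 6), (nat_lit 1), (nat_lit 4), (nat_lit 6)], (nat_lit 43), (nat_lit 3), (nat_lit 0), (nat_lit 3)⟩)))) (BT.node (nat_lit 72) (BT.node (nat_lit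 70) (BT.leaf ⟨[(nat_lit 4), (nat_lit 7), (nat_lit 1), (nat_lit 8), (nat_lit 2)], (nat_lit 44), (nat_lit 1), (nat_lit 0), (nat_lit 3)⟩) (BT.node (nat_lit 71) (BT.leaf ⟨[(nat_lit 4), (nat_lit 3), (nat_lit 4), (nat_lit 5), (nat_lit 3)], (nat_lit 6), (nat_lit 1), (nat_lit 0), (nat_lit 3)⟩) (BT.leaf ⟨[(nat_lit 5), (nat_lit 8), (nat_lit 8)], (nat_lit 49), (nat_lit 0), (nat_lit 0), (nat_lit 3)⟩))) (BT.node (nat_lit 73) (BT.leaf ⟨[(nat_lit 2), (nat_lit 4), (nat_lit 7), (nat_lit 1), (nat_lit 8)], (nat_lit 44), (nat_lit 0), (nat_lit 0), (nat_lit 3)⟩) (BT.node (nat_lit 74) (BT.leaf ⟨[(nat_lit 8), (nat_lit 5), (nat_lit 4), (nat_lit 7), (nat_lit 4)], (nat_lit 18), (nat_lit 2), (nat_lit 0), (nat_lit 3)⟩) (BT.leaf ⟨[(nat_lit 8), (nat_lit 4), (nat_lit 2), (nat_lit 7), (nat_lit 1)], (nat_lit 15), (nat_lit 2), (nat_lit 0), (nat_lit 3)⟩))))) (BT.node (nat_lit 80) (BT.node (nat_lit 77) (BT.node (nat_lit 76) (BT.leaf ⟨[(nat_lit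 2), (nat_lit 1), (nat_lit 2), (nat_lit 5), (nat_lit 1)], (nat_lit 5), (nat_lit 1), (nat_lit 0), (nat_lit 3)⟩) (BT.leaf ⟨[(nat_lit 2), (nat_lit 5), (nat_lit 1), (nat_lit 2), (nat_lit 1)], (nat_lit 5), (nat_lit 3), (nat_lit 0), (nat_lit 3)⟩)) (BT.node (nat_lit 78) (BT.leaf ⟨[(nat_lit 8), (nat_lit 2), (nat_lit 4), (nat_lit 7), (nat_lit 1)], (nat_lit 44), (nat_lit 4), (nat_lit 0), (nat_lit 3)⟩) (BT.node (nat_lit 79) (BT.leaf ⟨[(nat_lit 8), (nat_lit 3), (nat_lit 4), (nat_lit 2), (nat_lit 1), (nat_lit 7), (nat_lit 3)], (nat_lit 17), (nat_lit 2), (nat_lit 0), (nat_lit 3)⟩) (BT.leaf ⟨[(nat_lit 3), (nat_lit 7), (nat_lit 3), (nat_lit 8), (nat_lit 1), (nat_lit 2), (nat_lit 4)], (nat_lit 46), (nat_lit 3), (nat_lit 0), (nat_lit 3)⟩)))) (BT.node (nat_lit 83) (BT.node (nat_lit 81) (BT.leaf ⟨[(nat_lit 3), (nat_lit 8), (nat_lit 3), (nat_lit 4), (nat_lit 2), (nat_lit 1), (nat_lit 7)], (nat_lit 17), (nat_lit 1), (nat_lit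 0), (nat_lit 3)⟩) (BT.node (nat_lit 82) (BT.leaf ⟨[(nat_lit 7), (nat_lit 3), (nat_lit 8), (nat_lit 1), (nat_lit 2), (nat_lit 4), (nat_lit 3)], (nat_lit 46), (nat_lit 4), (nat_lit 0), (nat_lit 3)⟩) (BT.leaf ⟨[(nat_lit 3), (nat_lit 4), (nat_lit 5), (nat_lit 3), (nat_lit 4)], (nat_lit 6), (nat_lit 2), (nat_lit 0), (nat_lit 3)⟩))) (BT.node (nat_lit 84) (BT.leaf ⟨[(nat_lit 3), (nat_lit 4), (nat_lit 3), (nat_lit 4), (nat_lit 5)], (nat_lit 6), (nat_lit 0), (nat_lit 0), (nat_lit 3)⟩) (BT.node (nat_lit 85) (BT.leaf ⟨[(nat_lit 3), (nat_lit 8), (nat_lit 1), (nat_lit 2), (nat_lit 4), (nat_lit 3), (nat_lit 7)], (nat_lit 46), (nat_lit 5), (nat_lit 0), (nat_lit 3)⟩) (BT.leaf ⟨[(nat_lit 6), (nat_lit 7), (nat_lit 6), (nat_lit 7), (nat_lit 6), (nat_lit 7), (nat_lit 6), (nat_lit 7)], (nat_lit 21), (nat_lit 0), (nat_lit 0), (nat_lit 3)⟩))))))))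
noncomputable def eD010_hcs : List CW := []
noncomputable def eD010_H (x j : Nat) : Bx (Nat → Nat → Nat) := mkH eD010_L eD010_pb.1 eD010_e.get (lmap CW.w eD010_hcs) (nat_lit 256) (nat_lit 257) (nat_lit 9) (nat_lit 512) (nat_lit 65536) (nat_lit 32767) x (eD010_rots.get j)
noncomputable def eD010_F (x b : Nat) : Bool := blkOK eD010_H eD010_ch (nat_lit 257) (nat_lit 512) (nat_lit 128) (nat_lit 8) (nat_lit 255) (nat_lit 22) (nat_lit 4194303) x b

theorem eD010_k0_0 : allFrom (eD010_F (nat_lit 0)) (nat_lit 0) (nat_lit 8) = true := by decide +kernel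
theorem eD010_k1_0 : allFrom (eD010_F (nat_lit 1)) (nat_lit 0) (nat_lit 8) = true := by decide +kernel
theorem eD010_k2_0 : allFrom (eD010_F (nat_lit 2)) (nat_lit 0) (nat_lit 8) = true := by decide +kernel
theorem eD010_k3_0 : allFrom (eD010_F (nat_lit 3)) (nat_lit 0) (nat_lit 8) = true := by decide +kernel
theorem eD010_k4_0 : allFrom (eD010_F (nat_lit 4)) (nat_lit 0) (nat_lit 8) = true := by decide +kernel
theorem eD010_k5_0 : allFrom (eD010_F (nat_lit 5)) (nat_lit 0) (nat_lit 8) = true := by decide +kernel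
theorem eD010_k6_0 : allFrom (eD010_F (nat_lit 6)) (nat_lit 0) (nat_lit 8) = true := by decide +kernel
theorem eD010_k7_0 : allFrom (eD010_F (nat_lit 7)) (nat_lit 0) (nat_lit 8) = true := by decide +kernel
theorem eD010_k8_0 : allFrom (eD010_F (nat_lit 8)) (nat_lit 0) (nat_lit 8) = true := by decide +kernel

theorem eD010_all : Cov eD010_F 8 9 0 := by
  have h := Cov.zero eD010_F 8
  have h := h.blk (b := 8) eD010_k0_0 rfl
  have h := h.next (y := 1) rfl rfl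
  have h := h.blk (b := 8) eD010_k1_0 rfl
  have h := h.next (y := 2) rfl rfl
  have h := h.blk (b := 8) eD010_k2_0 rfl
  have h := h.next (y := 3) rfl rfl
  have h := h.blk (b := 8) eD010_k3_0 rfl
  have h := h.next (y := 4) rfl rfl
  have h := h.blk (b := 8) eD010_k4_0 rfl
  have h := h.next (y := 5) rfl rfl
  have h := h.blk (b := 8) eD010_k5_0 rfl
  have h := h.next (y := 6) rfl rfl
  have h := h.blk (b := 8) eD010_k6_0 rfl
  have h := h.next (y := 7) rfl rfl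
  have h := h.blk (b := 8) eD010_k7_0 rfl
  have h := h.next (y := 8) rfl rfl
  have h := h.blk (b := 8) eD010_k8_0 rfl
  have h := h.next (y := 9) rfl rfl
  exact h

theorem eD010 : Enum RD010 [] (gensW 7) 256 :=
  ⟨eD010_cols, eD010_ch, eD010_L, eD010_H, eD010_pb.1, eD010_e.get, [(nat_lit 0), (nat_lit 1), (nat_lit 3), (nat_lit 5), (nat_lit 7), (nat_lit 9), (nat_lit 11), (nat_lit 13), (nat_lit 14)], (nat_lit 63), (nat_lit 7), eD010_rots, eD010_hcs,
    (nat_lit 257), (nat_lit 9), (nat_lit 512), (nat_lit 128), (nat_lit 65536), (nat_lit 32767), (nat_lit 8), (nat_lit 255), (nat_lit 22), (nat_lit 4194303), (nat_lit 2), (nat_lit 8),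
    fun _ _ => rfl, fun _ => rfl, fun _ _ => rfl, by decide +kernel, eD010_all.1⟩

theorem pD010 : TD010.Pres RD010 (gensW 7) := ⟨CT.ok_spec TD010_ok, lall_iff.1 TD010_rel, by decide +kernel,
  by decide +kernel, by decide +kernel, eD010.bound (ug_rels _) (bound_nil _)⟩

instance instTD010 : TD010.Grp := pD010.grp


end CF.Gb
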