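import Cfsg.Agent.Cod.Gen

/-! Cayley tables of `2^{1+4}_+` and some extensions. -/

set_option autoImplicit false
set_option maxRecDepth 1000000
set_option maxHeartbeats 0
set_option Elab.async false

namespace CF.Gb

open CF.Comp CF.Cod

noncomputable def RP : List (List Nat) := [[(nat_lit 1), (nat_lit 1)],
  [(nat_lit 3), (nat_lit 3)],
  [(nat_lit 5), (nat_lit 5)],
  [(nat_lit 7), (nat_lit 7)],
  [(nat_lit 9), (nat_lit 9)],
  [(nat_lit 1), (nat_lit 3), (nat_lit 1), (nat_lit 3), (nat_lit 10)],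
  [(nat_lit 5), (nat_lit 7), (nat_lit 5), (nat_lit 7), (nat_lit 10)],
  [(nat_lit 1), (nat_lit 5), (nat_lit 1), (nat_lit 5)],
  [(nat_lit 1), (nat_lit 7), (nat_lit 1), (nat_lit 7)],
  [(nat_lit 3), (nat_lit 5), (nat_lit 3), (nat_lit 5)],
  [(nat_lit 3), (nat_lit 7), (nat_lit 3), (nat_lit 7)]]
noncomputable def Rka5 : List (List Nat) := [[(nat_lit 11), (nat_lit 1), (nat_lit 12), (nat_lit 2)],
  [(nat_lit 11), (nat_lit 3), (nat_lit 12), (nat_lit 6), (nat_lit 4)],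
  [(nat_lit 11), (nat_lit 5), (nat_lit 12), (nat_lit 6)],
  [(nat_lit 11), (nat_lit 7), (nat_lit 12), (nat_lit 8), (nat_lit 2)]]
noncomputable def Rss5 : List (List Nat) := [[(nat_lit 11), (nat_lit 1), (nat_lit 12), (nat_lit 6)],
  [(nat_lit 11), (nat_lit 3), (nat_lit 12), (nat_lit 8), (nat_lit 2)],
  [(nat_lit 11), (nat_lit 5), (nat_lit 12), (nat_lit 2)],
  [(nat_lit 11), (nat_lit 7), (nat_lit 12), (nat_lit 6), (nat_lit 4)]]
noncomputable def Rs15 : List (List Nat) := [[(nat_lit 11), (nat_lit 1), (nat_lit 12), (nat_lit 8), (nat_lit 4)],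
  [(nat_lit 11), (nat_lit 3), (nat_lit 12), (nat_lit 10), (nat_lit 8), (nat_lit 2)],
  [(nat_lit 11), (nat_lit 5), (nat_lit 12), (nat_lit 6), (nat_lit 8), (nat_lit 4), (nat_lit 2)],
  [(nat_lit 11), (nat_lit 7), (nat_lit 12), (nat_lit 10), (nat_lit 8)]]
noncomputable def Rr45 : List (List Nat) := [[(nat_lit 11), (nat_lit 1), (nat_lit 12), (nat_lit 8), (nat_lit 4)],
  [(nat_lit 11), (nat_lit 3), (nat_lit 12), (nat_lit 10), (nat_lit 6), (nat_lit 4)],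
  [(nat_lit 11), (nat_lit 5), (nat_lit 12), (nat_lit 6), (nat_lit 8), (nat_lit 4), (nat_lit 2)],
  [(nat_lit 11), (nat_lit 7), (nat_lit 12), (nat_lit 10), (nat_lit 4)]]
noncomputable def Rro6 : List (List Nat) := [[(nat_lit 13), (nat_lit 1), (nat_lit 14), (nat_lit 6)],
  [(nat_lit 13), (nat_lit 3), (nat_lit 14), (nat_lit 8)],
  [(nat_lit 13), (nat_lit 5), (nat_lit 14), (nat_lit 2)],
  [(nat_lit 13), (nat_lit 7), (nat_lit 14), (nat_lit 4)]]
noncomputable def Rs26 : List (List Nat) := [[(nat_lit 13), (nat_lit 1), (nat_lit 14), (nat_lit 6), (nat_lit 8), (nat_lit 4), (nat_lit 2)],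
  [(nat_lit 13), (nat_lit 3), (nat_lit 14), (nat_lit 10), (nat_lit 4)],
  [(nat_lit 13), (nat_lit 5), (nat_lit 14), (nat_lit 8), (nat_lit 4)],
  [(nat_lit 13), (nat_lit 7), (nat_lit 14), (nat_lit 10), (nat_lit 6), (nat_lit 4)]]
noncomputable def Rs16 : List (List Nat) := [[(nat_lit 13), (nat_lit 1), (nat_lit 14), (nat_lit 8), (nat_lit 4)],
  [(nat_lit 13), (nat_lit 3), (nat_lit 14), (nat_lit 10), (nat_lit 8), (nat_lit 2)],
  [(nat_lit 13), (nat_lit 5), (nat_lit 14), (nat_lit 6), (nat_lit 8), (nat_lit 4), (nat_lit 2)],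
  [(nat_lit 13), (nat_lit 7), (nat_lit 14), (nat_lit 10), (nat_lit 8)]]
noncomputable def TP_c0 : BT (Bx Nat) := (BT.leaf (Bx.mk (nat_lit 0xffbbadf272bd2b6ce22e7c1ac599283a8a418820)))
noncomputable def TP_c1 : BT (Bx Nat) := (BT.leaf (Bx.mk (nat_lit 0xd727e97d8b8c1eeeeef6ad0d9c08a41b5283a801)))
noncomputable def TP_c3 : BT (Bx Nat) := (BT.leaf (Bx.mk (nat_lit 0xb52307baf5cff1e41fbcde8a41a553905ac580c2)))
noncomputable def TP_c5 : BT (Bx Nat) := (BT.leaf (Bx.mk (nat_lit 0x9e74c6f7caa2137f99c42c77c162b60c9f002ce3)))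
noncomputable def TP_c7 : BT (Bx Nat) := (BT.leaf (Bx.mk (nat_lit 0xc49bbe2d5f4d6c7378af80fa2d66e1a4e2073104)))
noncomputable def TP_c9 : BT (Bx Nat) := (BT.leaf (Bx.mk (nat_lit 0xf7d9a5f272450f6ce08e1c05dd9837aa8117b525)))
noncomputable def TP_w : BT (Bx Nat) := (BT.leaf (Bx.mk (nat_lit 0x57317531097305730953075307130513097105710951075107310531009700570095007500930073005300130091007100510031000900070005000300010000)))
noncomputable def TP_cols : List (BT (Bx Nat)) := [TP_c0, TP_c1, TP_c1, TP_c3, TP_c3, TP_c5, TP_c5, TP_c7, TP_c7, TP_c9, TP_c9]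
noncomputable def TP_ch (x j : Nat) : Bx Nat := chk TP_cols x j
noncomputable def TP_wc (_ j : Nat) : Bx Nat := TP_w.get j
noncomputable def TP : CT := ⟨(nat_lit 32), (nat_lit 5), (nat_lit 31), TP_ch, (nat_lit 16), (nat_lit 65535), TP_wc, (nat_lit 2046)⟩
theorem TP_ok : TP.ok = true := by decide +kernel
theorem TP_rel : lall TP.relOK RP = true := by decide +kernel
noncomputable def eP_c0 : BT (Bx Nat) := (BT.leaf (Bx.mk (nat_lit 0x0)))
noncomputable def eP_c1 : BT (Bx Nat) := (BT.leaf (Bx.mk (nat_lit 0x211b54ba695108f911355418a371265252a2230442887911e35392462d2bca96b52b641ec8d5919d2074e1b142e244c71d242ac84d908e097a4078210000)))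
noncomputable def eP_c2 : BT (Bx Nat) := (BT.leaf (Bx.mk (nat_lit 0x5157a2ab4b4a8a8c150a29ec561d6b3b1ab5c0c566d8fe309c591257ad6ecb1cb637251b182e2c4b2958f2ecaa5953d2854f3aca6d94cd283c11f8218000)))
noncomputable def eP_c3 : BT (Bx Nat) := (BT.leaf (Bx.mk (nat_lit 0x69945335666f4c6950ec8bcd57f4c5d995d313142b22c7060d30f663f4c2d446c8a4267382ee983e0b2e65b82be982e0a72643828e981e099c1238220000)))
noncomputable def eP_c4 : BT (Bx Nat) := (BT.leaf (Bx.mk (nat_lit 0x3599d3a6273acee649dd399a72d4f039cab3ad925f4e469c7e0bf271ace86491d388537b4e1f05be0b513634e17055e0a9524b4e0f04fe09bc1278228000)))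
noncomputable def eP_c5 : BT (Bx Nat) := (BT.leaf (Bx.mk (nat_lit 0x5a1fc841a836d0dea0cc83a9750d09ea09b42ba82320b9a1a4bb3a816d07ea04c823a80f82f705cb40fa80b82c7056c697a8078297050e09dc12b8230000)))
noncomputable def eP_p : BT (Bx Nat) := (BT.leaf (Bx.mk (nat_lit 0x45038988cd159a1b3056608cb11961b2456486c81590231c4638685150a1a1054208831506220c3418282150422083410441148221043208441040000000)))
noncomputable def eP_e : BT Nat := BT.leaf (nat_lit 0)
noncomputable def eP_cols : List (BT (Bx Nat)) := [eP_c0, eP_c1, eP_c2, eP_c3, eP_c4, eP_c5]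
noncomputable def eP_ch (x j : Nat) : Bx Nat := chunkG eP_cols (nat_lit 1) x j
noncomputable def eP_L (x : Nat) : Bx (Nat → Nat) := lookG eP_ch (nat_lit 8) (nat_lit 255) (nat_lit 15) (nat_lit 32767) x
noncomputable def eP_pc (_ j : Nat) : Bx Nat := eP_p.get j
noncomputable def eP_pb : Bx (Nat → Nat) := lookG eP_pc (nat_lit 8) (nat_lit 255) (nat_lit 15) (nat_lit 32767) (nat_lit 0)
noncomputable def eP_rots : BT CW := (BT.node (nat_lit 11) (BT.node (nat_lit 5) (BT.node (nat_lit 2) (BT.node (nat_lit 1) (BT.leaf ⟨[], (nat_lit 1000000), (nat_lit 0), (nat_lit 0), (nat_lit 0)⟩) (BT.leaf ⟨[], (nat_lit 1000000), (nat_lit 0), (nat_lit 0), (nat_lit 1)⟩)) (BT.node (nat_lit 3) (BT.leaf ⟨[], (nat_lit 1000000), (nat_lit 0), (nat_lit 0), (nat_lit 2)⟩) (BT.node (nat_lit 4) (BT.leaf ⟨[(nat_lit 1), (nat_lit 1)], (nat_lit 0), (nat_lit 0), (nat_lit 0), (nat_lit 3)⟩) (BT.leaf ⟨[(nat_lit 2), (nat_lit 2)], (nat_lit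 1), (nat_lit 0), (nat_lit 0), (nat_lit 3)⟩)))) (BT.node (nat_lit 8) (BT.node (nat_lit 6) (BT.leaf ⟨[(nat_lit 3), (nat_lit 3)], (nat_lit 2), (nat_lit 0), (nat_lit 0), (nat_lit 3)⟩) (BT.node (nat_lit 7) (BT.leaf ⟨[(nat_lit 4), (nat_lit 4)], (nat_lit 3), (nat_lit 0), (nat_lit 0), (nat_lit 3)⟩) (BT.leaf ⟨[(nat_lit 5), (nat_lit 5)], (nat_lit 4), (nat_lit 0), (nat_lit 0), (nat_lit 3)⟩))) (BT.node (nat_lit 9) (BT.leaf ⟨[(nat_lit 1), (nat_lit 3), (nat_lit 1), (nat_lit 3)], (nat_lit 7), (nat_lit 0), (nat_lit 0), (nat_lit 3)⟩) (BT.node (nat_lit 10) (BT.leaf ⟨[(nat_lit 1), (nat_lit 4), (nat_lit 1), (nat_lit 4)], (nat_lit 8), (nat_lit 0), (nat_lit 0), (nat_lit 3)⟩) (BT.leaf ⟨[(nat_lit 2), (nat_lit 3), (nat_lit 2), (nat_lit 3)], (nat_lit 9), (nat_lit 0), (nat_lit 0), (nat_lit 3)⟩))))) (BT.node (nat_lit 17) (BT.node (nat_lit 14) (BT.node (nat_lit 12) (BT.leaf ⟨[(nat_lit 2), (nat_lit 4), (nat_lit 2), (nat_lit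 4)], (nat_lit 10), (nat_lit 0), (nat_lit 0), (nat_lit 3)⟩) (BT.node (nat_lit 13) (BT.leaf ⟨[(nat_lit 5), (nat_lit 1), (nat_lit 2), (nat_lit 1), (nat_lit 2)], (nat_lit 5), (nat_lit 4), (nat_lit 0), (nat_lit 3)⟩) (BT.leaf ⟨[(nat_lit 1), (nat_lit 5), (nat_lit 2), (nat_lit 1), (nat_lit 2)], (nat_lit 21), (nat_lit 4), (nat_lit 0), (nat_lit 3)⟩))) (BT.node (nat_lit 15) (BT.leaf ⟨[(nat_lit 2), (nat_lit 1), (nat_lit 2), (nat_lit 1), (nat_lit 5)], (nat_lit 21), (nat_lit 1), (nat_lit 0), (nat_lit 3)⟩) (BT.node (nat_lit 16) (BT.leaf ⟨[(nat_lit 5), (nat_lit 3), (nat_lit 4), (nat_lit 3), (nat_lit 4)], (nat_lit 6), (nat_lit 4), (nat_lit 0), (nat_lit 3)⟩) (BT.leaf ⟨[(nat_lit 3), (nat_lit 5), (nat_lit 4), (nat_lit 3), (nat_lit 4)], (nat_lit 22), (nat_lit 4), (nat_lit 0), (nat_lit 3)⟩)))) (BT.node (nat_lit 20) (BT.node (nat_lit 18) (BT.leaf ⟨[(nat_lit 4), (nat_lit 3), (nat_lit 4), (nat_lit 3), (nat_lit 5)],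 (nat_lit 22), (nat_lit 1), (nat_lit 0), (nat_lit 3)⟩) (BT.node (nat_lit 19) (BT.leaf ⟨[(nat_lit 4), (nat_lit 1), (nat_lit 4), (nat_lit 1)], (nat_lit 8), (nat_lit 1), (nat_lit 0), (nat_lit 3)⟩) (BT.leaf ⟨[(nat_lit 3), (nat_lit 1), (nat_lit 3), (nat_lit 1)], (nat_lit 7), (nat_lit 1), (nat_lit 0), (nat_lit 3)⟩))) (BT.node (nat_lit 21) (BT.leaf ⟨[(nat_lit 3), (nat_lit 2), (nat_lit 3), (nat_lit 2)], (nat_lit 9), (nat_lit 1), (nat_lit 0), (nat_lit 3)⟩) (BT.node (nat_lit 22) (BT.leaf ⟨[(nat_lit 4), (nat_lit 2), (nat_lit 4), (nat_lit 2)], (nat_lit 10), (nat_lit 1), (nat_lit 0), (nat_lit 3)⟩) (BT.leaf ⟨[(nat_lit 5), (nat_lit 4), (nat_lit 3), (nat_lit 4), (nat_lit 3)], (nat_lit 22), (nat_lit 0), (nat_lit 0), (nat_lit 3)⟩))))))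
noncomputable def eP_hcs : List CW := []
noncomputable def eP_H (x j : Nat) : Bx (Nat → Nat → Nat) := mkH eP_L eP_pb.1 eP_e.get (lmap CW.w eP_hcs) (nat_lit 32) (nat_lit 33) (nat_lit 6) (nat_lit 64) (nat_lit 2048) (nat_lit 4095) x (eP_rots.get j)
noncomputable def eP_F (x b : Nat) : Bool := blkOK eP_H eP_ch (nat_lit 33) (nat_lit 64) (nat_lit 32) (nat_lit 8) (nat_lit 255) (nat_lit 15) (nat_lit 32767) x b

theorem eP_k0_0 : allFrom (eP_F (nat_lit 0)) (nat_lit 0) (nat_lit 4) = true := by decide +kernel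
theorem eP_k1_0 : allFrom (eP_F (nat_lit 1)) (nat_lit 0) (nat_lit 4) = true := by decide +kernel
theorem eP_k2_0 : allFrom (eP_F (nat_lit 2)) (nat_lit 0) (nat_lit 4) = true := by decide +kernel
theorem eP_k3_0 : allFrom (eP_F (nat_lit 3)) (nat_lit 0) (nat_lit 4) = true := by decide +kernel
theorem eP_k4_0 : allFrom (eP_F (nat_lit 4)) (nat_lit 0) (nat_lit 4) = true := by decide +kernel
theorem eP_k5_0 : allFrom (eP_F (nat_lit 5)) (nat_lit 0) (nat_lit 4) = true := by decide +kernel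

theorem eP_all : Cov eP_F 4 6 0 := by
  have h := Cov.zero eP_F 4
  have h := h.blk (b := 4) eP_k0_0 rfl
  have h := h.next (y := 1) rfl rfl
  have h := h.blk (b := 4) eP_k1_0 rfl
  have h := h.next (y := 2) rfl rfl
  have h := h.blk (b := 4) eP_k2_0 rfl
  have h := h.next (y := 3) rfl rfl
  have h := h.blk (b := 4) eP_k3_0 rfl
  have h := h.next (y := 4) rfl rfl
  have h := h.blk (b := 4) eP_k4_0 rfl
  have h := h.next (y := 5) rfl rfl
  have h := h.blk (b := 4) eP_k5_0 rfl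
  have h := h.next (y := 6) rfl rfl
  exact h

theorem eP : Enum RP [] (gensW 5) 32 :=
  ⟨eP_cols, eP_ch, eP_L, eP_H, eP_pb.1, eP_e.get, [(nat_lit 0), (nat_lit 1), (nat_lit 3), (nat_lit 5), (nat_lit 7), (nat_lit 9)], (nat_lit 31), (nat_lit 5), eP_rots, eP_hcs,
    (nat_lit 33), (nat_lit 6), (nat_lit 64), (nat_lit 32), (nat_lit 2048), (nat_lit 4095), (nat_lit 8), (nat_lit 255), (nat_lit 15), (nat_lit 32767), (nat_lit 1), (nat_lit 4),
    fun _ _ => rfl, fun _ => rfl, fun _ _ => rfl, by decide +kernel, eP_all.1⟩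

theorem pP : TP.Pres RP (gensW 5) := ⟨CT.ok_spec TP_ok, lall_iff.1 TP_rel, by decide +kernel,
  by decide +kernel, by decide +kernel, eP.bound (ug_rels _) (bound_nil _)⟩

instance instTP : TP.Grp := pP.grp

noncomputable def SA : List (List Nat) := [[(nat_lit 11), (nat_lit 11)]]
noncomputable def RA : List (List Nat) := lapp RP (lapp Rka5 SA)
noncomputable def TA_c0 : BT (Bx Nat) := (BT.leaf (Bx.mk (nat_lit 0xb3dfb9b73f26c6ed70eaadf4bf6eff8b2a649f89688eb8607de75a6dc4d25d455665844e3d034c2c62481ca1440c2040)))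
noncomputable def TA_c1 : BT (Bx Nat) := (BT.leaf (Bx.mk (nat_lit 0xebccfecbfb2bc70beef7bdf6d749b9e229648eda689ea82169c4de49f30b4503ce75b5d65541996021440cd2481ca001)))
noncomputable def TA_c3 : BT (Bx Nat) := (BT.leaf (Bx.mk (nat_lit 0xa37ba4971d29fb3ab9da1eacb7dbf0835e3f9a7efc8a3cab5944503ce5d565f61e20775c6da1440c929348134c2c0182)))
noncomputable def TA_c5 : BT (Bx Nat) := (BT.leaf (Bx.mk (nat_lit 0xcf9eacb7dfaad28a77fe6ba4971efc8b8d76872bf082b9e34d968c35d78a5082577c63841516dc0985560523d000b1c3)))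
noncomputable def TA_c7 : BT (Bx Nat) := (BT.leaf (Bx.mk (nat_lit 0xafb9b2fb88ba96fc23b7ca75da7ceafecc60bbdde1d3992861235b70b29f25558719e14f4037426995c151344038c204)))
noncomputable def TA_c9 : BT (Bx Nat) := (BT.leaf (Bx.mk (nat_lit 0xfbfb3aafccf2a349f6e7892e8f08bdee6877d6a831beda6579f31a2dc4d22141d665810e0d009d6c605754a0113cd245)))
noncomputable def TA_c11 : BT (Bx Nat) := (BT.leaf (Bx.mk (nat_lit 0x7de75c6da6585d65544d24503ce34c2ca2481c61440c2040ffef7cefae78df6d74cf2c70beeb6caeaa689e69648e2860)))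
noncomputable def TA_w : BT (Bx Nat) := (BT.leaf (Bx.mk (nat_lit 0xb5731b75310b9730b5730b9530b7530b7130b5130b9710b5710b9510b7510b7310b53100b9700b5700b9500b7500b9300b7300b5300b1300b9100b7100b5100b31000b9000b7000b5000b3000b10000b0573107531009730057300953007530071300513009710057100951007510073100531000970005700095000750009300073000530001300091000710005100031000090000700005000030000100000)))
noncomputable def TA_cols : List (BT (Bx Nat)) := [TA_c0, TA_c1, TA_c1, TA_c3, TA_c3, TA_c5, TA_c5, TA_c7, TA_c7, TA_c9, TA_c9, TA_c11, TA_c11]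
noncomputable def TA_ch (x j : Nat) : Bx Nat := chk TA_cols x j
noncomputable def TA_wc (_ j : Nat) : Bx Nat := TA_w.get j
noncomputable def TA : CT := ⟨(nat_lit 64), (nat_lit 6), (nat_lit 63), TA_ch, (nat_lit 20), (nat_lit 1048575), TA_wc, (nat_lit 8190)⟩
theorem TA_ok : TA.ok = true := by decide +kernel
theorem TA_rel : lall TA.relOK RA = true := by decide +kernel
noncomputable def eA_c0 : BT (Bx Nat) := (BT.leaf (Bx.mk (nat_lit 0x0)))
noncomputable def eA_c1 : BT (Bx Nat) := (BT.leaf (Bx.mk (nat_lit 0xe234408e1a630808f231bd488a1452a714c9263f90865b533208910640608d9a239808bd823e8c6c5c22c81875e5ae41471223a3886d45bb89846258f89438a63568861e51678855e2146884de212788b4e22b416a5c217982ddc62379669c2228148606207167e059e8089e02088089a02259080e26077a21a258589412289080831c20b8082a0209982364201982080000)))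
noncomputable def eA_c2 : BT (Bx Nat) := (BT.leaf (Bx.mk (nat_lit 0x102b621acd272769cbda2b978a85e29e74af2271a11c8d26c090a62429718afe12ac81cb9b3ad60af5e2b160ac1e2b279a59e29568a4de29240af962a261a7e428c08add872681aee029d58a96073a8b082270a89a2602b890a1e60b5982d1c2ab81aaa029171ca607288b051c28689c16268480a2e60a48a436029c80a6e428298265e91080a3e028e90a0660889820c0000)))
noncomputable def eA_c3 : BT (Bx Nat) := (BT.leaf (Bx.mk (nat_lit 0x2432e20cf5632329efda33890c71432690c69c7bc8349d23316d0b5c7ac81ebe279751ed9a31878cce60c060cd5a33480ca2430f3b4422eab78cdd703a90c36031d61efa031e90c2a278c6b42e2ea28ae9260bb90c2260b980c45c7b080cca031290c1627877ba1a2e968ae64c329982aa430398296032060c7e60a190c0a609b80c51c3139825643019823a6089982100000)))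
noncomputable def eA_c4 : BT (Bx Nat) := (BT.leaf (Bx.mk (nat_lit 0x63b543edd23b290e75f0ad5aa96439b50ec2439938efe439823f020aa460e8d4fbe90e516ab974282439170ef203a730e4203a98bcaa438e8a6b2438d50eede3b46d6cd838b80e7da3af8bc864389982f64388982ea4387982e260b680e31c38680e4e60b18bc564384982b8efab90e0e60a89829a29976be8a43829827a609c98269ef1690e0660929823e608a982140000)))
noncomputable def eA_c5 : BT (Bx Nat) := (BT.leaf (Bx.mk (nat_lit 0x1f6b8310d12e20638b1642e810ea2e3b85ac5c44085890e41a11064e83f3d85db6af790e53694610c98e3c15a45643d9103e04289103a2e2a25a75369c4106de43725832440a81079043e910262e211909d04264da950e361a0d48807310ce4405810490430910122e15090b64403982ae60a98102064239100a60a29827e280d1906244019825a609398242608b982180000)))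
noncomputable def eA_c6 : BT (Bx Nat) := (BT.leaf (Bx.mk (nat_lit 0x12b3a912a2449f292ae449c7c8e104c082c85c4bb8369574a234ca5c4aa9125a44957127a44939124a04a691242448f344f5f234292d660bf912362a2e792de049b9122d44b6792e64489982f9f1319122260bc8b292048a8123a44869121660b3982ca4484982c260af9120e60ad982b22c999829e44829828e2a1a98282609d9120660989825e609498246608c9821c0000)))
noncomputable def eA_p : BT (Bx Nat) := (BT.leaf (Bx.mk (nat_lit 0x8b838a0687c687448706870386c46683664466416604660265c265866546650464c664866444640663c663c563c363856384634663446343630262c66285628362466245624462066204620341c441c2418641464145414341064105410440c640c540c440c340c14086408540844083408220462045204420432042204100000000)))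
noncomputable def eA_e : BT Nat := BT.leaf (nat_lit 0)
noncomputable def eA_cols : List (BT (Bx Nat)) := [eA_c0, eA_c1, eA_c2, eA_c3, eA_c4, eA_c5, eA_c6]
noncomputable def eA_ch (x j : Nat) : Bx Nat := chunkG eA_cols (nat_lit 1) x j
noncomputable def eA_L (x : Nat) : Bx (Nat → Nat) := lookG eA_ch (nat_lit 8) (nat_lit 255) (nat_lit 18) (nat_lit 262143) x
noncomputable def eA_pc (_ j : Nat) : Bx Nat := eA_p.get j
noncomputable def eA_pb : Bx (Nat → Nat) := lookG eA_pc (nat_lit 8) (nat_lit 255) (nat_lit 16) (nat_lit 65535) (nat_lit 0)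
noncomputable def eA_rots : BT CW := (BT.node (nat_lit 22) (BT.node (nat_lit 11) (BT.node (nat_lit 5) (BT.node (nat_lit 2) (BT.node (nat_lit 1) (BT.leaf ⟨[], (nat_lit 1000000), (nat_lit 0), (nat_lit 0), (nat_lit 0)⟩) (BT.leaf ⟨[], (nat_lit 1000000), (nat_lit 0), (nat_lit 0), (nat_lit 1)⟩)) (BT.node (nat_lit 3) (BT.leaf ⟨[], (nat_lit 1000000), (nat_lit 0), (nat_lit 0), (nat_lit 2)⟩) (BT.node (nat_lit 4) (BT.leaf ⟨[(nat_lit 1), (nat_lit 1)], (nat_lit 0), (nat_lit 0), (nat_lit 0), (nat_lit 3)⟩) (BT.leaf ⟨[(nat_lit 2), (nat_lit 2)], (nat_lit 1), (nat_lit 0), (nat_lit 0), (nat_lit 3)⟩)))) (BT.node (nat_lit 8) (BT.node (nat_lit 6) (BT.leaf ⟨[(nat_lit 3), (nat_lit 3)], (nat_lit 2), (nat_lit 0), (nat_lit 0), (nat_lit 3)⟩) (BT.node (nat_lit 7) (BT.leaf ⟨[(nat_lit 4), (nat_lit 4)], (nat_lit 3), (nat_lit 0), (nat_lit 0), (nat_lit 3)⟩) (BT.leaf ⟨[(nat_lit 5), (nat_lit 5)], (nat_lit 4), (nat_lit 0), (nat_lit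 0), (nat_lit 3)⟩))) (BT.node (nat_lit 9) (BT.leaf ⟨[(nat_lit 6), (nat_lit 6)], (nat_lit 15), (nat_lit 0), (nat_lit 0), (nat_lit 3)⟩) (BT.node (nat_lit 10) (BT.leaf ⟨[(nat_lit 1), (nat_lit 3), (nat_lit 1), (nat_lit 3)], (nat_lit 7), (nat_lit 0), (nat_lit 0), (nat_lit 3)⟩) (BT.leaf ⟨[(nat_lit 1), (nat_lit 4), (nat_lit 1), (nat_lit 4)], (nat_lit 8), (nat_lit 0), (nat_lit 0), (nat_lit 3)⟩))))) (BT.node (nat_lit 16) (BT.node (nat_lit 13) (BT.node (nat_lit 12) (BT.leaf ⟨[(nat_lit 1), (nat_lit 6), (nat_lit 1), (nat_lit 6)], (nat_lit 11), (nat_lit 1), (nat_lit 0), (nat_lit 3)⟩) (BT.leaf ⟨[(nat_lit 2), (nat_lit 3), (nat_lit 2), (nat_lit 3)], (nat_lit 9), (nat_lit 0), (nat_lit 0), (nat_lit 3)⟩)) (BT.node (nat_lit 14) (BT.leaf ⟨[(nat_lit 2), (nat_lit 4), (nat_lit 2), (nat_lit 4)], (nat_lit 10), (nat_lit 0), (nat_lit 0), (nat_lit 3)⟩) (BT.node (nat_lit 15) (BT.leaf ⟨[(nat_lit 3), (nat_lit 6), (nat_lit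 3), (nat_lit 6)], (nat_lit 13), (nat_lit 1), (nat_lit 0), (nat_lit 3)⟩) (BT.leaf ⟨[(nat_lit 5), (nat_lit 1), (nat_lit 2), (nat_lit 1), (nat_lit 2)], (nat_lit 5), (nat_lit 4), (nat_lit 0), (nat_lit 3)⟩)))) (BT.node (nat_lit 19) (BT.node (nat_lit 17) (BT.leaf ⟨[(nat_lit 1), (nat_lit 5), (nat_lit 2), (nat_lit 1), (nat_lit 2)], (nat_lit 27), (nat_lit 4), (nat_lit 0), (nat_lit 3)⟩) (BT.node (nat_lit 18) (BT.leaf ⟨[(nat_lit 2), (nat_lit 1), (nat_lit 2), (nat_lit 1), (nat_lit 5)], (nat_lit 27), (nat_lit 1), (nat_lit 0), (nat_lit 3)⟩) (BT.leaf ⟨[(nat_lit 4), (nat_lit 6), (nat_lit 4), (nat_lit 1), (nat_lit 6)], (nat_lit 14), (nat_lit 1), (nat_lit 0), (nat_lit 3)⟩))) (BT.node (nat_lit 20) (BT.leaf ⟨[(nat_lit 6), (nat_lit 4), (nat_lit 6), (nat_lit 1), (nat_lit 4)], (nat_lit 36), (nat_lit 2), (nat_lit 0), (nat_lit 3)⟩) (BT.node (nat_lit 21) (BT.leaf ⟨[(nat_lit 4), (nat_lit 2), (nat_lit 4), (nat_lit 2)],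 (nat_lit 10), (nat_lit 1), (nat_lit 0), (nat_lit 3)⟩) (BT.leaf ⟨[(nat_lit 6), (nat_lit 3), (nat_lit 6), (nat_lit 3)], (nat_lit 13), (nat_lit 0), (nat_lit 0), (nat_lit 3)⟩)))))) (BT.node (nat_lit 33) (BT.node (nat_lit 27) (BT.node (nat_lit 24) (BT.node (nat_lit 23) (BT.leaf ⟨[(nat_lit 3), (nat_lit 2), (nat_lit 6), (nat_lit 2), (nat_lit 6)], (nat_lit 12), (nat_lit 3), (nat_lit 0), (nat_lit 3)⟩) (BT.leaf ⟨[(nat_lit 2), (nat_lit 6), (nat_lit 3), (nat_lit 2), (nat_lit 6)], (nat_lit 12), (nat_lit 1), (nat_lit 0), (nat_lit 3)⟩)) (BT.node (nat_lit 25) (BT.leaf ⟨[(nat_lit 6), (nat_lit 2), (nat_lit 6), (nat_lit 2), (nat_lit 3)], (nat_lit 34), (nat_lit 2), (nat_lit 0), (nat_lit 3)⟩) (BT.node (nat_lit 26) (BT.leaf ⟨[(nat_lit 3), (nat_lit 1), (nat_lit 3), (nat_lit 1)], (nat_lit 7), (nat_lit 1), (nat_lit 0), (nat_lit 3)⟩) (BT.leaf ⟨[(nat_lit 6), (nat_lit 1), (nat_lit 6), (nat_lit 1)], (nat_lit 11), (nat_lit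 0), (nat_lit 0), (nat_lit 3)⟩)))) (BT.node (nat_lit 30) (BT.node (nat_lit 28) (BT.leaf ⟨[(nat_lit 5), (nat_lit 3), (nat_lit 4), (nat_lit 3), (nat_lit 4)], (nat_lit 6), (nat_lit 4), (nat_lit 0), (nat_lit 3)⟩) (BT.node (nat_lit 29) (BT.leaf ⟨[(nat_lit 3), (nat_lit 5), (nat_lit 4), (nat_lit 3), (nat_lit 4)], (nat_lit 28), (nat_lit 4), (nat_lit 0), (nat_lit 3)⟩) (BT.leaf ⟨[(nat_lit 4), (nat_lit 3), (nat_lit 4), (nat_lit 3), (nat_lit 5)], (nat_lit 28), (nat_lit 1), (nat_lit 0), (nat_lit 3)⟩))) (BT.node (nat_lit 31) (BT.leaf ⟨[(nat_lit 4), (nat_lit 1), (nat_lit 4), (nat_lit 1)], (nat_lit 8), (nat_lit 1), (nat_lit 0), (nat_lit 3)⟩) (BT.node (nat_lit 32) (BT.leaf ⟨[(nat_lit 3), (nat_lit 2), (nat_lit 3), (nat_lit 2)], (nat_lit 9), (nat_lit 1), (nat_lit 0), (nat_lit 3)⟩) (BT.leaf ⟨[(nat_lit 4), (nat_lit 1), (nat_lit 6), (nat_lit 4), (nat_lit 6)], (nat_lit 14), (nat_lit 3), (nat_lit 0), (nat_lit 3)⟩)))))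 (BT.node (nat_lit 39) (BT.node (nat_lit 36) (BT.node (nat_lit 34) (BT.leaf ⟨[(nat_lit 6), (nat_lit 4), (nat_lit 6), (nat_lit 4), (nat_lit 1)], (nat_lit 14), (nat_lit 0), (nat_lit 0), (nat_lit 3)⟩) (BT.node (nat_lit 35) (BT.leaf ⟨[(nat_lit 1), (nat_lit 4), (nat_lit 6), (nat_lit 4), (nat_lit 6)], (nat_lit 36), (nat_lit 0), (nat_lit 0), (nat_lit 3)⟩) (BT.leaf ⟨[(nat_lit 6), (nat_lit 2), (nat_lit 6), (nat_lit 3), (nat_lit 2)], (nat_lit 12), (nat_lit 0), (nat_lit 0), (nat_lit 3)⟩))) (BT.node (nat_lit 37) (BT.leaf ⟨[(nat_lit 2), (nat_lit 6), (nat_lit 2), (nat_lit 3), (nat_lit 6)], (nat_lit 34), (nat_lit 3), (nat_lit 0), (nat_lit 3)⟩) (BT.node (nat_lit 38) (BT.leaf ⟨[(nat_lit 6), (nat_lit 3), (nat_lit 2), (nat_lit 6), (nat_lit 2)], (nat_lit 12), (nat_lit 2), (nat_lit 0), (nat_lit 3)⟩) (BT.leaf ⟨[(nat_lit 2), (nat_lit 6), (nat_lit 2), (nat_lit 6), (nat_lit 3)], (nat_lit 12), (nat_lit 4), (nat_lit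 0), (nat_lit 3)⟩)))) (BT.node (nat_lit 42) (BT.node (nat_lit 40) (BT.leaf ⟨[(nat_lit 3), (nat_lit 6), (nat_lit 2), (nat_lit 6), (nat_lit 2)], (nat_lit 34), (nat_lit 1), (nat_lit 0), (nat_lit 3)⟩) (BT.node (nat_lit 41) (BT.leaf ⟨[(nat_lit 6), (nat_lit 4), (nat_lit 1), (nat_lit 6), (nat_lit 4)], (nat_lit 14), (nat_lit 2), (nat_lit 0), (nat_lit 3)⟩) (BT.leaf ⟨[(nat_lit 1), (nat_lit 6), (nat_lit 4), (nat_lit 6), (nat_lit 4)], (nat_lit 14), (nat_lit 4), (nat_lit 0), (nat_lit 3)⟩))) (BT.node (nat_lit 43) (BT.leaf ⟨[(nat_lit 4), (nat_lit 6), (nat_lit 4), (nat_lit 6), (nat_lit 1)], (nat_lit 36), (nat_lit 1), (nat_lit 0), (nat_lit 3)⟩) (BT.node (nat_lit 44) (BT.leaf ⟨[(nat_lit 5), (nat_lit 2), (nat_lit 1), (nat_lit 2), (nat_lit 1)], (nat_lit 27), (nat_lit 0), (nat_lit 0), (nat_lit 3)⟩) (BT.leaf ⟨[(nat_lit 5), (nat_lit 4), (nat_lit 3), (nat_lit 4), (nat_lit 3)], (nat_lit 28), (nat_lit 0), (nat_lit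 0), (nat_lit 3)⟩)))))))
noncomputable def eA_hcs : List CW := []
noncomputable def eA_H (x j : Nat) : Bx (Nat → Nat → Nat) := mkH eA_L eA_pb.1 eA_e.get (lmap CW.w eA_hcs) (nat_lit 64) (nat_lit 65) (nat_lit 7) (nat_lit 128) (nat_lit 8192) (nat_lit 8191) x (eA_rots.get j)
noncomputable def eA_F (x b : Nat) : Bool := blkOK eA_H eA_ch (nat_lit 65) (nat_lit 128) (nat_lit 64) (nat_lit 8) (nat_lit 255) (nat_lit 18) (nat_lit 262143) x b

theorem eA_k0_0 : allFrom (eA_F (nat_lit 0)) (nat_lit 0) (nat_lit 4) = true := by decide +kernel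
theorem eA_k1_0 : allFrom (eA_F (nat_lit 1)) (nat_lit 0) (nat_lit 4) = true := by decide +kernel
theorem eA_k2_0 : allFrom (eA_F (nat_lit 2)) (nat_lit 0) (nat_lit 4) = true := by decide +kernel
theorem eA_k3_0 : allFrom (eA_F (nat_lit 3)) (nat_lit 0) (nat_lit 4) = true := by decide +kernel
theorem eA_k4_0 : allFrom (eA_F (nat_lit 4)) (nat_lit 0) (nat_lit 4) = true := by decide +kernel
theorem eA_k5_0 : allFrom (eA_F (nat_lit 5)) (nat_lit 0) (nat_lit 4) = true := by decide +kernel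
theorem eA_k6_0 : allFrom (eA_F (nat_lit 6)) (nat_lit 0) (nat_lit 4) = true := by decide +kernel

theorem eA_all : Cov eA_F 4 7 0 := by
  have h := Cov.zero eA_F 4
  have h := h.blk (b := 4) eA_k0_0 rfl
  have h := h.next (y := 1) rfl rfl
  have h := h.blk (b := 4) eA_k1_0 rfl
  have h := h.next (y := 2) rfl rfl
  have h := h.blk (b := 4) eA_k2_0 rfl
  have h := h.next (y := 3) rfl rfl
  have h := h.blk (b := 4) eA_k3_0 rfl
  have h := h.next (y := 4) rfl rfl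
  have h := h.blk (b := 4) eA_k4_0 rfl
  have h := h.next (y := 5) rfl rfl
  have h := h.blk (b := 4) eA_k5_0 rfl
  have h := h.next (y := 6) rfl rfl
  have h := h.blk (b := 4) eA_k6_0 rfl
  have h := h.next (y := 7) rfl rfl
  exact h

theorem eA : Enum RA [] (gensW 6) 64 :=
  ⟨eA_cols, eA_ch, eA_L, eA_H, eA_pb.1, eA_e.get, [(nat_lit 0), (nat_lit 1), (nat_lit 3), (nat_lit 5), (nat_lit 7), (nat_lit 9), (nat_lit 11)], (nat_lit 63), (nat_lit 6), eA_rots, eA_hcs,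
    (nat_lit 65), (nat_lit 7), (nat_lit 128), (nat_lit 64), (nat_lit 8192), (nat_lit 8191), (nat_lit 8), (nat_lit 255), (nat_lit 18), (nat_lit 262143), (nat_lit 1), (nat_lit 4),
    fun _ _ => rfl, fun _ => rfl, fun _ _ => rfl, by decide +kernel, eA_all.1⟩

theorem pA : TA.Pres RA (gensW 6) := ⟨CT.ok_spec TA_ok, lall_iff.1 TA_rel, by decide +kernel,
  by decide +kernel, by decide +kernel, eA.bound (ug_rels _) (bound_nil _)⟩

instance instTA : TA.Grp := pA.grp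

noncomputable def SG : List (List Nat) := [[(nat_lit 11), (nat_lit 11)]]
noncomputable def RG : List (List Nat) := lapp RP (lapp Rss5 SG)
noncomputable def TG_c0 : BT (Bx Nat) := (BT.leaf (Bx.mk (nat_lit 0xb3dfbcc7ae6eb66d6acf0ef2a78dff934be29f696b8688e07de75a6dc4d25d455665844e3d034c2c62481ca1440c2040)))
noncomputable def TG_c1 : BT (Bx Nat) := (BT.leaf (Bx.mk (nat_lit 0xcf9eacb7dfaad28a77fe6ba4971efc8b8d76872bf082b9e369c4de49f30b4503ce75b5d65541996021440cd2481ca001)))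
noncomputable def TG_c3 : BT (Bx Nat) := (BT.leaf (Bx.mk (nat_lit 0xafb9b2fb88ba96fc23b7ca75da7ceafecc60bbdde1d399285944503ce5d565f61e20775c6da1440c929348134c2c0182)))
noncomputable def TG_c5 : BT (Bx Nat) := (BT.leaf (Bx.mk (nat_lit 0xebccfecbfb2bc70beef7bdf6d749b9e229648eda689ea8214d968c35d78a5082577c63841516dc0985560523d000b1c3)))
noncomputable def TG_c7 : BT (Bx Nat) := (BT.leaf (Bx.mk (nat_lit 0xa37ba4971d29fb3ab9da1eacb7dbf0835e3f9a7efc8a3cab61235b70b29f25558719e14f4037426995c151344038c204)))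
noncomputable def TG_c9 : BT (Bx Nat) := (BT.leaf (Bx.mk (nat_lit 0xfbfb3aafccf2a349f6e7892e8f08bdee6877d6a831beda6579f31a2dc4d22141d665810e0d009d6c605754a0113cd245)))
noncomputable def TG_c11 : BT (Bx Nat) := (BT.leaf (Bx.mk (nat_lit 0x7de75c6da6585d65544d24503ce34c2ca2481c61440c2040ffef7cefae78df6d74cf2c70beeb6caeaa689e69648e2860)))
noncomputable def TG_w : BT (Bx Nat) := (BT.leaf (Bx.mk (nat_lit 0xb5731b75310b9730b5730b9530b7530b7130b5130b9710b5710b9510b7510b7310b53100b9700b5700b9500b7500b9300b7300b5300b1300b9100b7100b5100b31000b9000b7000b5000b3000b10000b0573107531009730057300953007530071300513009710057100951007510073100531000970005700095000750009300073000530001300091000710005100031000090000700005000030000100000)))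
noncomputable def TG_cols : List (BT (Bx Nat)) := [TG_c0, TG_c1, TG_c1, TG_c3, TG_c3, TG_c5, TG_c5, TG_c7, TG_c7, TG_c9, TG_c9, TG_c11, TG_c11]
noncomputable def TG_ch (x j : Nat) : Bx Nat := chk TG_cols x j
noncomputable def TG_wc (_ j : Nat) : Bx Nat := TG_w.get j
noncomputable def TG : CT := ⟨(nat_lit 64), (nat_lit 6), (nat_lit 63), TG_ch, (nat_lit 20), (nat_lit 1048575), TG_wc, (nat_lit 8190)⟩
theorem TG_ok : TG.ok = true := by decide +kernel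
theorem TG_rel : lall TG.relOK RG = true := by decide +kernel
noncomputable def eG_c0 : BT (Bx Nat) := (BT.leaf (Bx.mk (nat_lit 0x0)))
noncomputable def eG_c1 : BT (Bx Nat) := (BT.leaf (Bx.mk (nat_lit 0x2422e208f5622329efda238488a1452a8149dc7bc90865b3ad488c5c7ac81ebe279751ed5a218788ce60c0608d9a23441471223a3886d45bb788e6258f8943a021d61ef9e51678856278c6884de2128b290e22b416a60211982ddc7b0808c9c2228148627877167e059e8b26a02088089a02259080e02207a21a258589412289080851c20b8082a0209982364201982080000)))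
noncomputable def eG_c2 : BT (Bx Nat) := (BT.leaf (Bx.mk (nat_lit 0xa2b641ae522b290a75f12d78a85e29e38afe271a50ac0c6c090a62072460a8d46be90a51673784482429170af202a779a59e29568a4de2928a6b162a261a7de2b46d4cd872681aede2af58a96073a982f6270a89a2602b890a1e60b580a31c2ab81aaa60b171ca60728982b9c28689c16268480a2e29978a436029c80a6e428298265e91080a3e028e90a0660889820c0000)))
noncomputable def eG_c3 : BT (Bx Nat) := (BT.leaf (Bx.mk (nat_lit 0xe33440ce1a63080cf231bd90c71432690c69263f72ec963246d6cd064060cd5a33780cbd833e8c6c5c32c81875eaae80ca2430f3ae422f2b898456aba90c358bb668c62031e90c29e3146ae2e2f2278cb660bb90c2260b970c5dc6237aa66031290c1606207bc1a2f1680c9cc329982aa430398296260760c7e60a190c0a609b80c31c3139825643019823a6089982100000)))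
noncomputable def eG_c4 : BT (Bx Nat) := (BT.leaf (Bx.mk (nat_lit 0x103b5240cd2da7736bda3b75b696439b1368e439974af243984c102439718efe12ac7b6b9b42d68ef5c3b160ec1e3b230e4203a98beaa438e40efa438d50eee438c08ee5838b80e7de39d8be864389830824388982ea4387982e260b6982d1c38680e4de3918be56438483050f02b90e0e60a89829a60a46c08a43829827a609c98269ef9690e0660929823e608a982140000)))
noncomputable def eG_c5 : BT (Bx Nat) := (BT.leaf (Bx.mk (nat_lit 0x1f638310d12820620b1642e810ea2ebb85a91c440858c5241a39064eebf3da5df62f790dd3614710c9883c25845643d9103e04289103a2eaa25875369c4106de4395da32440a81079043e910262ea11909d04264da954eb6420d56e87310ce4405810490430910122e95190b64403982ae60a98102144239100a60a29827e280d5106244019825a609398242608b982180000)))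
noncomputable def eG_c6 : BT (Bx Nat) := (BT.leaf (Bx.mk (nat_lit 0x12b3a912a2449f292ae449c7c8e104c083895c4bb82c84d4a95cc89c4aa9125a44957127a44939124a04a691242448f342f5f234292da60bf912362a2e792e6049b9122d44b5792de4489982f9f0b19122260bc8b492048e8122a44869121660b3982ca4484982c260af9120e60ad982b22d1a9829e44829828e2a1998282609d9120660989825e609498246608c9821c0000)))
noncomputable def eG_p : BT (Bx Nat) := (BT.leaf (Bx.mk (nat_lit 0x8b818a0687c687428706870386c46683664466416604660265c465866546650264c664866442640663c663c563c363856384634663446343630462c66285628362466245624462066204620341c441c2418641464145414341064105410440c640c540c440c340c14086408540844083408220462045204420432042204100000000)))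
noncomputable def eG_e : BT Nat := BT.leaf (nat_lit 0)
noncomputable def eG_cols : List (BT (Bx Nat)) := [eG_c0, eG_c1, eG_c2, eG_c3, eG_c4, eG_c5, eG_c6]
noncomputable def eG_ch (x j : Nat) : Bx Nat := chunkG eG_cols (nat_lit 1) x j
noncomputable def eG_L (x : Nat) : Bx (Nat → Nat) := lookG eG_ch (nat_lit 8) (nat_lit 255) (nat_lit 18) (nat_lit 262143) x
noncomputable def eG_pc (_ j : Nat) : Bx Nat := eG_p.get j
noncomputable def eG_pb : Bx (Nat → Nat) := lookG eG_pc (nat_lit 8) (nat_lit 255) (nat_lit 16) (nat_lit 65535) (nat_lit 0)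
noncomputable def eG_rots : BT CW := (BT.node (nat_lit 22) (BT.node (nat_lit 11) (BT.node (nat_lit 5) (BT.node (nat_lit 2) (BT.node (nat_lit 1) (BT.leaf ⟨[], (nat_lit 1000000), (nat_lit 0), (nat_lit 0), (nat_lit 0)⟩) (BT.leaf ⟨[], (nat_lit 1000000), (nat_lit 0), (nat_lit 0), (nat_lit 1)⟩)) (BT.node (nat_lit 3) (BT.leaf ⟨[], (nat_lit 1000000), (nat_lit 0), (nat_lit 0), (nat_lit 2)⟩) (BT.node (nat_lit 4) (BT.leaf ⟨[(nat_lit 1), (nat_lit 1)], (nat_lit 0), (nat_lit 0), (nat_lit 0), (nat_lit 3)⟩) (BT.leaf ⟨[(nat_lit 2), (nat_lit 2)], (nat_lit 1), (nat_lit 0), (nat_lit 0), (nat_lit 3)⟩)))) (BT.node (nat_lit 8) (BT.node (nat_lit 6) (BT.leaf ⟨[(nat_lit 3), (nat_lit 3)], (nat_lit 2), (nat_lit 0), (nat_lit 0), (nat_lit 3)⟩) (BT.node (nat_lit 7) (BT.leaf ⟨[(nat_lit 4), (nat_lit 4)], (nat_lit 3), (nat_lit 0), (nat_lit 0), (nat_lit 3)⟩) (BT.leaf ⟨[(nat_lit 5), (nat_lit 5)], (nat_lit 4), (nat_lit 0), (nat_lit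 0), (nat_lit 3)⟩))) (BT.node (nat_lit 9) (BT.leaf ⟨[(nat_lit 6), (nat_lit 6)], (nat_lit 15), (nat_lit 0), (nat_lit 0), (nat_lit 3)⟩) (BT.node (nat_lit 10) (BT.leaf ⟨[(nat_lit 1), (nat_lit 3), (nat_lit 1), (nat_lit 3)], (nat_lit 7), (nat_lit 0), (nat_lit 0), (nat_lit 3)⟩) (BT.leaf ⟨[(nat_lit 1), (nat_lit 4), (nat_lit 1), (nat_lit 4)], (nat_lit 8), (nat_lit 0), (nat_lit 0), (nat_lit 3)⟩))))) (BT.node (nat_lit 16) (BT.node (nat_lit 13) (BT.node (nat_lit 12) (BT.leaf ⟨[(nat_lit 3), (nat_lit 6), (nat_lit 1), (nat_lit 6)], (nat_lit 11), (nat_lit 3), (nat_lit 0), (nat_lit 3)⟩) (BT.leaf ⟨[(nat_lit 2), (nat_lit 3), (nat_lit 2), (nat_lit 3)], (nat_lit 9), (nat_lit 0), (nat_lit 0), (nat_lit 3)⟩)) (BT.node (nat_lit 14) (BT.leaf ⟨[(nat_lit 2), (nat_lit 4), (nat_lit 2), (nat_lit 4)], (nat_lit 10), (nat_lit 0), (nat_lit 0), (nat_lit 3)⟩) (BT.node (nat_lit 15) (BT.leaf ⟨[(nat_lit 1), (nat_lit 6), (nat_lit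 3), (nat_lit 6)], (nat_lit 11), (nat_lit 1), (nat_lit 0), (nat_lit 3)⟩) (BT.leaf ⟨[(nat_lit 5), (nat_lit 1), (nat_lit 2), (nat_lit 1), (nat_lit 2)], (nat_lit 5), (nat_lit 4), (nat_lit 0), (nat_lit 3)⟩)))) (BT.node (nat_lit 19) (BT.node (nat_lit 17) (BT.leaf ⟨[(nat_lit 1), (nat_lit 5), (nat_lit 2), (nat_lit 1), (nat_lit 2)], (nat_lit 27), (nat_lit 4), (nat_lit 0), (nat_lit 3)⟩) (BT.node (nat_lit 18) (BT.leaf ⟨[(nat_lit 2), (nat_lit 1), (nat_lit 2), (nat_lit 1), (nat_lit 5)], (nat_lit 27), (nat_lit 1), (nat_lit 0), (nat_lit 3)⟩) (BT.leaf ⟨[(nat_lit 2), (nat_lit 6), (nat_lit 4), (nat_lit 1), (nat_lit 6)], (nat_lit 12), (nat_lit 1), (nat_lit 0), (nat_lit 3)⟩))) (BT.node (nat_lit 20) (BT.leaf ⟨[(nat_lit 6), (nat_lit 2), (nat_lit 6), (nat_lit 1), (nat_lit 4)], (nat_lit 34), (nat_lit 2), (nat_lit 0), (nat_lit 3)⟩) (BT.node (nat_lit 21) (BT.leaf ⟨[(nat_lit 3), (nat_lit 2), (nat_lit 3), (nat_lit 2)],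 (nat_lit 9), (nat_lit 1), (nat_lit 0), (nat_lit 3)⟩) (BT.leaf ⟨[(nat_lit 6), (nat_lit 3), (nat_lit 6), (nat_lit 1)], (nat_lit 11), (nat_lit 2), (nat_lit 0), (nat_lit 3)⟩)))))) (BT.node (nat_lit 33) (BT.node (nat_lit 27) (BT.node (nat_lit 24) (BT.node (nat_lit 23) (BT.leaf ⟨[(nat_lit 3), (nat_lit 1), (nat_lit 3), (nat_lit 1)], (nat_lit 7), (nat_lit 1), (nat_lit 0), (nat_lit 3)⟩) (BT.leaf ⟨[(nat_lit 4), (nat_lit 1), (nat_lit 6), (nat_lit 2), (nat_lit 6)], (nat_lit 12), (nat_lit 3), (nat_lit 0), (nat_lit 3)⟩)) (BT.node (nat_lit 25) (BT.leaf ⟨[(nat_lit 1), (nat_lit 4), (nat_lit 6), (nat_lit 2), (nat_lit 6)], (nat_lit 34), (nat_lit 0), (nat_lit 0), (nat_lit 3)⟩) (BT.node (nat_lit 26) (BT.leaf ⟨[(nat_lit 6), (nat_lit 4), (nat_lit 6), (nat_lit 2), (nat_lit 3)], (nat_lit 36), (nat_lit 2), (nat_lit 0), (nat_lit 3)⟩) (BT.leaf ⟨[(nat_lit 4), (nat_lit 2), (nat_lit 4), (nat_lit 2)], (nat_lit 10), (nat_lit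 1), (nat_lit 0), (nat_lit 3)⟩)))) (BT.node (nat_lit 30) (BT.node (nat_lit 28) (BT.leaf ⟨[(nat_lit 6), (nat_lit 1), (nat_lit 6), (nat_lit 3)], (nat_lit 11), (nat_lit 0), (nat_lit 0), (nat_lit 3)⟩) (BT.node (nat_lit 29) (BT.leaf ⟨[(nat_lit 5), (nat_lit 3), (nat_lit 4), (nat_lit 3), (nat_lit 4)], (nat_lit 6), (nat_lit 4), (nat_lit 0), (nat_lit 3)⟩) (BT.leaf ⟨[(nat_lit 3), (nat_lit 5), (nat_lit 4), (nat_lit 3), (nat_lit 4)], (nat_lit 28), (nat_lit 4), (nat_lit 0), (nat_lit 3)⟩))) (BT.node (nat_lit 31) (BT.leaf ⟨[(nat_lit 4), (nat_lit 3), (nat_lit 4), (nat_lit 3), (nat_lit 5)], (nat_lit 28), (nat_lit 1), (nat_lit 0), (nat_lit 3)⟩) (BT.node (nat_lit 32) (BT.leaf ⟨[(nat_lit 4), (nat_lit 1), (nat_lit 4), (nat_lit 1)], (nat_lit 8), (nat_lit 1), (nat_lit 0), (nat_lit 3)⟩) (BT.leaf ⟨[(nat_lit 6), (nat_lit 2), (nat_lit 6), (nat_lit 4), (nat_lit 1)], (nat_lit 12), (nat_lit 0), (nat_lit 0), (nat_lit 3)⟩)))))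 (BT.node (nat_lit 39) (BT.node (nat_lit 36) (BT.node (nat_lit 34) (BT.leaf ⟨[(nat_lit 2), (nat_lit 6), (nat_lit 1), (nat_lit 4), (nat_lit 6)], (nat_lit 34), (nat_lit 3), (nat_lit 0), (nat_lit 3)⟩) (BT.node (nat_lit 35) (BT.leaf ⟨[(nat_lit 3), (nat_lit 2), (nat_lit 6), (nat_lit 4), (nat_lit 6)], (nat_lit 14), (nat_lit 3), (nat_lit 0), (nat_lit 3)⟩) (BT.leaf ⟨[(nat_lit 6), (nat_lit 4), (nat_lit 6), (nat_lit 3), (nat_lit 2)], (nat_lit 14), (nat_lit 0), (nat_lit 0), (nat_lit 3)⟩))) (BT.node (nat_lit 37) (BT.leaf ⟨[(nat_lit 4), (nat_lit 6), (nat_lit 2), (nat_lit 3), (nat_lit 6)], (nat_lit 36), (nat_lit 3), (nat_lit 0), (nat_lit 3)⟩) (BT.node (nat_lit 38) (BT.leaf ⟨[(nat_lit 6), (nat_lit 4), (nat_lit 1), (nat_lit 6), (nat_lit 2)], (nat_lit 12), (nat_lit 2), (nat_lit 0), (nat_lit 3)⟩) (BT.leaf ⟨[(nat_lit 1), (nat_lit 6), (nat_lit 2), (nat_lit 6), (nat_lit 4)], (nat_lit 12), (nat_lit 4), (nat_lit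 0), (nat_lit 3)⟩)))) (BT.node (nat_lit 42) (BT.node (nat_lit 40) (BT.leaf ⟨[(nat_lit 4), (nat_lit 6), (nat_lit 2), (nat_lit 6), (nat_lit 1)], (nat_lit 34), (nat_lit 1), (nat_lit 0), (nat_lit 3)⟩) (BT.node (nat_lit 41) (BT.leaf ⟨[(nat_lit 6), (nat_lit 3), (nat_lit 2), (nat_lit 6), (nat_lit 4)], (nat_lit 14), (nat_lit 2), (nat_lit 0), (nat_lit 3)⟩) (BT.leaf ⟨[(nat_lit 2), (nat_lit 6), (nat_lit 4), (nat_lit 6), (nat_lit 3)], (nat_lit 14), (nat_lit 4), (nat_lit 0), (nat_lit 3)⟩))) (BT.node (nat_lit 43) (BT.leaf ⟨[(nat_lit 3), (nat_lit 6), (nat_lit 4), (nat_lit 6), (nat_lit 2)], (nat_lit 36), (nat_lit 1), (nat_lit 0), (nat_lit 3)⟩) (BT.node (nat_lit 44) (BT.leaf ⟨[(nat_lit 5), (nat_lit 2), (nat_lit 1), (nat_lit 2), (nat_lit 1)], (nat_lit 27), (nat_lit 0), (nat_lit 0), (nat_lit 3)⟩) (BT.leaf ⟨[(nat_lit 5), (nat_lit 4), (nat_lit 3), (nat_lit 4), (nat_lit 3)], (nat_lit 28), (nat_lit 0), (nat_lit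 0), (nat_lit 3)⟩)))))))
noncomputable def eG_hcs : List CW := []
noncomputable def eG_H (x j : Nat) : Bx (Nat → Nat → Nat) := mkH eG_L eG_pb.1 eG_e.get (lmap CW.w eG_hcs) (nat_lit 64) (nat_lit 65) (nat_lit 7) (nat_lit 128) (nat_lit 8192) (nat_lit 8191) x (eG_rots.get j)
noncomputable def eG_F (x b : Nat) : Bool := blkOK eG_H eG_ch (nat_lit 65) (nat_lit 128) (nat_lit 64) (nat_lit 8) (nat_lit 255) (nat_lit 18) (nat_lit 262143) x b

theorem eG_k0_0 : allFrom (eG_F (nat_lit 0)) (nat_lit 0) (nat_lit 4) = true := by decide +kernel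
theorem eG_k1_0 : allFrom (eG_F (nat_lit 1)) (nat_lit 0) (nat_lit 4) = true := by decide +kernel
theorem eG_k2_0 : allFrom (eG_F (nat_lit 2)) (nat_lit 0) (nat_lit 4) = true := by decide +kernel
theorem eG_k3_0 : allFrom (eG_F (nat_lit 3)) (nat_lit 0) (nat_lit 4) = true := by decide +kernel
theorem eG_k4_0 : allFrom (eG_F (nat_lit 4)) (nat_lit 0) (nat_lit 4) = true := by decide +kernel
theorem eG_k5_0 : allFrom (eG_F (nat_lit 5)) (nat_lit 0) (nat_lit 4) = true := by decide +kernel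
theorem eG_k6_0 : allFrom (eG_F (nat_lit 6)) (nat_lit 0) (nat_lit 4) = true := by decide +kernel

theorem eG_all : Cov eG_F 4 7 0 := by
  have h := Cov.zero eG_F 4
  have h := h.blk (b := 4) eG_k0_0 rfl
  have h := h.next (y := 1) rfl rfl
  have h := h.blk (b := 4) eG_k1_0 rfl
  have h := h.next (y := 2) rfl rfl
  have h := h.blk (b := 4) eG_k2_0 rfl
  have h := h.next (y := 3) rfl rfl
  have h := h.blk (b := 4) eG_k3_0 rfl
  have h := h.next (y := 4) rfl rfl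
  have h := h.blk (b := 4) eG_k4_0 rfl
  have h := h.next (y := 5) rfl rfl
  have h := h.blk (b := 4) eG_k5_0 rfl
  have h := h.next (y := 6) rfl rfl
  have h := h.blk (b := 4) eG_k6_0 rfl
  have h := h.next (y := 7) rfl rfl
  exact h

theorem eG : Enum RG [] (gensW 6) 64 :=
  ⟨eG_cols, eG_ch, eG_L, eG_H, eG_pb.1, eG_e.get, [(nat_lit 0), (nat_lit 1), (nat_lit 3), (nat_lit 5), (nat_lit 7), (nat_lit 9), (nat_lit 11)], (nat_lit 63), (nat_lit 6), eG_rots, eG_hcs,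
    (nat_lit 65), (nat_lit 7), (nat_lit 128), (nat_lit 64), (nat_lit 8192), (nat_lit 8191), (nat_lit 8), (nat_lit 255), (nat_lit 18), (nat_lit 262143), (nat_lit 1), (nat_lit 4),
    fun _ _ => rfl, fun _ => rfl, fun _ _ => rfl, by decide +kernel, eG_all.1⟩

theorem pG : TG.Pres RG (gensW 6) := ⟨CT.ok_spec TG_ok, lall_iff.1 TG_rel, by decide +kernel,
  by decide +kernel, by decide +kernel, eG.bound (ug_rels _) (bound_nil _)⟩

instance instTG : TG.Grp := pG.grp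

noncomputable def SZ : List (List Nat) := [[(nat_lit 11), (nat_lit 11), (nat_lit 11), (nat_lit 11)]]
noncomputable def RZ : List (List Nat) := lapp RP (lapp Rr45 SZ)
noncomputable def TZ_c0 : BT (Bx Nat) := (BT.node (nat_lit 1) (BT.leaf (Bx.mk (nat_lit 0xb96e6356ca53239cede45b576157952e05154add4fbce6b43717d0213e78e9a36709922e50a96326088e1e4068c16184880e282840608080))) (BT.leaf (Bx.mk (nat_lit 0xd9f7f7ce3ebceedb9baeae7c3df2d3e3bffc9d37e2cfdb2ebc3a31e0449d93f7cce3536096947b15564950de23d5cbe841a965a4d48c642d))))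
noncomputable def TZ_c1 : BT (Bx Nat) := (BT.node (nat_lit 1) (BT.leaf (Bx.mk (nat_lit 0x8f616b69b0a5a062f20ceab49bacb771eb0bb6a2a4a7524a8b31afb8347099e247c60b224078e3a6cb962a50319300828406344880e28001))) (BT.leaf (Bx.mk (nat_lit 0xe7e7d6cdbf7f6ae9a34f7ff9b764cbc7dfcc5e3af6c3cb7f0c1af3e343295ae5ea91be9f019a64eca1ccaed1dd073792c47e894c8a2e9ad6))))
noncomputable def TZ_c3 : BT (Bx Nat) := (BT.node (nat_lit 1) (BT.leaf (Bx.mk (nat_lit 0x7a91fb87299dbcb2aa3ae63119dc9ad29ca52d95d482eadbe9f421d62c508901e38b95327cc1e101ce9c36682840624513240468c1600302))) (BT.leaf (Bx.mk (nat_lit 0xd7ef372fde317acbbf863dbf34f5ed9f9eaffb38e0ddf7be1e9e72688b3a8b04b01bc2aa82ba85b32ea247797d292b25c66b22fb243613da))))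
noncomputable def TZ_c5 : BT (Bx Nat) := (BT.node (nat_lit 1) (BT.leaf (Bx.mk (nat_lit 0xb319bac87310ca7ac27c0a7516b6bb698bcb7712c4ab494c88f61cde2664d0c1a74f0a28204973e187040a44d9c0460a960248790002c383))) (BT.leaf (Bx.mk (nat_lit 0xf5f39fee5ff66be3c37eefbefbf6ebd3379f18b2e4c7b74e8cfab06196817aa56b9fa283393b2669a6c26b5a8babee22a446fa4a87742bb4))))
noncomputable def TZ_c7 : BT (Bx Nat) := (BT.node (nat_lit 1) (BT.leaf (Bx.mk (nat_lit 0x92da5d8a6816c2bafada252b15d28341cb262919da9b5a3aa86d27ba304869b382c51f1254b070c7828f200ce823464b81284c8801c30404))) (BT.leaf (Bx.mk (nat_lit 0xd1df764cbc7a69fdcf579ed87d6cdbf77f0c1d7c7fcd9fdfcc58f96baf21bcc6aa28bcbe9a2c076c2cae43193dc7b11fde4b3aaca46e17d4))))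
noncomputable def TZ_c9 : BT (Bx Nat) := (BT.node (nat_lit 1) (BT.leaf (Bx.mk (nat_lit 0x4e9a0c04a92ddaaf596ac468a7ce9729ab442821c27ef9dba66c95aa3c7c61a16709921050396326020e064011d36180972a280111e34485))) (BT.leaf (Bx.mk (nat_lit 0xfdff67ad7f39f2d1d33f6f3e326ec7c317df79b0f7ebab071dfb74e5bb72fde72e2ad46edacd88f1a2c462c24c85eba6cca74a8d052a1ebc))))
noncomputable def TZ_c11 : BT (Bx Nat) := (BT.node (nat_lit 1) (BT.leaf (Bx.mk (nat_lit 0x1fbc76e1bb466c17ac56a13a44680f9c3660b94264078c1620384060bd72d58ad529509d325488d121407cf1d386cd19305cb15284c91120))) (BT.leaf (Bx.mk (nat_lit 0xbf76dd9af569d19f365c98f161c17ef5db96ed59b15eb55a94e951a13ffcf7e3bf4e7c37ecd7a33e4c782fdcb762bd4a7427cc97223c4870))))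
noncomputable def TZ_c12 : BT (Bx Nat) := (BT.node (nat_lit 1) (BT.leaf (Bx.mk (nat_lit 0xde3f70eda3760cd62f50ad227408ce1f306ca17204c60f102c207000bf76dd9af569d19f365c98f161c17ef5db96ed59b15eb55a94e951a1))) (BT.leaf (Bx.mk (nat_lit 0xbd72d58ad529509d325488d121407cf1d386cd19305cb15284c91120fe7ff1efa77e1cf66fd1af267c18ee5fb16ea57a14e64f912e247810))))
noncomputable def TZ_w : BT (Bx Nat) := (BT.node (nat_lit 1) (BT.leaf (Bx.mk (nat_lit 0xc95000b95000c75000b75000c93000b93000c73000b73000c53000b53000c13000b13000c91000b91000c71000b71000c51000b51000c31000b310000c90000b90000c70000b70000c50000b50000c30000b30000c10000b100000c00000b005731007531000973000573000953000753000713000513000971000571000951000751000731000531000097000057000095000075000093000073000053000013000091000071000051000031000009000007000005000003000001000000))) (BT.leaf (Bx.mk (nat_lit 0xbb5731bb75310bb9730bb5730bb9530bb7530bb7130bb5130bb9710bb5710bb9510bb7510bb7310bb53100bb9700bb5700bb9500bb7500bb9300bb7300bb5300bb1300bb9100bb7100bb5100bb31000bb9000bb7000bb5000bb3000bb10000bb0c57310b57310c75310b753100c97300b97300c57300b57300c95300b95300c75300b75300c71300b71300c51300b51300c97100b97100c57100b57100c95100b95100c75100b75100c73100b73100c53100b531000c97000b97000c57000b57))))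
noncomputable def TZ_cols : List (BT (Bx Nat)) := [TZ_c0, TZ_c1, TZ_c1, TZ_c3, TZ_c3, TZ_c5, TZ_c5, TZ_c7, TZ_c7, TZ_c9, TZ_c9, TZ_c11, TZ_c12]
noncomputable def TZ_ch (x j : Nat) : Bx Nat := chk TZ_cols x j
noncomputable def TZ_wc (_ j : Nat) : Bx Nat := TZ_w.get j
noncomputable def TZ : CT := ⟨(nat_lit 128), (nat_lit 7), (nat_lit 127), TZ_ch, (nat_lit 24), (nat_lit 16777215), TZ_wc, (nat_lit 8190)⟩
theorem TZ_ok : TZ.ok = true := by decide +kernel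
theorem TZ_rel : lall TZ.relOK RZ = true := by decide +kernel
noncomputable def eZ_c0 : BT (Bx Nat) := (BT.leaf (Bx.mk (nat_lit 0x0)))
noncomputable def eZ_c1 : BT (Bx Nat) := (BT.leaf (Bx.mk (nat_lit 0x2d6717a2796f6672c45a14c7a2e26c1047c7447f7116d9d65d2046fa047331660a567528463284807623a24c7688b446c4782847ba8425a4c27a4b26916496847ea04623cc37496402d672a566634b392c474a4b21a841e984773c42ea841c3167d9cc1da0b4894422904206cc4638b351c43fa84189222334434a84172843c6442ba22422042fa84148c4689c4582cc386845590c298446e444339c44c7c4284446420c53a4c11a4b102cb4ea840e70470304612844738465a840d3445438c5048b43a042a9cb1a9c41924b4b4165c944169c4156914da56328c44580c41a046aa0469ac16ba84088c45198c57a045f95656a8407ac15e98459ac15ba041398431a0b30ac152ac14f98c2da0c2cac14aa561ba0409a043ea043da8403ac13bac1369d106a4c05a4b04a5112ac124ac11f9840ca040ba040aac10fa8401ac10200000)))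
noncomputable def eZ_c2 : BT (Bx Nat) := (BT.leaf (Bx.mk (nat_lit 0x1857d805625c5771d48024573254702146fa8549705516357e11474185600c5762947c205662456c2057b1c57a9c52c6455d2a3714ce5e54d543634a80563a852324e728cd5040d3086d688717fa4d211e3752c52a4856b68e6d3e3329c5242233a8e7562c53434d3888559a232f5056aa85186e32b74e788856588e1b3054d3544e9ed1fa851430569ac1792ce36a85135a7269cd1a9c5195123b9451d945169c5152053c8c53190d2d24e3f4c5431c55a7052e30557a850d285483c53330d58423353855c90e3e3c5649c55574e398c53da0e6e6855230d5fa4e0ba4d0aa050e54546a8508a275bac1678c517a0561a85079854c4b51c98e424451e8454f98545a0d44ac15390e2298e41a0e40ac14bac14798506a4e05a4d04a050ca5427ac137a520fa0529a0528a8502ac125ac1209d212a0511a0510a8501ac109ac10300000)))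
noncomputable def eZ_c3 : BT (Bx Nat) := (BT.leaf (Bx.mk (nat_lit 0x1c67713a7411e7d0c67e0c6631de780de72086601867b21e8009f62046490c67f0df680867a27e5d0de51046668863e21f6c1c66d4c65554653a8624086731065a09f6fa86224062913f7c04676a86200de79a861f5392f20671a861d2c64a17d673de2ea861b346373463951e6ba86185b96a3863508670a861735e3431f3b4864335e2a29f1e31f5b09e75a86132463650625a0640a86114fa4d346327de12a5b4521f278df6ea860fa860e2c64e0c62339f56a860d39e5729f473df523064f4c62b39f42a062ca860b4c65e3865995e0ca5b3151b333064c45e64a86091c63fa860855f46ac16911f3aac165a8607ac161ac15f2464bac15c2de14ac158a0615a8605ac154ac1509db06a5b1a2861cac14878641ac144a8603ac13dac13cac1389062dac130a8602ac128ac126ac12198616ac119a8601ac110ac10aac10400000)))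
noncomputable def eZ_c4 : BT (Bx Nat) := (BT.leaf (Bx.mk (nat_lit 0x2d8756876d247722c7602e66c1477a1a07b747787a67988766a873a287803185a207712957e255732a66f24770a87286d57f2877ca153ba87244c74da8723820638d5778c75c4073d7c7678c75d2c7363187d8c758718439186292f654c7542c774a871b92e5f9e61f9584fa87185205ba242f6c746887493e432907565984a515692c738a073f5474e8d55188721987427265290712a07416c75e9d847a5c44a8710a534ba870f45564247149c76bac176a870d3204c7982e315613e01ca072a4071e387509070ca072d9c75374737a5c30a870a50726a5834a8709ac16ea87085602ba070eac16aac168a87078d548958179875745533a071338735ac15998706a0716ac15590720a5c19a87042953ca581d96045a8703ac140ac13ea5325ac13995531a8702ac12cac129ac127ac1229dc1aa8701ac115ac111ac10bac10500000)))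
noncomputable def eZ_c5 : BT (Bx Nat) := (BT.leaf (Bx.mk (nat_lit 0x19070728636c8781487b274741a87d08860248727347e62851088730d06f2087c0dd762a8791a83a148800887545064a1d671905a9a85b578435f82f768629c86d70849848484086e6c87f708683f4320e87a2d02e44824610238a9219486b1486c9081f348378081b9284c3744a5103ba084d51a3c5c8773483635a3830818a5d538c85631026308557506689a65850172c814a8811a08405086a94820a8810a5a442102b86929869284c8524c854148713482a3084f39a583a8503d00e3080d9dd2738861a880ba082c588692885fa880aa5a301c83f3a8398083e8083d988332c84ba081c4a95e5c85d808138485c99042950594a80890807a5d2585057a8805a08153744e80847a8804a5a193284686822a8803ac145ac141a08093883535034a8802ac131ac12da500f4481e9681da8801ac11aac116ac112ac10cac10600000)))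
noncomputable def eZ_c6 : BT (Bx Nat) := (BT.leaf (Bx.mk (nat_lit 0x30a698215ea8a55a8a5344a54a4f4da8a4b84a5270a4a9ca4e18f5b9cf3f28f3b48f6b48f3ca4f35a4f2fa4f2b40a5ca8a27a8a254d73d64f4134a2d90f4346133a0f465b77ea8a217ca246a16a68a6d28a26ac18044a6ea4f1eac17f5ca28a4f1c1ca7a1e17640f6c30a7d3cf3048a4034a1934f3ea4f1878a79ac17ca8a16a8a15ac17b20a4538f2ca4f14ac178ac177a8a12965592e538a8a1095968a6b209e14fa8a0f3a5507eb374d9294d944a4f0eac175ac174ac173ac172a8a0cac171a8a0b40f6734a6141965a8a0aac1703ca5f3d948a8a09ac16fa57363e55838a312ca114591a78a64a4f08ac166ac163ac162ac160a8a06ac15da8a05ac15aac157ac156a8a04ac151a0a47ac14ca8a03ac149a5922a571fac142a1939a8a02ac13aac134ac132ac12eac12aa8a01ac123ac11dac11bac117ac113ac10dac10700000)))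
noncomputable def eZ_c7 : BT (Bx Nat) := (BT.leaf (Bx.mk (nat_lit 0xa895fa895c5496536c56a894fa894c22c597f250a8948a894718958a8939a8938a8937a8936a8934a892ea892a4b35e6f0613c957449736496236c80909423c932a89223c9307ec24a8921a89203ac31a891f4302d7c97fa891d46c6e14976a891b9094538928a891aa8919ac17e4ac7cac17d8b079a89173493e98940a2c77a097ba8915ac17a77378a89133892ca6a169c9662704b4893b8c968a89106096a4fb5498975309524896b4497224974a890d9c90f289447893da0929a0971a890c40967a890b3fc2738955a0970a890a3bc693494aa096fa89094893c6305bac16d2ec60ac16c83063a8907a0912ac164a0941a0911a095da8906a095aa8905409253b353a0951a8904ac14eac14da0949a8903ac14633326ac143ac13fa093aa8902ac135ac133ac12fac12ba0923a8901ac11eac11cac118ac114ac10eac10800000)))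
noncomputable def eZ_p : BT (Bx Nat) := (BT.leaf (Bx.mk (nat_lit 0x117c68b834551e298f13c6898344b1e2485120688e343a121c8d0e0686e34361a1a0d0b86854342811938ec94764a0b24119206c8c46461322199106c8476423320199006c7c663e1b1e058e8cc7436380b1b198d88c6c36343319198c08c6036301318058b8cc5c362e0b161d8a8ec546628131405898cc4c362613121d888ac4436203b1019880ac40461e3b0f118786c38361c0b0d198688c34361a130d05860ec3066163b0b19858ac2c36143b0a19850ac2846123b09198488c24341022080d0404820140e320711038681c240e0a061d030c814740a32051502868107408320415020880c7406320315018880c34060a021d010c808540422020d010440472023101148088404320211010400000000)))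
noncomputable def eZ_e : BT Nat := BT.leaf (nat_lit 0)
noncomputable def eZ_cols : List (BT (Bx Nat)) := [eZ_c0, eZ_c1, eZ_c2, eZ_c3, eZ_c4, eZ_c5, eZ_c6, eZ_c7]
noncomputable def eZ_ch (x j : Nat) : Bx Nat := chunkG eZ_cols (nat_lit 1) x j
noncomputable def eZ_L (x : Nat) : Bx (Nat → Nat) := lookG eZ_ch (nat_lit 8) (nat_lit 255) (nat_lit 20) (nat_lit 1048575) x
noncomputable def eZ_pc (_ j : Nat) : Bx Nat := eZ_p.get j
noncomputable def eZ_pb : Bx (Nat → Nat) := lookG eZ_pc (nat_lit 8) (nat_lit 255) (nat_lit 17) (nat_lit 131071) (nat_lit 0)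
noncomputable def eZ_rots : BT CW := (BT.node (nat_lit 31) (BT.node (nat_lit 15) (BT.node (nat_lit 7) (BT.node (nat_lit 3) (BT.node (nat_lit 1) (BT.leaf ⟨[], (nat_lit 1000000), (nat_lit 0), (nat_lit 0), (nat_lit 0)⟩) (BT.node (nat_lit 2) (BT.leaf ⟨[], (nat_lit 1000000), (nat_lit 0), (nat_lit 0), (nat_lit 1)⟩) (BT.leaf ⟨[], (nat_lit 1000000), (nat_lit 0), (nat_lit 0), (nat_lit 2)⟩))) (BT.node (nat_lit 5) (BT.node (nat_lit 4) (BT.leaf ⟨[(nat_lit 1), (nat_lit 1)], (nat_lit 0), (nat_lit 0), (nat_lit 0), (nat_lit 3)⟩) (BT.leaf ⟨[(nat_lit 2), (nat_lit 2)], (nat_lit 1), (nat_lit 0), (nat_lit 0), (nat_lit 3)⟩)) (BT.node (nat_lit 6) (BT.leaf ⟨[(nat_lit 3), (nat_lit 3)], (nat_lit 2), (nat_lit 0), (nat_lit 0), (nat_lit 3)⟩) (BT.leaf ⟨[(nat_lit 4), (nat_lit 4)], (nat_lit 3), (nat_lit 0), (nat_lit 0), (nat_lit 3)⟩)))) (BT.node (nat_lit 11) (BT.node (nat_lit 9) (BT.node (nat_lit 8) (BT.leaf ⟨[(nat_lit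 5), (nat_lit 5)], (nat_lit 4), (nat_lit 0), (nat_lit 0), (nat_lit 3)⟩) (BT.leaf ⟨[(nat_lit 7), (nat_lit 6)], (nat_lit 16), (nat_lit 1), (nat_lit 0), (nat_lit 3)⟩)) (BT.node (nat_lit 10) (BT.leaf ⟨[(nat_lit 6), (nat_lit 7)], (nat_lit 16), (nat_lit 0), (nat_lit 0), (nat_lit 3)⟩) (BT.leaf ⟨[(nat_lit 1), (nat_lit 3), (nat_lit 1), (nat_lit 3)], (nat_lit 7), (nat_lit 0), (nat_lit 0), (nat_lit 3)⟩))) (BT.node (nat_lit 13) (BT.node (nat_lit 12) (BT.leaf ⟨[(nat_lit 1), (nat_lit 4), (nat_lit 1), (nat_lit 4)], (nat_lit 8), (nat_lit 0), (nat_lit 0), (nat_lit 3)⟩) (BT.leaf ⟨[(nat_lit 2), (nat_lit 3), (nat_lit 2), (nat_lit 3)], (nat_lit 9), (nat_lit 0), (nat_lit 0), (nat_lit 3)⟩)) (BT.node (nat_lit 14) (BT.leaf ⟨[(nat_lit 2), (nat_lit 4), (nat_lit 2), (nat_lit 4)], (nat_lit 10), (nat_lit 0), (nat_lit 0), (nat_lit 3)⟩) (BT.leaf ⟨[(nat_lit 6), (nat_lit 6), (nat_lit 6), (nat_lit 6)], (nat_lit 15), (nat_lit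 0), (nat_lit 0), (nat_lit 3)⟩))))) (BT.node (nat_lit 23) (BT.node (nat_lit 19) (BT.node (nat_lit 17) (BT.node (nat_lit 16) (BT.leaf ⟨[(nat_lit 5), (nat_lit 1), (nat_lit 2), (nat_lit 1), (nat_lit 2)], (nat_lit 5), (nat_lit 4), (nat_lit 0), (nat_lit 3)⟩) (BT.leaf ⟨[(nat_lit 1), (nat_lit 5), (nat_lit 2), (nat_lit 1), (nat_lit 2)], (nat_lit 27), (nat_lit 4), (nat_lit 0), (nat_lit 3)⟩)) (BT.node (nat_lit 18) (BT.leaf ⟨[(nat_lit 2), (nat_lit 1), (nat_lit 2), (nat_lit 1), (nat_lit 5)], (nat_lit 27), (nat_lit 1), (nat_lit 0), (nat_lit 3)⟩) (BT.leaf ⟨[(nat_lit 4), (nat_lit 2), (nat_lit 6), (nat_lit 1), (nat_lit 7)], (nat_lit 11), (nat_lit 3), (nat_lit 0), (nat_lit 3)⟩))) (BT.node (nat_lit 21) (BT.node (nat_lit 20) (BT.leaf ⟨[(nat_lit 2), (nat_lit 4), (nat_lit 6), (nat_lit 1), (nat_lit 7)], (nat_lit 33), (nat_lit 0), (nat_lit 0), (nat_lit 3)⟩) (BT.leaf ⟨[(nat_lit 4), (nat_lit 1), (nat_lit 4), (nat_lit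 1)], (nat_lit 8), (nat_lit 1), (nat_lit 0), (nat_lit 3)⟩)) (BT.node (nat_lit 22) (BT.leaf ⟨[(nat_lit 1), (nat_lit 7), (nat_lit 4), (nat_lit 2), (nat_lit 6)], (nat_lit 11), (nat_lit 1), (nat_lit 0), (nat_lit 3)⟩) (BT.leaf ⟨[(nat_lit 6), (nat_lit 1), (nat_lit 7), (nat_lit 2), (nat_lit 4)], (nat_lit 33), (nat_lit 2), (nat_lit 0), (nat_lit 3)⟩)))) (BT.node (nat_lit 27) (BT.node (nat_lit 25) (BT.node (nat_lit 24) (BT.leaf ⟨[(nat_lit 4), (nat_lit 7), (nat_lit 5), (nat_lit 2), (nat_lit 6)], (nat_lit 14), (nat_lit 1), (nat_lit 0), (nat_lit 3)⟩) (BT.leaf ⟨[(nat_lit 6), (nat_lit 4), (nat_lit 7), (nat_lit 2), (nat_lit 5)], (nat_lit 36), (nat_lit 2), (nat_lit 0), (nat_lit 3)⟩)) (BT.node (nat_lit 26) (BT.leaf ⟨[(nat_lit 5), (nat_lit 3), (nat_lit 4), (nat_lit 3), (nat_lit 4)], (nat_lit 6), (nat_lit 4), (nat_lit 0), (nat_lit 3)⟩) (BT.leaf ⟨[(nat_lit 3), (nat_lit 5), (nat_lit 4), (nat_lit 3), (nat_lit 4)],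 (nat_lit 28), (nat_lit 4), (nat_lit 0), (nat_lit 3)⟩))) (BT.node (nat_lit 29) (BT.node (nat_lit 28) (BT.leaf ⟨[(nat_lit 4), (nat_lit 3), (nat_lit 4), (nat_lit 3), (nat_lit 5)], (nat_lit 28), (nat_lit 1), (nat_lit 0), (nat_lit 3)⟩) (BT.leaf ⟨[(nat_lit 5), (nat_lit 2), (nat_lit 6), (nat_lit 4), (nat_lit 7)], (nat_lit 14), (nat_lit 3), (nat_lit 0), (nat_lit 3)⟩)) (BT.node (nat_lit 30) (BT.leaf ⟨[(nat_lit 3), (nat_lit 1), (nat_lit 3), (nat_lit 1)], (nat_lit 7), (nat_lit 1), (nat_lit 0), (nat_lit 3)⟩) (BT.leaf ⟨[(nat_lit 3), (nat_lit 2), (nat_lit 3), (nat_lit 2)], (nat_lit 9), (nat_lit 1), (nat_lit 0), (nat_lit 3)⟩)))))) (BT.node (nat_lit 47) (BT.node (nat_lit 39) (BT.node (nat_lit 35) (BT.node (nat_lit 33) (BT.node (nat_lit 32) (BT.leaf ⟨[(nat_lit 4), (nat_lit 2), (nat_lit 4), (nat_lit 2)], (nat_lit 10), (nat_lit 1), (nat_lit 0), (nat_lit 3)⟩) (BT.leaf ⟨[(nat_lit 6), (nat_lit 1), (nat_lit 7),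 (nat_lit 4), (nat_lit 2)], (nat_lit 11), (nat_lit 0), (nat_lit 0), (nat_lit 3)⟩)) (BT.node (nat_lit 34) (BT.leaf ⟨[(nat_lit 1), (nat_lit 7), (nat_lit 2), (nat_lit 4), (nat_lit 6)], (nat_lit 33), (nat_lit 3), (nat_lit 0), (nat_lit 3)⟩) (BT.leaf ⟨[(nat_lit 2), (nat_lit 6), (nat_lit 1), (nat_lit 7), (nat_lit 4)], (nat_lit 11), (nat_lit 4), (nat_lit 0), (nat_lit 3)⟩))) (BT.node (nat_lit 37) (BT.node (nat_lit 36) (BT.leaf ⟨[(nat_lit 4), (nat_lit 6), (nat_lit 1), (nat_lit 7), (nat_lit 2)], (nat_lit 33), (nat_lit 1), (nat_lit 0), (nat_lit 3)⟩) (BT.leaf ⟨[(nat_lit 6), (nat_lit 4), (nat_lit 7), (nat_lit 5), (nat_lit 2)], (nat_lit 14), (nat_lit 0), (nat_lit 0), (nat_lit 3)⟩)) (BT.node (nat_lit 38) (BT.leaf ⟨[(nat_lit 4), (nat_lit 7), (nat_lit 2), (nat_lit 5), (nat_lit 6)], (nat_lit 36), (nat_lit 3), (nat_lit 0), (nat_lit 3)⟩) (BT.leaf ⟨[(nat_lit 2), (nat_lit 1), (nat_lit 5), (nat_lit 2), (nat_lit 1)],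 (nat_lit 27), (nat_lit 3), (nat_lit 0), (nat_lit 3)⟩)))) (BT.node (nat_lit 43) (BT.node (nat_lit 41) (BT.node (nat_lit 40) (BT.leaf ⟨[(nat_lit 5), (nat_lit 2), (nat_lit 1), (nat_lit 2), (nat_lit 1)], (nat_lit 27), (nat_lit 0), (nat_lit 0), (nat_lit 3)⟩) (BT.leaf ⟨[(nat_lit 5), (nat_lit 4), (nat_lit 3), (nat_lit 4), (nat_lit 3)], (nat_lit 28), (nat_lit 0), (nat_lit 0), (nat_lit 3)⟩)) (BT.node (nat_lit 42) (BT.leaf ⟨[(nat_lit 7), (nat_lit 5), (nat_lit 3), (nat_lit 2), (nat_lit 6), (nat_lit 2)], (nat_lit 12), (nat_lit 2), (nat_lit 0), (nat_lit 3)⟩) (BT.leaf ⟨[(nat_lit 6), (nat_lit 2), (nat_lit 7), (nat_lit 2), (nat_lit 3), (nat_lit 5)], (nat_lit 34), (nat_lit 3), (nat_lit 0), (nat_lit 3)⟩))) (BT.node (nat_lit 45) (BT.node (nat_lit 44) (BT.leaf ⟨[(nat_lit 7), (nat_lit 7), (nat_lit 7), (nat_lit 7)], (nat_lit 37), (nat_lit 0), (nat_lit 0), (nat_lit 3)⟩) (BT.leaf ⟨[(nat_lit 2), (nat_lit 7), (nat_lit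 2), (nat_lit 3), (nat_lit 5), (nat_lit 6)], (nat_lit 34), (nat_lit 4), (nat_lit 0), (nat_lit 3)⟩)) (BT.node (nat_lit 46) (BT.leaf ⟨[(nat_lit 4), (nat_lit 3), (nat_lit 5), (nat_lit 4), (nat_lit 3)], (nat_lit 28), (nat_lit 3), (nat_lit 0), (nat_lit 3)⟩) (BT.leaf ⟨[(nat_lit 4), (nat_lit 3), (nat_lit 4), (nat_lit 5), (nat_lit 3)], (nat_lit 6), (nat_lit 1), (nat_lit 0), (nat_lit 3)⟩))))) (BT.node (nat_lit 55) (BT.node (nat_lit 51) (BT.node (nat_lit 49) (BT.node (nat_lit 48) (BT.leaf ⟨[(nat_lit 7), (nat_lit 2), (nat_lit 4), (nat_lit 6), (nat_lit 1)], (nat_lit 33), (nat_lit 4), (nat_lit 0), (nat_lit 3)⟩) (BT.leaf ⟨[(nat_lit 2), (nat_lit 7), (nat_lit 5), (nat_lit 3), (nat_lit 2), (nat_lit 6)], (nat_lit 12), (nat_lit 1), (nat_lit 0), (nat_lit 3)⟩)) (BT.node (nat_lit 50) (BT.leaf ⟨[(nat_lit 7), (nat_lit 2), (nat_lit 3), (nat_lit 5), (nat_lit 6), (nat_lit 2)], (nat_lit 34), (nat_lit 5), (nat_lit 0),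 (nat_lit 3)⟩) (BT.leaf ⟨[(nat_lit 7), (nat_lit 4), (nat_lit 2), (nat_lit 6), (nat_lit 1)], (nat_lit 11), (nat_lit 2), (nat_lit 0), (nat_lit 3)⟩))) (BT.node (nat_lit 53) (BT.node (nat_lit 52) (BT.leaf ⟨[(nat_lit 5), (nat_lit 6), (nat_lit 4), (nat_lit 7), (nat_lit 2)], (nat_lit 36), (nat_lit 1), (nat_lit 0), (nat_lit 3)⟩) (BT.leaf ⟨[(nat_lit 2), (nat_lit 5), (nat_lit 1), (nat_lit 2), (nat_lit 1)], (nat_lit 5), (nat_lit 3), (nat_lit 0), (nat_lit 3)⟩)) (BT.node (nat_lit 54) (BT.leaf ⟨[(nat_lit 1), (nat_lit 2), (nat_lit 1), (nat_lit 2), (nat_lit 5)], (nat_lit 5), (nat_lit 0), (nat_lit 0), (nat_lit 3)⟩) (BT.leaf ⟨[(nat_lit 6), (nat_lit 2), (nat_lit 7), (nat_lit 5), (nat_lit 3), (nat_lit 2)], (nat_lit 12), (nat_lit 0), (nat_lit 0), (nat_lit 3)⟩)))) (BT.node (nat_lit 59) (BT.node (nat_lit 57) (BT.node (nat_lit 56) (BT.leaf ⟨[(nat_lit 5), (nat_lit 6), (nat_lit 2), (nat_lit 7), (nat_lit 2), (nat_lit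 3)], (nat_lit 34), (nat_lit 2), (nat_lit 0), (nat_lit 3)⟩) (BT.leaf ⟨[(nat_lit 3), (nat_lit 4), (nat_lit 3), (nat_lit 5), (nat_lit 4)], (nat_lit 28), (nat_lit 2), (nat_lit 0), (nat_lit 3)⟩)) (BT.node (nat_lit 58) (BT.leaf ⟨[(nat_lit 3), (nat_lit 4), (nat_lit 3), (nat_lit 4), (nat_lit 5)], (nat_lit 6), (nat_lit 0), (nat_lit 0), (nat_lit 3)⟩) (BT.leaf ⟨[(nat_lit 7), (nat_lit 2), (nat_lit 5), (nat_lit 6), (nat_lit 4)], (nat_lit 36), (nat_lit 4), (nat_lit 0), (nat_lit 3)⟩))) (BT.node (nat_lit 61) (BT.node (nat_lit 60) (BT.leaf ⟨[(nat_lit 7), (nat_lit 5), (nat_lit 2), (nat_lit 6), (nat_lit 4)], (nat_lit 14), (nat_lit 2), (nat_lit 0), (nat_lit 3)⟩) (BT.leaf ⟨[(nat_lit 3), (nat_lit 2), (nat_lit 6), (nat_lit 2), (nat_lit 7), (nat_lit 5)], (nat_lit 12), (nat_lit 4), (nat_lit 0), (nat_lit 3)⟩)) (BT.node (nat_lit 62) (BT.leaf ⟨[(nat_lit 3), (nat_lit 5), (nat_lit 6), (nat_lit 2), (nat_lit 7), (nat_lit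 2)], (nat_lit 34), (nat_lit 1), (nat_lit 0), (nat_lit 3)⟩) (BT.leaf ⟨[(nat_lit 3), (nat_lit 4), (nat_lit 5), (nat_lit 3), (nat_lit 4)], (nat_lit 6), (nat_lit 2), (nat_lit 0), (nat_lit 3)⟩)))))))
noncomputable def eZ_hcs : List CW := []
noncomputable def eZ_H (x j : Nat) : Bx (Nat → Nat → Nat) := mkH eZ_L eZ_pb.1 eZ_e.get (lmap CW.w eZ_hcs) (nat_lit 128) (nat_lit 129) (nat_lit 8) (nat_lit 256) (nat_lit 16384) (nat_lit 16383) x (eZ_rots.get j)
noncomputable def eZ_F (x b : Nat) : Bool := blkOK eZ_H eZ_ch (nat_lit 129) (nat_lit 256) (nat_lit 64) (nat_lit 8) (nat_lit 255) (nat_lit 20) (nat_lit 1048575) x b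

theorem eZ_k0_0 : allFrom (eZ_F (nat_lit 0)) (nat_lit 0) (nat_lit 4) = true := by decide +kernel
theorem eZ_k1_0 : allFrom (eZ_F (nat_lit 1)) (nat_lit 0) (nat_lit 4) = true := by decide +kernel
theorem eZ_k2_0 : allFrom (eZ_F (nat_lit 2)) (nat_lit 0) (nat_lit 4) = true := by decide +kernel
theorem eZ_k3_0 : allFrom (eZ_F (nat_lit 3)) (nat_lit 0) (nat_lit 4) = true := by decide +kernel
theorem eZ_k4_0 : allFrom (eZ_F (nat_lit 4)) (nat_lit 0) (nat_lit 4) = true := by decide +kernel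
theorem eZ_k5_0 : allFrom (eZ_F (nat_lit 5)) (nat_lit 0) (nat_lit 4) = true := by decide +kernel
theorem eZ_k6_0 : allFrom (eZ_F (nat_lit 6)) (nat_lit 0) (nat_lit 4) = true := by decide +kernel
theorem eZ_k7_0 : allFrom (eZ_F (nat_lit 7)) (nat_lit 0) (nat_lit 4) = true := by decide +kernel

theorem eZ_all : Cov eZ_F 4 8 0 := by
  have h := Cov.zero eZ_F 4
  have h := h.blk (b := 4) eZ_k0_0 rfl
  have h := h.next (y := 1) rfl rfl
  have h := h.blk (b := 4) eZ_k1_0 rfl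
  have h := h.next (y := 2) rfl rfl
  have h := h.blk (b := 4) eZ_k2_0 rfl
  have h := h.next (y := 3) rfl rfl
  have h := h.blk (b := 4) eZ_k3_0 rfl
  have h := h.next (y := 4) rfl rfl
  have h := h.blk (b := 4) eZ_k4_0 rfl
  have h := h.next (y := 5) rfl rfl
  have h := h.blk (b := 4) eZ_k5_0 rfl
  have h := h.next (y := 6) rfl rfl
  have h := h.blk (b := 4) eZ_k6_0 rfl
  have h := h.next (y := 7) rfl rfl
  have h := h.blk (b := 4) eZ_k7_0 rfl
  have h := h.next (y := 8) rfl rfl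
  exact h

theorem eZ : Enum RZ [] (gensW 6) 128 :=
  ⟨eZ_cols, eZ_ch, eZ_L, eZ_H, eZ_pb.1, eZ_e.get, [(nat_lit 0), (nat_lit 1), (nat_lit 3), (nat_lit 5), (nat_lit 7), (nat_lit 9), (nat_lit 11), (nat_lit 12)], (nat_lit 31), (nat_lit 6), eZ_rots, eZ_hcs,
    (nat_lit 129), (nat_lit 8), (nat_lit 256), (nat_lit 64), (nat_lit 16384), (nat_lit 16383), (nat_lit 8), (nat_lit 255), (nat_lit 20), (nat_lit 1048575), (nat_lit 1), (nat_lit 4),
    fun _ _ => rfl, fun _ => rfl, fun _ _ => rfl, by decide +kernel, eZ_all.1⟩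

theorem pZ : TZ.Pres RZ (gensW 6) := ⟨CT.ok_spec TZ_ok, lall_iff.1 TZ_rel, by decide +kernel,
  by decide +kernel, by decide +kernel, eZ.bound (ug_rels _) (bound_nil _)⟩

instance instTZ : TZ.Grp := pZ.grp


end CF.Gb
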